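import Cfsg.Agent.Lib.LMS.SA
import Cfsg.Agent.Lib.LMS.CE

set_option autoImplicit false
set_option linter.unusedSectionVars false

namespace LMS

open Subgroup H69 Cfsg Matrix U4S
open scoped MatrixGroups commutatorElement

universe u
variable {G : Type*} [Group G] [Finite G] {F : Type u} [Field F] [CharP F 2] [Fintype F] {n : ℕ} [Ok n F]
  {ι ψ χ : XX n F →* G} {t : G} {E : Subgroup G}

local notation "X" => XX n F
local notation "I" => Fin (n + 3)
local notation "Mx" => Matrix (Fin (n + 3)) (Fin (n + 3)) F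

theorem trA (h : C2 ι t) {i : I} {d : G} (k : Cn ι (AA F i) d) (c : d * t = t * d) :
    ∃ x ∈ AA F i, ∃ o, Oo ι t o ∧ (d = ι x * o ∨ d = t * ι x * o) := by
  obtain ⟨x, hx, z, hz, rfl⟩ := cA h.em (h.CN d c) k
  obtain ⟨O, -, -, hO⟩ := h.od
  have c1 : Commute (ι x) t := (h.tc x).symm
  have c2 : z * t = t * z := by
    have := (show Commute (z * ι x) t from c).mul_left c1.inv_left
    rwa [mul_inv_cancel_right] at this
  obtain ⟨o, ho, e⟩ := hO z hz c2
  have c3 : ι x * o = o * ι x := ho.1 _ ⟨x, rfl⟩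
  refine ⟨x, hx, o, ho, e.imp (fun e => ?_) fun e => ?_⟩
  · rw [e, c3]
  · rw [e, mul_assoc, mul_assoc, c3]

namespace AS

/-- centralises the row and the odd elements, translates `t` by `x` -/
structure DD (ι : X →* G) (t : G) (i : I) (x : X) (d : G) : Prop where
  mem : x ∈ AA F i
  cn : Cn ι (AA F i) d
  co : CO ι t d
  tr : d * t * d⁻¹ = t * ι x

variable {i j l : Fin (n + 3)} {x y : XX n F} {d e : G}

theorem xeA (i l : I) (c : F) : (xe i l c : X) ∈ AA F i := subset_closure ⟨l, c, rfl⟩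

theorem DD.mul (a : DD ι t i x d) (b : DD ι t i y e) : DD ι t i (x * y) (d * e) where
  mem := mul_mem a.mem b.mem
  cn z hz := (show Commute d (ι z) from a.cn z hz).mul_left (b.cn z hz)
  co o ho := (show Commute d o from a.co o ho).mul_left (b.co o ho)
  tr := by
    calc _ = d * (e * t * e⁻¹) * d⁻¹ := by group
      _ = d * t * d⁻¹ * (d * ι y * d⁻¹) := by rw [b.tr]; group
      _ = _ := by rw [a.tr, a.cn y b.mem, map_mul]; group

theorem DD.inv (a : DD ι t i x d) : DD ι t i x⁻¹ d⁻¹ where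
  mem := inv_mem a.mem
  cn z hz := (show Commute d (ι z) from a.cn z hz).inv_left
  co o ho := (show Commute d o from a.co o ho).inv_left
  tr := by
    calc _ = d⁻¹ * (t * ι x) * ((ι x)⁻¹ * d) := by group
      _ = _ := by
        rw [← a.tr, ← (show Commute d (ι x) from a.cn x a.mem).inv_right.eq, map_inv]; group

theorem DD.one (a : DD ι t i 1 d) : d * t = t * d := by
  have := a.tr
  rwa [map_one, mul_one, mul_inv_eq_iff_eq_mul] at this

theorem sq_tr (h : C2 ι t) {o : G} (hx : x ∈ AA F i) (ho : Oo ι t o) (k : d = ι x * o ∨ d = t * ι x * o) :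
    d * d = o * o := by
  have c1 : Commute (ι x) o := ho.1 _ ⟨x, rfl⟩
  have c2 : ι x * ι x = 1 := by rw [← map_mul, el_AA i x hx, map_one]
  rcases k with rfl | rfl
  · rw [← sq, c1.mul_pow, sq, c2, one_mul, sq]
  · rw [← sq, ((show Commute o t from ho.2.1).symm.mul_left c1).mul_pow,
      (show Commute t (ι x) from h.tc x).mul_pow, sq, sq, c2, h.t2, one_mul, one_mul, sq]

theorem DD.sq1 (a : DD ι t i x d) : DD ι t i 1 (d * d) := el_AA i x a.mem ▸ a.mul a

theorem p2mul (h : C2 ι t) (a : DD ι t i x d) (b : DD ι t i y e) (p : P2 d) (q : P2 e) : P2 (d * e) := by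
  obtain ⟨O, h1, h2, -⟩ := h.od
  let D : Subgroup G :=
    { carrier := {d | ∃ x, DD ι t i x d}
      one_mem' := ⟨1, one_mem _, fun _ _ => by simp, fun _ _ => by simp, by simp⟩
      mul_mem' := fun ⟨_, a⟩ ⟨_, b⟩ => ⟨_, a.mul b⟩
      inv_mem' := fun ⟨_, a⟩ => ⟨_, a.inv⟩ }
  refine (two_sub (D := D) (fun o ho d ⟨_, a⟩ => a.co o ((h1 o).1 ho)) h2 fun d ⟨_, a⟩ => ⟨2, ?_⟩).1
    d ⟨_, a⟩ e ⟨_, b⟩ p q
  obtain ⟨z, hz, o, ho, k⟩ := trA h a.sq1.cn a.sq1.one
  rw [show d ^ 2 ^ 2 = d * d * (d * d) by rw [show 2 ^ 2 = 2 + 2 from rfl, pow_add, sq], sq_tr h hz ho k]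
  exact mul_mem ((h1 o).2 ho) ((h1 o).2 ho)

theorem p2sq (p : P2 d) : P2 (d * d) := by
  obtain ⟨k, hk⟩ := p
  exact ⟨k, by rw [(Commute.refl d).mul_pow, hk, one_mul]⟩

theorem p2inv (p : P2 d) : P2 d⁻¹ := by
  obtain ⟨k, hk⟩ := p
  exact ⟨k, by rw [inv_pow, hk, inv_one]⟩

theorem ker (h : C2 ι t) (k : Cn ι (AA F i) d) (c : d * t = t * d) (p : P2 d) :
    ∃ y ∈ AA F i, d = ι y ∨ d = t * ι y := by
  obtain ⟨z, hz, o, ho, k⟩ := trA h k c
  have h1 := p2sq p
  rw [sq_tr h hz ho k] at h1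
  have h2 : P2 o := by
    obtain ⟨m, hm⟩ := h1
    exact ⟨m + 1, by rw [pow_succ', pow_mul, sq, hm]⟩
  rw [h2.eq_one ho.2.2, mul_one, mul_one] at k
  exact ⟨z, hz, k⟩

theorem sqA (h : C2 ι t) (a : DD ι t i x d) (p : P2 d) : ∃ y ∈ AA F i, d * d = ι y := by
  obtain ⟨y, hy, e | e⟩ := ker h a.sq1.cn a.sq1.one (p2sq p)
  · exact ⟨y, hy, e⟩
  have c : Commute d t := by
    have := ((Commute.refl d).mul_right (Commute.refl d)).mul_right
      (show Commute d (ι y) from a.cn y hy).inv_right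
    rwa [e, mul_inv_cancel_right] at this
  obtain ⟨z, hz, k⟩ := ker h a.cn c p
  have := sq_tr h (d := d) (o := 1) hz ⟨one_mem _, by simp, by simp⟩ (by simpa using k)
  rw [e, one_mul, mul_eq_one_iff_eq_inv] at this
  exact absurd ⟨y⁻¹, by rw [this, map_inv]⟩ h.toC1.t_not

theorem dd_of {c : F} (k : SV ι t i j c d) : DD ι t i (xe i j c) d :=
  ⟨xeA _ _ _, fun z hz => k.1.1 z (Subgroup.closure_mono (by
    rintro _ ⟨l, c, e⟩; exact ⟨l, c, .inl e⟩) hz), k.2.1, k.1.2⟩

theorem ent (e : Em ι) (h1 : i ≠ j) (h2 : i ≠ l) (h3 : j ≠ l) (hx : x ∈ AA F i)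
    (c : ∀ b, b ≠ i → b ≠ j → b ≠ l → Commute (ι (xe b l 1)) (ι x)) : ∃ p p', x = xe i j p * xe i l p' := by
  refine ⟨x.1 i j, x.1 i l, Subtype.ext (Matrix.ext fun a b => ?_)⟩
  have hy := mul_mem (xeA i j (x.1 i j)) (xeA i l (x.1 i l))
  have hQ : ∀ {z : X}, z ∈ AA F i → z.1 i i = (1 : Mx) i i := fun hz =>
    (mem_QQ' h1).1 ((mem_QQ h1).2 ⟨_, hz, 1, one_mem _, (mul_one _).symm⟩) i i (.inr rfl)
  by_cases ha : a = i
  swap
  · rw [mem_AA.1 hx a b ha, mem_AA.1 hy a b ha]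
  subst ha
  by_cases hb : b = a
  · rw [hb, hQ hx, hQ hy]
  have cm : ∀ u v : X, (u * v).1 = u.1 * v.1 := fun _ _ => rfl
  rw [cm, xe_val h1, xe_val h2]
  simp only [add_mul, mul_add, one_mul, mul_one, single_mul_single_of_ne _ _ _ _ h1.symm, add_zero,
    Matrix.add_apply, one_apply_ne (Ne.symm hb), zero_add]
  by_cases hj : b = j
  · subst hj; simp [single_apply, h3.symm]
  by_cases hl : b = l
  · subst hl; simp [single_apply, h3]
  have := congrArg (fun z : X => z.1 a l) (e.comm2 (P2.of_sq (el_AA a x hx)) (c b hb hj hl).symm)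
  simp only [cm, xe_val hl, add_mul, mul_add, one_mul, mul_one, Matrix.add_apply,
    mul_single_apply_same, single_mul_apply_of_ne _ _ _ _ _ (Ne.symm hb), add_right_inj] at this
  simp [this, single_apply, Ne.symm hj, Ne.symm hl]

theorem cmP (h : C2 ι t) {c : F} (h1 : i ≠ j) (h2 : i ≠ l) (k : SV ι t i j c d) {b : I} (hb : b ≠ j) :
    Commute (ι (xe b l 1)) d :=
  (k.1.dP h h1 _ (subset_closure ⟨b, l, 1, hb, h2.symm, rfl⟩)).symm

end AS

open AS

theorem cmA (h : C3 ι t) {i j l : I} (h1 : i ≠ j) (h2 : i ≠ l) (h3 : j ≠ l) {c c' : F} {w e : G}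
    (hw : SV ι t i j c w) (he : SV ι t i l c' e) : ∃ f f', w * e = ι (xe i j f * xe i l f') * (e * w) := by
  have a := dd_of hw
  have b := dd_of he
  obtain ⟨x, hx, ex⟩ := sqA h.toC2 a hw.2.2
  obtain ⟨y, hy, ey⟩ := sqA h.toC2 b he.2.2
  obtain ⟨z, hz, ez⟩ := sqA h.toC2 (a.mul b) (p2mul h.toC2 a b hw.2.2 he.2.2)
  have k : ι (z * y⁻¹ * x⁻¹) = w * e * (e * w)⁻¹ := by
    have c : Commute e (ι x) := b.cn x hx
    rw [map_mul, map_mul, map_inv, map_inv, ← ez, ← ey]
    calc _ = w * e * (w * (e⁻¹ * (ι x)⁻¹)) := by group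
      _ = _ := by rw [c.inv_left.inv_right.eq, ← ex]; group
  obtain ⟨f, f', e'⟩ := ent h.em h1 h2 h3 (mul_mem (mul_mem hz (inv_mem hy)) (inv_mem hx)) fun b _ b1 b2 => by
    have c1 := cmP h.toC2 h1 h2 hw b1
    have c2 := cmP h.toC2 h2 h2 he b2
    exact k ▸ (c1.mul_right c2).mul_right (c2.mul_right c1).inv_right
  exact ⟨f, f', by rw [← e', k, inv_mul_cancel_right]⟩

theorem actA (h : C3 ι t) {i j l : I} (h1 : i ≠ j) (h2 : i ≠ l) (h3 : j ≠ l) {c : F} (a : F) {w e : G}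
    (hw : SV ι t i j c w) (he : SV ι t i l (c * a) e) : ∃ p p',
      ι (xe j l a) * w * ι (xe j l a) = w * e * ι (xe i j p * xe i l p') ∨
      ι (xe j l a) * w * ι (xe j l a) = w * e * t * ι (xe i j p * xe i l p') := by
  have a1 := dd_of hw
  have a2 := dd_of he
  have hu : (ι (xe j l a))⁻¹ = ι (xe j l a) := by rw [← map_inv, xe_inv]
  have hc : ∀ s, xe j l a * xe i j s * xe j l a = (xe i j s * xe i l (s * a) : X) := fun s => by
    rw [← xe_c1 h1 h3 h2, ← mul_assoc, ← mul_assoc, ← mul_assoc, xe_sq, one_mul]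
  have a3 : DD ι t i (xe i j c * xe i l (c * a)) (ι (xe j l a) * w * ι (xe j l a)) := by
    refine ⟨mul_mem (xeA _ _ _) (xeA _ _ _), fun z hz => ?_, fun o ho => ?_, ?_⟩
    · have : AA F i ≤ (centralizer {ι (xe j l a) * w * ι (xe j l a)}).comap ι := (closure_le _).2 (by
        rintro _ ⟨b, s, rfl⟩
        have m : xe j l a * xe i b s * xe j l a ∈ AA F i := by
          by_cases hb : b = j
          · rw [hb, hc]; exact mul_mem (xeA _ _ _) (xeA _ _ _)
          · rw [← xe_c0 h2 hb, mul_assoc, xe_sq, mul_one]; exact xeA _ _ _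
        have := a1.cn _ m
        rw [map_mul, map_mul] at this
        refine mem_centralizer_singleton_iff.2 ?_
        have uu : ι (xe j l a) * ι (xe j l a) = 1 := by rw [← map_mul, xe_sq, map_one]
        generalize ι (xe j l a) = u at this uu
        calc _ = u * u * ι (xe i b s) * (u * w * u) := by rw [uu, one_mul]
          _ = u * (u * ι (xe i b s) * u * w) * u := by group
          _ = u * w * u * ι (xe i b s) * (u * u) := by rw [← this]; group
          _ = _ := by rw [uu, mul_one])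
      exact (mem_centralizer_singleton_iff.1 (this hz)).symm
    · have c1 : Commute (ι (xe j l a)) o := ho.1 _ ⟨_, rfl⟩
      exact (c1.mul_left (a1.co o ho)).mul_left c1
    · have c1 : Commute t (ι (xe j l a)) := h.tc _
      calc _ = ι (xe j l a) * (w * (ι (xe j l a) * t * (ι (xe j l a))⁻¹) * w⁻¹) * (ι (xe j l a))⁻¹ := by group
        _ = _ := by
          rw [← c1.eq, mul_inv_cancel_right, a1.tr, ← hc, map_mul, map_mul, hu, ← mul_assoc, ← c1.eq]
          group
  have a4 := (a1.mul a2).inv.mul a3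
  have p3 : P2 (ι (xe j l a) * w * ι (xe j l a)) := by
    have := hw.2.2.cjg (ι (xe j l a))
    rwa [hu] at this
  have p4 := p2mul h.toC2 (a1.mul a2).inv a3 (p2inv (p2mul h.toC2 a1 a2 hw.2.2 he.2.2)) p3
  rw [inv_mul_cancel] at a4
  obtain ⟨y, hy, k⟩ := ker h.toC2 a4.cn a4.one p4
  obtain ⟨p, p', e'⟩ := ent h.em h1 h2 h3 hy fun b _ b1 b2 => by
    have c1 := cmP h.toC2 h1 h2 hw b1
    have c2 := cmP h.toC2 h2 h2 he b2
    have c3 : Commute (ι (xe b l 1)) (ι (xe j l a)) := (show Commute _ _ from xe_c0 b2 h3.symm 1 a).map ι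
    have c4 := (c1.mul_right c2).inv_right.mul_right ((c3.mul_right c1).mul_right c3)
    rcases k with k | k
    · exact k ▸ c4
    · have := (show Commute (ι (xe b l 1)) t from (h.tc _).symm).inv_right.mul_right c4
      rwa [k, inv_mul_cancel_left] at this
  exact ⟨p, p', k.imp (fun k => by rw [← e', ← k, mul_inv_cancel_left])
    fun k => by rw [← e', mul_assoc _ t, ← k, mul_inv_cancel_left]⟩

end LMS
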