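import Cfsg.Agent.Lib.LMS.B6b
import Cfsg.Agent.Lib.U4S.GB

set_option autoImplicit false
set_option linter.unusedSectionVars false

namespace LMS

open Subgroup H69 Cfsg Matrix U4S
open scoped MatrixGroups commutatorElement

universe u
variable {G : Type*} [Group G] [Finite G] {F : Type u} [Field F] [CharP F 2] [Fintype F] {n : ℕ} [Ok n F]
  {ι ψ χ : XX n F →* G} {t : G} {E : Subgroup G}

local notation "X" => XX n F
local notation "I" => Fin (n + 3)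
local notation "Mx" => Matrix (Fin (n + 3)) (Fin (n + 3)) F

theorem C1.cj (h : C1 ι t) (g : G) : C1 (cι ι g) (g * t * g⁻¹) where
  em := h.em.cj g
  t2 := by rw [conj_mul, h.t2, mul_one, mul_inv_cancel]
  t1 := fun e => h.t1 (conj_eq_one_iff.1 e)
  tc x := cj_comm_iff.2 (h.tc x)
  CN c e := by
    obtain ⟨d, rfl⟩ := exists_cj g c
    rw [range_cι, ← cj_normalizer]; exact cj_mem g (h.CN d (cj_comm_iff.1 e))
  uq c hc c2 e := by
    obtain ⟨d, rfl⟩ := exists_cj g c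
    rw [range_cι, ← cj_centralizer, cj_mem_iff] at hc
    rw [conj_mul, conj_eq_one_iff] at c2
    rcases h.uq d hc c2 (cj_comm_iff.1 e) with rfl | rfl <;> simp

theorem C2.cj (h : C2 ι t) (g : G) : C2 (cι ι g) (g * t * g⁻¹) where
  toC1 := h.toC1.cj g
  two c hc e p := by
    obtain ⟨d, rfl⟩ := exists_cj g c
    rw [range_cι, ← cj_centralizer, cj_mem_iff] at hc
    have := p.cjg g⁻¹
    rw [show g⁻¹ * (g * d * g⁻¹) * g⁻¹⁻¹ = d by group] at this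
    rcases h.two d hc (cj_comm_iff.1 e) this with rfl | rfl <;> simp

theorem C1.of_range (h : C1 ι t) (e : Em ψ) (k : ψ.range = ι.range) : C1 ψ t where
  em := e
  t2 := h.t2
  t1 := h.t1
  tc x := by
    obtain ⟨y, hy⟩ := k.le ⟨x, rfl⟩
    rw [← hy]; exact h.tc y
  CN := k ▸ h.CN
  uq := k ▸ h.uq

theorem C2.of_range (h : C2 ι t) (e : Em ψ) (k : ψ.range = ι.range) : C2 ψ t :=
  ⟨h.toC1.of_range e k, k ▸ h.two⟩

theorem C1.tC (h : C1 ι t) : t ∈ 𝐂(ι.range) := by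
  rintro _ ⟨x, rfl⟩; exact (h.tc x).symm

theorem C1.t_not (h : C1 ι t) : t ∉ ι.range := fun k =>
  h.t1 ((P2.of_sq h.t2).eq_one (h.em.cc k h.tC))

theorem B7.kc (h : C1 ι t) {k : G} {u : X} (c : k * ι u * t = t * (k * ι u)) : k * t = t * k := by
  rw [mul_assoc, ← h.tc, ← mul_assoc, ← mul_assoc] at c
  exact mul_right_cancel c

theorem C1.inn (h : C1 ι t) {a : G} (i : Inn ι.range a) (p : a * a = 1) (c : a * t = t * a) :
    ∃ u, u * u = 1 ∧ (a = ι u ∨ a = t * ι u) := by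
  obtain ⟨u, k, u2, k2, hk, rfl⟩ := h.em.deci i p
  refine ⟨u, u2, ?_⟩
  rcases h.uq k hk k2 (B7.kc h c) with e | e
  · exact Or.inl (by rw [e, one_mul])
  · exact Or.inr (by rw [e])

theorem C2.inn2 (h : C2 ι t) {a : G} (i : Inn ι.range a) (p : P2 a) (c : a * t = t * a) :
    ∃ u, P2 u ∧ (a = ι u ∨ a = t * ι u) := by
  obtain ⟨u, k, u2, k2, hk, rfl⟩ := h.em.dec2 i p
  refine ⟨u, u2, ?_⟩
  rcases h.two k hk (B7.kc h.toC1 c) k2 with e | e
  · exact Or.inl (by rw [e, one_mul])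
  · exact Or.inr (by rw [e])

theorem B7.od (h : C2 ι t) : ∃ O, Od ι.range t O ∧ Odd (Nat.card O) := by
  have hS : IsSylowIn 2 (zpowers t) (𝐂(ι.range) ⊓ centralizer {t}) :=
    ⟨(zpowers_le).2 (mem_inf.2 ⟨h.toC1.tC, mem_centralizer_singleton_iff.2 rfl⟩),
      (P2.of_sq h.t2).isP, fun R h1 h2 h3 => le_antisymm (fun r hr => by
        rcases h.two r (h2 hr).1 (mem_centralizer_singleton_iff.1 (h2 hr).2) (P2.of_mem h3 hr) with
          e | e
        · exact e ▸ one_mem _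
        · exact e ▸ mem_zpowers t) h1⟩
  obtain ⟨O, o1, o2, o3⟩ := cent_split hS ((zpowers_le).2 (mem_centralizer_iff_commute.2
    fun a ha => mem_centralizer_singleton_iff.1 ha.2))
  refine ⟨O, ⟨fun c => ?_, fun c hc ht => ?_⟩, o2⟩
  · rw [o1, mem_inf, mem_centralizer_singleton_iff, and_assoc]
  · obtain ⟨p, hp, o, ho, e⟩ := o3 c (mem_inf.2 ⟨hc, mem_centralizer_singleton_iff.2 ht⟩)
    rcases (mem_zp h.t2).1 hp with rfl | rfl
    · exact ⟨o, ho, Or.inl (by simpa using e)⟩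
    · exact ⟨o, ho, Or.inr e⟩

theorem C2.od (h : C2 ι t) : ∃ O : Subgroup G, (∀ o, o ∈ O ↔ Oo ι t o) ∧ Odd (Nat.card O) ∧
    ∀ c ∈ 𝐂(ι.range), c * t = t * c → ∃ o, Oo ι t o ∧ (c = o ∨ c = t * o) := by
  obtain ⟨O, hO, oO⟩ := B7.od h
  refine ⟨O, hO.mem, oO, fun c hc e => ?_⟩
  obtain ⟨o, ho, k⟩ := hO.dec c hc e
  exact ⟨o, (hO.mem o).1 ho, k⟩

theorem C2.perf (h : C2 ι t) {Y : Subgroup G} (hY : ⁅Y, Y⁆ = Y) (c : ∀ y ∈ Y, y * t = t * y) : Y ≤ ι.range := by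
  obtain ⟨O, hO, oO⟩ := B7.od h
  obtain ⟨K, hK, k1⟩ := h.em.sub_dg
  have OC : O ≤ 𝐂(ι.range) := fun x hx => ((hO.mem x).1 hx).1
  have yN : Y ≤ 𝐍(ι.range) := fun y hy => h.CN y (c y hy)
  have h0 : Y ≤ K := by
    rw [← hY]; exact (commutator_mono yN yN).trans k1
  have h1 : Y ≤ ι.range ⊔ 𝐂(ι.range) := by
    rw [← hY, Subgroup.commutator_le]
    intro a ha b hb
    exact inn_iff.1 (Dg.comm ((hK a).1 (h0 ha)) ((hK b).1 (h0 hb)))
  have h2 : Y ≤ ι.range ⊔ (𝐂(ι.range) ⊓ centralizer {t}) := fun y hy => by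
    obtain ⟨_, ⟨x, rfl⟩, k, hk, e⟩ := inn_iff.2 (h1 hy)
    have : k * t = t * k := B7.kc h.toC1 (e ▸ c y hy)
    rw [e]
    exact mul_mem (mem_sup_right (mem_inf.2 ⟨hk, mem_centralizer_singleton_iff.2 this⟩))
      (mem_sup_left ⟨x, rfl⟩)
  have h3 : ⁅𝐂(ι.range) ⊓ centralizer {t}, 𝐂(ι.range) ⊓ centralizer {t}⁆ ≤ O := by
    rw [Subgroup.commutator_le]
    intro a ha b hb
    have ta := mem_centralizer_singleton_iff.1 ha.2
    obtain ⟨u, hu, eu⟩ := hO.dec a ha.1 ta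
    obtain ⟨w, hw, ew⟩ := hO.dec b hb.1 (mem_centralizer_singleton_iff.1 hb.2)
    have tw := ((hO.mem w).1 hw).2.1
    have tu := ((hO.mem u).1 hu).2.1
    have m : u * w * u⁻¹ * w⁻¹ ∈ O := mul_mem (mul_mem (mul_mem hu hw) (inv_mem hu)) (inv_mem hw)
    have k1 : a * w * a⁻¹ = u * w * u⁻¹ := by
      rcases eu with rfl | rfl
      · rfl
      · rw [← tu]
        calc u * t * w * (u * t)⁻¹ = u * (t * w) * t⁻¹ * u⁻¹ := by group
          _ = _ := by rw [← tw]; group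
    rw [commutatorElement_def]
    rcases ew with rfl | rfl
    · rwa [k1]
    · rw [← tw]
      have : a * (w * t) * a⁻¹ * (w * t)⁻¹ = a * w * a⁻¹ * w⁻¹ := by
        calc a * (w * t) * a⁻¹ * (w * t)⁻¹ = a * w * a⁻¹ * (a * t) * a⁻¹ * t⁻¹ * w⁻¹ := by group
          _ = _ := by rw [ta]; group
      rwa [this, k1]
  have h4 : ∀ n, Y ≤ ι.range ⊔ (derivedSeries O n).map O.subtype := fun n => by
    induction n with
    | zero =>
      rw [derivedSeries_zero, map_subtype_top]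
      exact (GB_step inf_le_left hY h2).trans (sup_le_sup_left h3 _)
    | succ n ih =>
      rw [derivedSeries_succ, map_commutator]
      exact GB_step ((map_subtype_le _).trans OC) hY ih
  obtain ⟨m, hn⟩ := (Cfsg.Agent.S0205.result oO).solvable
  have := h4 m
  rwa [hn, Subgroup.map_bot, sup_bot_eq] at this

theorem C2.par (h : C2 ι t) (e : Em ψ) (c : ∀ x, t * ψ x = ψ x * t) : ψ.range = ι.range :=
  h.em.range_eq e (h.perf (range_pf pf_X ψ) (by rintro _ ⟨x, rfl⟩; exact (c x).symm))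

theorem two_sub {D Z : Subgroup G} (hZ : Z ≤ 𝐂(D)) (o : Odd (Nat.card Z)) (h : ∀ d ∈ D, ∃ k : ℕ, d ^ 2 ^ k ∈ Z) :
    (∀ a ∈ D, ∀ b ∈ D, P2 a → P2 b → P2 (a * b)) ∧ ∀ d ∈ D, ∃ z ∈ Z, z ∈ zpowers d ∧ P2 (d * z⁻¹) := by
  haveI : Fact (Nat.Prime 2) := ⟨Nat.prime_two⟩
  have ZD : ∀ z ∈ Z, ∀ d ∈ D, d * z = z * d := fun z hz d hd => hZ hz d hd
  have odz : ∀ z ∈ Z, Odd (orderOf z) := fun z hz => o.of_dvd_nat (Z.orderOf_dvd_natCard hz)
  have sec : ∀ d ∈ D, ∃ z ∈ Z, z ∈ zpowers d ∧ P2 (d * z⁻¹) := fun d hd => by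
    obtain ⟨k, hk⟩ := h d hd
    have co : (2 ^ k).Coprime (orderOf (d ^ 2 ^ k)) :=
      Nat.Coprime.pow_left k (Nat.coprime_two_left.2 (odz _ hk))
    obtain ⟨m, hm⟩ := exists_pow_eq_self_of_coprime co
    refine ⟨(d ^ 2 ^ k) ^ m, pow_mem hk m, pow_mem (pow_mem (mem_zpowers d) _) _, k, ?_⟩
    have cm : Commute d ((d ^ 2 ^ k) ^ m)⁻¹ := (((Commute.refl d).pow_right _).pow_right _).inv_right
    rw [cm.mul_pow, inv_pow, ← pow_mul _ m, mul_comm m, pow_mul, hm, mul_inv_cancel]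
  refine ⟨fun a ha b hb pa pb => ?_, sec⟩
  have q : IsPGroup 2 (D ⧸ center D) := fun x => by
    obtain ⟨d, rfl⟩ := QuotientGroup.mk_surjective x
    obtain ⟨k, hk⟩ := h d d.2
    refine ⟨k, ?_⟩
    rw [← QuotientGroup.mk_pow, QuotientGroup.eq_one_iff, mem_center_iff]
    intro g
    exact Subtype.ext (ZD _ hk g g.2)
  obtain ⟨j, hj⟩ := IsPGroup.iff_card.1 q
  have e := map_mul (MonoidHom.transferCenterPow D) ⟨a, ha⟩ ⟨b, hb⟩
  have e2 : (a * b) ^ 2 ^ j = a ^ 2 ^ j * b ^ 2 ^ j := by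
    have := congrArg (fun x : center D => ((x : D) : G)) e
    simp only [coe_mul, MonoidHom.transferCenterPow_apply, coe_pow, index_eq_card, hj] at this
    exact this
  have cm : Commute (a ^ 2 ^ j) (b ^ 2 ^ j) := by
    have := mem_center_iff.1 (MonoidHom.transferCenterPow D ⟨b, hb⟩).2 (⟨a, ha⟩ ^ 2 ^ j)
    rw [MonoidHom.transferCenterPow_apply, index_eq_card, hj] at this
    exact congrArg Subtype.val this
  obtain ⟨r, hr⟩ := pa
  obtain ⟨s, hs⟩ := pb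
  refine ⟨j + (r + s), ?_⟩
  rw [pow_add, pow_mul, e2, cm.mul_pow, ← pow_mul, ← pow_mul, mul_comm (2 ^ j), pow_mul, pow_mul, pow_add,
    pow_mul, hr, mul_comm (2 ^ r), pow_mul, hs]
  simp

end LMS
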