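import Cfsg.Agent.Lib.LMS.SA

set_option autoImplicit false
set_option linter.unusedSectionVars false

namespace LMS

open Subgroup H69 Cfsg Matrix U4S
open scoped MatrixGroups commutatorElement

universe u
variable {G : Type*} [Group G] [Finite G] {F : Type u} [Field F] [CharP F 2] [Fintype F] {n : ℕ} [Ok n F]
  {ι ψ χ : XX n F →* G} {t : G} {E : Subgroup G}

local notation "X" => XX n F
local notation "I" => Fin (n + 3)
local notation "Mx" => Matrix (Fin (n + 3)) (Fin (n + 3)) F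

namespace BK

theorem zL : (0 : I) ≠ iL := fun e => by simpa using congrArg Fin.val e

theorem pn_Q {γ : X →* X} {φ : RingAut F} {ε : Bool} (h : Pn γ φ ε) (i : Function.Injective γ) :
    (QQ F 0 iL).map γ = QQ F 0 iL := by
  obtain ⟨d, hd⟩ := h
  have k : ∀ (i j : I) (c : F), (i = 0 ∨ j = iL) → (xe i j c : X) ∈ QQ F 0 iL := by
    rintro i j c (rfl | rfl)
    exacts [subset_closure ⟨j, c, Or.inl rfl⟩, subset_closure ⟨i, c, Or.inr rfl⟩]
  have k' : ∀ (i j : I) (c : F), (i = 0 ∨ j = iL) → γ (xe i j c) ∈ QQ F 0 iL := fun i j c e => by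
    by_cases ij : i = j
    · rw [ij, xe_self, map_one]; exact one_mem _
    rw [hd]
    split_ifs
    · refine k _ _ _ (e.symm.imp ?_ ?_) <;> rintro rfl <;> simp
    · exact k _ _ _ e
  refine eq_of_le_of_card_ge (map_le_iff_le_comap.2 ((closure_le _).2 ?_)) (card_map_of_injective i).ge
  rintro _ ⟨l, c, rfl | rfl⟩
  exacts [k' _ _ _ (Or.inl rfl), k' _ _ _ (Or.inr rfl)]

end BK

theorem tr_par (e : Em ι) (e' : Em ψ) (h : ψ.range = ι.range) : ∃ (l : X) (β : F → F), Function.Bijective β ∧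
    (QQ F 0 iL).map ψ = (QQ F 0 iL).map ι ^ᶜ ι l ∧ ∀ c, ψ (xe 0 iL c) = ι l * ι (xe 0 iL (β c)) * (ι l)⁻¹ := by
  choose b hb using fun x => (h.le ⟨x, rfl⟩ : ψ x ∈ ι.range)
  obtain ⟨g, φ, ε, hα⟩ := aut_psl e b (fun x y => by rw [hb, hb, hb, map_mul]) fun y => by
    obtain ⟨x, hx⟩ := h.ge ⟨y, rfl⟩
    exact ⟨x, (hb x).trans hx⟩
  simp only [hb] at hα
  obtain ⟨l0, -, h0⟩ := sylU.exists_cj_le (sylU.isP.map (au g φ ε)) le_top
  obtain ⟨g1, e1⟩ := cn_au l0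
  obtain ⟨g2, e2⟩ := au_comp g1 g 1 φ false ε
  rw [← e1] at e2
  obtain ⟨u, -, p⟩ := nU (g := g2) (φ := 1 * φ) (ε := xor false ε) fun x hx => by
    rw [← e2]
    exact h0 (cj_mem l0 (mem_map_of_mem _ hx))
  have inj : Function.Injective ((cn u).comp (au g2 (1 * φ) (xor false ε))) :=
    (MulAut.conj u).injective.comp (au_bij _ _ _).1
  have hψ : ∀ x, ψ x = ι (u * l0)⁻¹ * ι ((cn u).comp (au g2 (1 * φ) (xor false ε)) x) * (ι (u * l0)⁻¹)⁻¹ :=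
    fun x => by
      rw [hα, ← e2, ← map_inv, ← map_mul, ← map_mul]
      simp only [MonoidHom.comp_apply, cn_apply]
      congr 1
      group
  have hQ := BK.pn_Q p inj
  obtain ⟨d, hd⟩ := p
  generalize (cn u).comp (au g2 (1 * φ) (xor false ε)) = γ at hψ hQ hd
  refine ⟨(u * l0)⁻¹, fun c => d 0 * (d iL)⁻¹ * (1 * φ) c,
    (mulLeft_bijective₀ _ (by simp)).comp (1 * φ).bijective, ?_, fun c => ?_⟩
  · conv_rhs => rw [← hQ]
    rw [Subgroup.map_map, Subgroup.map_map]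
    congr 1
    exact MonoidHom.ext hψ
  · rw [hψ, hd]
    split_ifs <;> simp

namespace BK

theorem yy_le (h : C1 ι t) (e' : Em ψ) (k : ψ.range = ι.range) : YY ψ t ≤ YY ι t := by
  obtain ⟨l, β, hβ, hQ, hx⟩ := tr_par h.em e' k
  refine (closure_le _).2 ?_
  rintro _ ⟨x, c, w, ⟨⟨w1, w2⟩, w3, w4, w5⟩, rfl⟩
  obtain ⟨x', hx'⟩ := k.le ⟨x, rfl⟩
  have lt : (ι l)⁻¹ * t * ι l = t := by rw [mul_assoc, h.tc, inv_mul_cancel_left]
  refine subset_closure ⟨x' * l, β c, (ι l)⁻¹ * w * ι l, ⟨⟨fun y hy => ?_, ?_⟩, fun o ho => ?_, ?_,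
    fun a ea => ?_⟩, by rw [map_mul, hx']; group⟩
  · obtain ⟨y', hy', ey⟩ := hQ.ge (cj_mem (ι l) (mem_map_of_mem ι hy))
    have := w1 y' hy'
    rw [ey] at this
    calc _ = (ι l)⁻¹ * (w * (ι l * ι y * (ι l)⁻¹)) * ι l := by group
      _ = _ := by rw [this]; group
  · calc _ = (ι l)⁻¹ * (w * (ι l * t * (ι l)⁻¹) * w⁻¹) * ι l := by group
      _ = (ι l)⁻¹ * t * ι l * ι (xe 0 iL (β c)) := by
        rw [← h.tc, mul_inv_cancel_right, w2, hx]; group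
      _ = _ := by rw [lt]
  · have c1 : Commute (ι l) o := ho.1 _ ⟨l, rfl⟩
    exact ((c1.inv_left.mul_left (w3 o ⟨k ▸ ho.1, ho.2⟩)).mul_left c1).eq
  · calc _ = (ι l)⁻¹ * (w * w) * ι l := by group
      _ = 1 := by rw [w4]; group
  · obtain ⟨a, rfl⟩ := hβ.2 a
    refine w5 a ?_
    calc w = ι l * ((ι l)⁻¹ * w * ι l) * (ι l)⁻¹ := by group
      _ = ι l * ((ι l)⁻¹ * t * ι l * ι (xe 0 iL (β a))) * (ι l)⁻¹ := by rw [ea, lt]
      _ = _ := by rw [hx]; group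

theorem cj_le' (g : G) : YY ι t ^ᶜ g ≤ YY (cι ι g) (g * t * g⁻¹) := by
  refine map_le_iff_le_comap.2 ((closure_le _).2 ?_)
  rintro _ ⟨x, c, w, ⟨⟨w1, w2⟩, w3, w4, w5⟩, rfl⟩
  refine subset_closure ⟨x, c, g * w * g⁻¹, ⟨⟨fun y hy => cj_comm_iff.2 (w1 y hy), ?_⟩, fun o ho => ?_, ?_,
    fun a ea => w5 a ?_⟩, ?_⟩
  · rw [cι_apply, conj_mul (b := g) (a := t), ← w2]; group
  · obtain ⟨o, rfl⟩ := exists_cj g o
    refine cj_comm_iff.2 (w3 o ⟨?_, cj_comm_iff.1 ho.2.1, ?_⟩)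
    · rintro _ ⟨y, rfl⟩
      exact cj_comm_iff.1 (ho.1 _ ⟨y, rfl⟩)
    · exact (MulAut.conj g).orderOf_eq o ▸ ho.2.2
  · rw [conj_mul, w4]; group
  · rw [cι_apply, conj_mul] at ea
    exact (MulAut.conj g).injective ea
  · change g * _ * g⁻¹ = _
    rw [cι_apply]; group

end BK

theorem yy_par (h : C1 ι t) (e' : Em ψ) (k : ψ.range = ι.range) : YY ψ t = YY ι t :=
  le_antisymm (BK.yy_le h e' k) (BK.yy_le (h.of_range e' k) h.em k.symm)

theorem yy_cj (g : G) : YY (cι ι g) (g * t * g⁻¹) = YY ι t ^ᶜ g := by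
  refine le_antisymm (fun y hy => mem_cj.2 ?_) (BK.cj_le' g)
  have := BK.cj_le' g⁻¹ (cj_mem g⁻¹ hy)
  rwa [show cι (cι ι g) g⁻¹ = ι from MonoidHom.ext fun x => by rw [cι_apply, cι_apply]; group,
    show g⁻¹ * (g * t * g⁻¹) * g⁻¹⁻¹ = t by group, inv_inv] at this

theorem cM (h : C1 ι t) {c : G} (k : c * t = t * c) : c ∈ 𝐍(YY ι t) := by
  have := yy_cj (ι := ι) (t := t) c
  rw [k, mul_inv_cancel_right, yy_par h (h.em.cj c) ((range_cι c).trans (cj_eq_of_mem_normalizer (h.CN c k)))] at this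
  exact cj_eq_self_iff.1 this.symm

theorem bk (h : C4 ι t) {g : G} (e : Em ψ) (c : ∀ x, g * t * g⁻¹ * ψ x = ψ x * (g * t * g⁻¹)) {H : Subgroup G}
    (le : ψ.range ≤ H) (k : ∀ c, ∃ u ∈ H, u * u = 1 ∧ D0 ψ (g * t * g⁻¹) 0 iL c u) : YY ι t ^ᶜ g ≤ H := by
  have h1 := h.toC2.cj g
  have r := h1.par e c
  have h2 := h1.of_range e r
  rw [← yy_cj, ← yy_par h1.toC1 e r]
  generalize g * t * g⁻¹ = s at h2 k
  refine (closure_le _).2 ?_
  rintro _ ⟨x, c, w, hw, rfl⟩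
  refine mul_mem (mul_mem (le ⟨x, rfl⟩) ?_) (inv_mem (le ⟨x, rfl⟩))
  by_cases c0 : c = 0
  · obtain ⟨a, rfl⟩ := Xs.ker h2 BK.zL (c0 ▸ hw)
    exact le ⟨_, rfl⟩
  obtain ⟨u, hu, u2, d⟩ := k c
  obtain ⟨a, o, ho, eo⟩ := D0.ker h2 BK.zL (CharTwo.add_self_eq_zero c ▸ D0.mul BK.zL hw.1 d)
  have x2 : ∀ a, ψ (xe 0 iL a) * ψ (xe 0 iL a) = 1 := fun a => by rw [← map_mul, xe_sq, map_one]
  have xo : ∀ y, Commute (ψ y) o := fun y => ho.1 _ ⟨y, rfl⟩
  have wo : Commute w o := hw.2.1 o ho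
  have wx : Commute w (ψ (xe 0 iL a)) := hw.1.1 _ (subset_closure ⟨iL, a, Or.inl rfl⟩)
  have so : Commute s o := Eq.symm ho.2.1
  have sx : Commute s (ψ (xe 0 iL a)) := h2.tc _
  have w2 := hw.2.2.1
  have key : ∀ v, Commute v o → Commute v (ψ (xe 0 iL a)) → u = v * ψ (xe 0 iL a) * o →
      v * v * (o * o) = 1 := fun v h1 h2 h3 => by
    rw [← u2, h3, (h1.mul_left (xo _)).symm.mul_mul_mul_comm, h2.symm.mul_mul_mul_comm, x2, mul_one]
  rcases eo with eo | eo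
  · have := key w wo wx (by rw [mul_assoc, ← eo, ← mul_assoc, w2, one_mul])
    rw [w2, one_mul] at this
    rw [(P2.of_sq this).eq_one ho.2.2, mul_one] at eo
    rw [eq_mul_inv_of_mul_eq eo]
    exact mul_mem (le ⟨_, rfl⟩) (inv_mem hu)
  · have := key (w * s) (wo.mul_left so) (wx.mul_left sx) (by
      rw [mul_assoc w, mul_assoc w, ← eo, ← mul_assoc, w2, one_mul])
    have ws : w * s * (w * s) = ψ (xe 0 iL c) := by
      rw [← mul_assoc, ← congrArg (w * s * · * s) (inv_eq_of_mul_eq_one_left w2), hw.1.2, h2.tc, mul_assoc,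
        h2.t2, mul_one]
    rw [ws] at this
    have o4 : o ^ 2 ^ 2 = 1 := by
      have e4 := x2 c
      rw [eq_inv_of_mul_eq_one_left this, ← _root_.mul_inv_rev, inv_eq_one] at e4
      rw [← e4]; simp [pow_succ, mul_assoc]
    rw [P2.eq_one ⟨2, o4⟩ ho.2.2, mul_one, mul_one] at this
    exact absurd (xe_cen BK.zL (e this)) c0

end LMS
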