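import Cfsg.Agent.Lib.LMS.B7
import Cfsg.Agent.Lib.LMS.B3
import Cfsg.Agent.S1754

set_option autoImplicit false
set_option linter.unusedSectionVars false

namespace LMS

open Subgroup H69 Cfsg Matrix U4S
open scoped MatrixGroups commutatorElement

universe u
variable {G : Type*} [Group G] [Finite G] {F : Type u} [Field F] [CharP F 2] [Fintype F] {n : ℕ} [Ok n F]
  {ι ψ χ : XX n F →* G} {t : G} {E : Subgroup G}

local notation "X" => XX n F
local notation "I" => Fin (n + 3)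
local notation "Mx" => Matrix (Fin (n + 3)) (Fin (n + 3)) F

namespace COV

theorem p2_inv {x : G} (h : P2 x) : P2 x⁻¹ := let ⟨k, hk⟩ := h; ⟨k, by rw [inv_pow, hk, inv_one]⟩

theorem p2_mul {x y : G} (h : P2 x) (h' : P2 y) (c : x * y = y * x) : P2 (x * y) := by
  obtain ⟨k, hk⟩ := h
  obtain ⟨l, hl⟩ := h'
  refine ⟨k + l, ?_⟩
  rw [Commute.mul_pow c, pow_add, pow_mul, hk, mul_comm (2 ^ k), pow_mul, hl]; simp

theorem uq2 {N : Subgroup G} (hN : N ≤ center G) (o : Odd (Nat.card N)) {x y : G} (hx : P2 x) (hy : P2 y)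
    (h : x⁻¹ * y ∈ N) : x = y := by
  have c : x⁻¹ * y = y * x⁻¹ := by
    have := mem_center_iff.1 (hN h) x
    rw [mul_inv_cancel_left] at this
    rw [eq_mul_inv_iff_mul_eq]; exact this.symm
  have := (p2_mul (p2_inv hx) hy c).eq_one (o.of_dvd_nat (orderOf_dvd_natCard _ h))
  exact inv_mul_eq_one.1 this

theorem cyc_uq {B : Subgroup G} (hB : El B) (c : IsCyclic B) {a b : G} (ha : a ∈ B) (hb : b ∈ B)
    (b1 : b ≠ 1) : a = 1 ∨ a = b := by
  obtain ⟨g, hg⟩ := c.exists_generator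
  have k : ∀ x ∈ B, x = 1 ∨ x = g.1 := fun x hx => by
    obtain ⟨m, hm⟩ := hg ⟨x, hx⟩
    exact (mem_zp (hB g.1 g.2)).1 ⟨m, by simpa using congrArg Subtype.val hm⟩
  rcases k a ha with h | h
  · exact .inl h
  · rcases k b hb with h' | h'
    · exact absurd h' b1
    · exact .inr (h.trans h'.symm)

end COV

open COV

theorem cov {Γ : Type*} [Group Γ] [Finite Γ] (hp : commutator Γ = ⊤) (N : Subgroup Γ) [N.Normal]
    (hN : N ≤ center Γ) (o : Odd (Nat.card N))
    (e : (Γ ⧸ N) ≃* Matrix.ProjectiveSpecialLinearGroup (Fin (n + 3)) F) :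
    ∃ ι : X →* Γ, Em ι ∧ Function.Surjective ι := by
  let π : Γ →* X ⧸ center X := e.toMonoidHom.comp (QuotientGroup.mk' N)
  let m : X →* X ⧸ center X := QuotientGroup.mk' _
  have hπ : Function.Surjective π := e.surjective.comp (QuotientGroup.mk'_surjective _)
  have ker : ∀ {x y : Γ}, π x = π y → x⁻¹ * y ∈ N := fun h => QuotientGroup.eq.1 (e.injective h)
  have uq : ∀ {x y : Γ}, P2 x → P2 y → π x = π y → x = y := fun hx hy h => uq2 hN o hx hy (ker h)
  have ex : ∀ i j : I, ∀ c : F, ∃ y : Γ, P2 y ∧ π y = m (xe i j c) := fun i j c => by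
    obtain ⟨y, hy⟩ := hπ (m (xe i j c))
    obtain ⟨k, ⟨l, rfl⟩, hk⟩ := exists_P2_pow y
    refine ⟨_, hk, ?_⟩
    rw [map_pow, hy, ← map_pow, pow_succ, pow_mul, sq, xe_sq, one_pow, one_mul]
  choose x x2 hx using ex
  have mul : ∀ {i l : I}, i ≠ l → ∀ a ∈ ((QQ F i l).map m).comap π, ∀ b ∈ ((QQ F i l).map m).comap π,
      P2 a → P2 b → P2 (a * b) := fun {i l} h => by
    refine (two_sub (Z := N) (fun z hz => mem_centralizer_iff.2 fun g _ => mem_center_iff.1 (hN hz) g) o ?_).1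
    rintro d ⟨u, hu, e1⟩
    obtain ⟨k, hk⟩ := P2.of_mem (isP_QQ h) hu
    refine ⟨k, ?_⟩
    have : π 1 = π (d ^ 2 ^ k) := by rw [map_pow, ← e1, ← map_pow, hk, map_one, map_one]
    simpa using ker this
  have m1 : ∀ (i j l : I) (c : F), x i j c ∈ ((QQ F i l).map m).comap π := fun i j l c =>
    ⟨_, subset_closure ⟨j, c, .inl rfl⟩, (hx i j c).symm⟩
  have m2 : ∀ (i j l : I) (c : F), x j l c ∈ ((QQ F i l).map m).comap π := fun i j l c =>
    ⟨_, subset_closure ⟨j, c, .inr rfl⟩, (hx j l c).symm⟩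
  let S : H63.St.PreStA I F Γ :=
    { x := x
      add := fun {i j} h a b => uq (mul h _ (m1 _ _ _ _) _ (m1 _ _ _ _) (x2 ..) (x2 ..)) (x2 ..) (by
        rw [map_mul, hx, hx, hx, ← map_mul, xe_mul])
      c0 := fun {i j k l} _ _ h3 h4 a b => uq (mul h3 _ (m1 _ _ _ _) _ (m2 _ _ _ _) (x2 ..) (x2 ..))
        (mul h3 _ (m2 _ _ _ _) _ (m1 _ _ _ _) (x2 ..) (x2 ..)) (by
        rw [map_mul, map_mul, hx, hx, ← map_mul, ← map_mul, xe_c0 h3 h4])
      c1 := fun {i j l} h1 h2 h3 a b => uq (by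
        rw [commutatorElement_def]
        exact mul h3 _ (mul_mem (mul_mem (m1 _ _ _ _) (m2 _ _ _ _)) (inv_mem (m1 _ _ _ _))) _
          (inv_mem (m2 _ _ _ _)) ((x2 ..).cjg _) (p2_inv (x2 ..))) (x2 ..) (by
        rw [map_commutatorElement, hx, hx, hx, ← map_commutatorElement, commutatorElement_def, xe_inv, xe_inv,
          xe_c1 h1 h2 h3]) }
  obtain ⟨ι, hι⟩ := H63.St.SL.exists_hom (by omega) S
  have comp : π.comp ι = m := ext_xe fun i j c => by
    by_cases h : i = j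
    · subst h; rw [xe_self, map_one, map_one]
    · exact (congrArg π (hι i j h c)).trans (hx i j c)
  have comp' : ∀ y, π (ι y) = m y := fun y => DFunLike.congr_fun comp y
  refine ⟨ι, fun y hy => ?_, ?_⟩
  · have := comp' y
    rw [MonoidHom.mem_ker.1 hy, map_one] at this
    exact (QuotientGroup.eq_one_iff y).1 this.symm
  · have dec : ∀ g : Γ, ∃ y, ∃ z ∈ center Γ, g = ι y * z := fun g => by
      obtain ⟨y, hy⟩ := QuotientGroup.mk'_surjective (center X) (π g)
      exact ⟨y, _, hN (ker ((comp' y).trans hy)), (mul_inv_cancel_left _ _).symm⟩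
    rw [← MonoidHom.range_eq_top, eq_top_iff, ← hp, _root_.commutator_def, commutator_le]
    intro g _ h _
    obtain ⟨y, z, hz, rfl⟩ := dec g
    obtain ⟨y', z', hz', rfl⟩ := dec h
    refine ⟨⁅y, y'⁆, ?_⟩
    have c := mem_center_iff.1 hz
    have c' := mem_center_iff.1 hz'
    rw [map_commutatorElement, commutatorElement_def, commutatorElement_def]
    have k : ∀ a b w : Γ, (∀ g, g * w = w * g) → a * w * b * (a * w)⁻¹ = a * b * a⁻¹ := fun a b w hw => by
      rw [mul_assoc a, ← hw b]; group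
    rw [k _ _ _ c, ← mul_assoc (ι y), mul_assoc _ z', ← c']
    group

theorem exists_c1 (L : Subgroup G) (hL : IsStandardSubgroup L)
    (hR : ∀ R : Sylow 2 ↥(centralizer (L : Set G)), IsCyclic ↥(R : Subgroup ↥(centralizer (L : Set G))))
    (hX : Nonempty ((↥L ⧸ oddCore ↥L) ≃* Matrix.ProjectiveSpecialLinearGroup (Fin (n + 3)) F)) :
    ∃ (ι : X →* G) (t : G), ι.range = L ∧ C1 ι t := by
  obtain ⟨e⟩ := hX
  have hN : oddCore ↥L ≤ center ↥L := by
    refine (qs_normal hL.1 _).resolve_right fun h => ?_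
    have : Subsingleton (↥L ⧸ oddCore ↥L) := by rw [h]; exact QuotientGroup.subsingleton_quotient_top
    have h01 : (0 : I) ≠ iL := by simp [Fin.ext_iff]
    have k : ((xe 0 iL (1 : F) : X) : X ⧸ center X) = 1 := by
      obtain ⟨y, hy⟩ := e.surjective (((xe 0 iL (1 : F) : X) : X ⧸ center X))
      rw [← hy, Subsingleton.elim y 1, map_one]
    exact one_ne_zero (xe_cen h01 ((QuotientGroup.eq_one_iff _).1 k))
  obtain ⟨ι, em, hs⟩ := cov hL.1.1.commutator_eq_top (oddCore ↥L) hN H1.odd_card_oddCore e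
  have hr : (L.subtype.comp ι).range = L := by
    rw [MonoidHom.range_comp, MonoidHom.range_eq_top.2 hs, ← MonoidHom.range_eq_map, range_subtype]
  obtain ⟨⟨t, ht⟩, ho⟩ := exists_prime_orderOf_dvd_card' (G := centralizer (L : Set G)) 2
    (even_iff_two_dvd.1 hL.2.1.1)
  rw [← Subgroup.orderOf_coe] at ho
  have hn := (Cfsg.Agent.S1754.result _ hL t ho ht).1
  have t2 : t * t = 1 := by rw [← sq, ← ho]; exact pow_orderOf_eq_one t
  have t1 : t ≠ 1 := by rintro rfl; simp at ho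
  refine ⟨L.subtype.comp ι, t, hr, fun y hy => em (Subtype.ext hy), t2, t1,
    fun y => (mem_centralizer_iff.1 ht _ (ι y).2).symm, fun g hg => ?_, fun c hc c2 ct => ?_⟩
  · rw [hr]; exact hn (mem_centralizer_singleton_iff.2 hg)
  · rw [hr] at hc
    have hB : El (zpowers c ⊔ zpowers t) := (el_zpowers c2).sup (el_zpowers t2) (by
      rintro _ ⟨a, rfl⟩ _ ⟨b, rfl⟩
      exact (Commute.zpow_zpow (show Commute c t from ct) a b).eq)
    have hle : zpowers c ⊔ zpowers t ≤ centralizer (L : Set G) := sup_le (zpowers_le.2 hc) (zpowers_le.2 ht)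
    obtain ⟨T, hT⟩ := (hB.isP.comap_subtype :
      IsPGroup 2 ((zpowers c ⊔ zpowers t).subgroupOf (centralizer (L : Set G)))).exists_le_sylow
    have := hR T
    have : IsCyclic ((zpowers c ⊔ zpowers t).subgroupOf (centralizer (L : Set G))) :=
      isCyclic_of_injective _ (inclusion_injective hT)
    exact cyc_uq hB (isCyclic_of_surjective _ (subgroupOfEquivOfLe hle).surjective)
      (mem_sup_left (mem_zpowers c)) (mem_sup_right (mem_zpowers t)) t1

end LMS
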