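import Cfsg.Agent.Lib.LMS.SA

set_option autoImplicit false
set_option linter.unusedSectionVars false

namespace LMS

open Subgroup H69 Cfsg Matrix U4S
open scoped MatrixGroups commutatorElement

universe u
variable {G : Type*} [Group G] [Finite G] {F : Type u} [Field F] [CharP F 2] [Fintype F] {n : ℕ} [Ok n F]
  {ι ψ χ : XX n F →* G} {t : G} {E : Subgroup G}

local notation "X" => XX n F
local notation "I" => Fin (n + 3)
local notation "Mx" => Matrix (Fin (n + 3)) (Fin (n + 3)) F

namespace DB1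

theorem cP (h : C4 ι t) {i j a b : I} (hij : i ≠ j) {c : F} {w : G} (hw : Xs ι t i j c w) (h1 : a ≠ j)
    (h2 : b ≠ i) (s : F) : Commute w (ι (xe a b s)) :=
  hw.1.dP h.toC2 hij _ (subset_closure ⟨a, b, s, h1, h2, rfl⟩)

theorem xsq (i j : I) (s : F) : ι (xe i j s) * ι (xe i j s) = 1 := by rw [← map_mul, xe_sq, map_one]

theorem one_of_sq {o : G} (ho : Oo ι t o) (h : o * o = 1) : o = 1 := (P2.of_sq h).eq_one ho.2.2

theorem cO {o : G} (ho : o ∈ 𝐂(ι.range)) (x : X) : Commute o (ι x) :=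
  (mem_centralizer_iff_commute.1 ho _ ⟨x, rfl⟩).symm

/-- a group computation -/
theorem g1 {w e x : G} (w2 : w * w = 1) (e2 : e * e = 1) (wx : Commute w x)
    (c1 : Commute w (e * x * e * x)) (c2 : Commute e (e * x * e * x)) (x2 : x * x = 1)
    (y2 : e * x * e * x * (e * x * e * x) = 1) :
    Commute (w * e * w * e) x ∧ Commute (e * w * e * w) x := by
  have wi : w⁻¹ = w := inv_eq_of_mul_eq_one_right w2
  have ei : e⁻¹ = e := inv_eq_of_mul_eq_one_right e2
  obtain ⟨y, hy⟩ : ∃ y, y = e * x * e * x := ⟨_, rfl⟩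
  rw [← hy] at c1 c2 y2
  have ex : e * x = y * x * e := by
    rw [hy]
    calc e * x = e * x * (e * (x * x) * e) := by rw [x2, mul_one, e2, mul_one]
      _ = _ := by group
  have key : Commute (w * e * w * e) x := by
    calc w * e * w * e * x = w * e * w * (e * x) := by group
      _ = w * e * (w * y) * x * e := by rw [ex]; group
      _ = w * (e * y) * (w * x) * e := by rw [c1.eq]; group
      _ = w * y * (e * x) * w * e := by rw [c2.eq, wx.eq]; group
      _ = w * (y * y) * x * e * w * e := by rw [ex]; group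
      _ = (w * x) * e * w * e := by rw [y2]; group
      _ = x * (w * e * w * e) := by rw [wx.eq]; group
  refine ⟨key, ?_⟩
  have := key.inv_left
  rwa [_root_.mul_inv_rev, _root_.mul_inv_rev, _root_.mul_inv_rev, wi, ei, ← mul_assoc,
    ← mul_assoc] at this

theorem cenQ (h : C4 ι t) {i j k l : I} (h1 : i ≠ j) (h2 : k ≠ l) (h3 : i ≠ l) (h4 : i ≠ k) (h5 : j ≠ l)
    {c c' : F} {w e : G} (hw : Xs ι t i j c w) (he : Xs ι t k l c' e) :
    Cn ι (QQ F i l) (w * e * w * e) := by
  have both : ∀ x : G, Commute w x → Commute e x → Commute (w * e * w * e) x := fun x a b =>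
    ((a.mul_left b).mul_left a).mul_left b
  have : QQ F i l ≤ (centralizer {w * e * w * e}).comap ι := by
    refine (closure_le _).2 ?_
    rintro y ⟨m, s, rfl | rfl⟩
    · refine mem_centralizer_singleton_iff.2 (Commute.symm ?_)
      by_cases e1 : m = i
      · rw [e1, xe_self, map_one]; exact Commute.one_right _
      by_cases e2 : m = k
      · subst e2
        have y := h.actc i m l h4 h3 h2 c' s e he
        exact (g1 hw.2.2.1 he.2.2.1 (cP h h1 hw h1 e1 s) (h.row.cm i j l h1 h3 _ _ _ _ hw y)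
          (h.cmc i l m h3 h2 _ _ _ _ y he).symm (xsq _ _ _) y.2.2.1).1
      · exact both _ (cP h h1 hw h1 e1 s) (cP h h2 he h3 e2 s)
    · refine mem_centralizer_singleton_iff.2 (Commute.symm ?_)
      by_cases e1 : m = l
      · rw [e1, xe_self, map_one]; exact Commute.one_right _
      by_cases e2 : m = j
      · subst e2
        have y := h.row.act i m l h1 h3 h5 c s w hw
        exact (g1 he.2.2.1 hw.2.2.1 (cP h h2 he e1 h2.symm s) (h.cmc i l k h3 h2 _ _ _ _ y he).symm
          (h.row.cm i m l h1 h3 _ _ _ _ hw y) (xsq _ _ _) y.2.2.1).2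
      · exact both _ (cP h h1 hw e2 h3.symm s) (cP h h2 he e1 h2.symm s)
  exact fun x hx => (mem_centralizer_singleton_iff.1 (this hx)).symm

theorem co4 {w e : G} (a : CO ι t w) (b : CO ι t e) : CO ι t (w * e * w * e) := fun o ho =>
  (((show Commute w o from a o ho).mul_left (b o ho)).mul_left (a o ho)).mul_left (b o ho)

theorem inv4 {w e : G} (w2 : w * w = 1) (e2 : e * e = 1) :
    w * e * w * e * (w * (w * e * w * e) * w⁻¹) = 1 := by
  rw [inv_eq_of_mul_eq_one_right w2]
  calc _ = w * e * w * (e * (w * w) * e) * w * e * w := by simp only [mul_assoc]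
    _ = w * e * w * 1 * w * e * w := by rw [w2, mul_one e, e2]
    _ = w * e * (w * w) * e * w := by simp only [mul_assoc, one_mul]
    _ = w * (e * e) * w := by rw [w2]; simp only [mul_assoc, one_mul]
    _ = 1 := by rw [e2, mul_one, w2]

theorem tq (h : C4 ι t) {i j l : I} (h1 : i ≠ j) (h2 : i ≠ l) (h3 : j ≠ l) {c c' : F} {w e : G}
    (hw : Xs ι t i j c w) (he : Xs ι t j l c' e) :
    ∃ c'', w * e * w * e * t * (w * e * w * e)⁻¹ = t * ι (xe i l c'') := by
  have y := h.actc i j l h1 h2 h3 c' c e he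
  have y' := h.row.act i j l h1 h2 h3 c c' w hw
  have m := h.row.mul i l h2 _ _ _ _ y' y
  rw [CharTwo.add_self_eq_zero] at m
  obtain ⟨a, ha⟩ := m.ker h.toC2 h2
  have wy : Commute w _ := h.row.cm i j l h1 h2 _ _ _ _ hw y
  have wy' : Commute w _ := h.row.cm i j l h1 h2 _ _ _ _ hw y'
  have ey' : Commute _ e := h.cmc i l j h2 h3 _ _ _ _ y' he
  have wp := cP h h1 hw h1 h1.symm c
  have eq := cP h h3 he h3 h3.symm c'
  have yp := cP h h2 y h2 h1.symm c
  have yq := cP h h2 y h3 h2.symm c'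
  have yp' := cP h h2 y' h2 h1.symm c
  have y2' := y'.2.2.1
  have wt := hw.1.2
  have et := he.1.2
  have w2 := hw.2.2.1
  have e2 := he.2.2.1
  have p2 := xsq (ι := ι) i j c
  have q2 := xsq (ι := ι) j l c'
  have r : ι (xe i j c) * ι (xe j l c') * ι (xe i j c) * ι (xe j l c') = ι (xe i l (c * c')) := by
    rw [← xe_c1 h1 h3 h2, map_mul, map_mul, map_mul]
  refine ⟨a + c * c', ?_⟩
  rw [← xe_mul, map_mul, ← ha, ← r]
  generalize ι (xe i j c) = p at *
  generalize ι (xe j l c') = q at *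
  have wq : w * q * w⁻¹ = w * q * w * q * q := by
    rw [inv_eq_of_mul_eq_one_right w2, mul_assoc _ q q, q2, mul_one]
  have ep : e * p * e⁻¹ = e * p * e * p * p := by
    rw [inv_eq_of_mul_eq_one_right e2, mul_assoc _ p p, p2, mul_one]
  generalize w * q * w * q = u at *
  generalize e * p * e * p = v at *
  have f1 : w * (t * q) * w⁻¹ = t * p * u * q := by
    calc _ = w * t * w⁻¹ * (w * q * w⁻¹) := by group
      _ = _ := by rw [wt, wq]; group
  have f2 : e * (t * p * u * q) * e⁻¹ = t * q * v * p * u * q := by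
    calc _ = e * t * e⁻¹ * (e * p * e⁻¹) * (e * u * e⁻¹) * (e * q * e⁻¹) := by group
      _ = _ := by rw [et, ep, ey'.symm.mul_inv_cancel, eq.mul_inv_cancel]; group
  have f3 : w * (t * q * v * p * u * q) * w⁻¹ = t * p * u * q * v * p * q := by
    calc _ = w * t * w⁻¹ * (w * q * w⁻¹) * (w * v * w⁻¹) * (w * p * w⁻¹) * (w * u * w⁻¹) *
          (w * q * w⁻¹) := by group
      _ = t * p * u * q * v * p * (u * u) * q := by
          rw [wt, wq, wy.mul_inv_cancel, wp.mul_inv_cancel, wy'.mul_inv_cancel]; group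
      _ = _ := by rw [y2', mul_one]
  calc _ = w * (e * (w * (e * t * e⁻¹) * w⁻¹) * e⁻¹) * w⁻¹ := by group
    _ = t * (p * u) * (q * v) * p * q := by rw [et, f1, f2, f3]; group
    _ = t * u * (p * v) * q * p * q := by rw [← yp'.eq, ← yq.eq]; group
    _ = _ := by rw [← yp.eq]; group

end DB1

open DB1

theorem a2 (h : C4 ι t) {i j l : I} (h1 : i ≠ j) (h2 : i ≠ l) (h3 : j ≠ l) {c c' : F} {w e : G}
    (hw : Xs ι t i j c w) (he : Xs ι t j l c' e) : ∃ c'', Xs ι t i l c'' (w * e * w * e) := by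
  by_cases hc : c = 0
  · subst hc
    obtain ⟨a, rfl⟩ := hw.ker h.toC2 h1
    have y := h.actc i j l h1 h2 h3 c' a e he
    refine ⟨a * c', ?_⟩
    convert y using 1
    rw [← inv_eq_of_mul_eq_one_right y.2.2.1]
    simp only [_root_.mul_inv_rev, inv_eq_of_mul_eq_one_right he.2.2.1,
      inv_eq_of_mul_eq_one_right (xsq (ι := ι) i j a), mul_assoc]
  obtain ⟨c'', ht⟩ := tq h h1 h2 h3 hw he
  have d0 : D0 ι t i l c'' (w * e * w * e) := ⟨cenQ h h1 h3 h2 h1 h3 hw he, ht⟩
  obtain ⟨v, o, hv, ho, e1⟩ := d0.sv h.toC2 h2 (co4 hw.2.1 he.2.1)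
  obtain ⟨u, hu⟩ := h.row.ex i l h2 c''
  have m := hu.sv.mul h.toC2 h2 hv
  rw [CharTwo.add_self_eq_zero] at m
  have i4 := inv4 hw.2.2.1 he.2.2.1
  have wo : Commute w o := hw.2.1 o ho
  have ui : u⁻¹ = u := inv_eq_of_mul_eq_one_right hu.2.2.1
  obtain ⟨a, ha | ha⟩ := m.ker h.toC2 h2
  · have ev : v = u * ι (xe i l a) := by rw [← ha, ← mul_assoc, hu.2.2.1, one_mul]
    have xv := h.row.mul i l h2 _ _ _ _ hu (sv_x h.toC1 h2 a).2
    rw [← ev] at xv
    have wv : Commute w v := h.row.cm i j l h1 h2 _ _ _ _ hw xv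
    have vo : Commute v o := xv.2.1 o ho
    rw [e1, (wv.mul_right wo).mul_inv_cancel] at i4
    have : o = 1 := one_of_sq ho (by
      calc o * o = v * v * (o * o) := by rw [xv.2.2.1, one_mul]
        _ = v * (v * o) * o := by group
        _ = 1 := by rw [vo.eq, ← i4]; group)
    rw [e1, this, mul_one]
    exact ⟨_, xv⟩
  · exfalso
    have ev : v = u * (t * ι (xe i l a)) := by rw [← ha, ← mul_assoc, hu.2.2.1, one_mul]
    have wu : Commute w u := h.row.cm i j l h1 h2 _ _ _ _ hw hu
    have wx := cP h h1 hw h1 h2.symm a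
    have ux := cP h h2 hu h2 h2.symm a
    have uo : Commute u o := hu.2.1 o ho
    have ot : Commute o t := ho.2.1
    have ut := hu.1.2
    have tx : ∀ x, Commute t (ι x) := h.tc
    have e2 : w * (v * o) * w⁻¹ = u * t * ι (xe i j c) * ι (xe i l a) * o := by
      calc _ = w * u * w⁻¹ * (w * t * w⁻¹) * (w * ι (xe i l a) * w⁻¹) * (w * o * w⁻¹) := by
            rw [ev]; group
        _ = _ := by rw [wu.mul_inv_cancel, hw.1.2, wx.mul_inv_cancel, wo.mul_inv_cancel]; group
    rw [e1, e2, ev] at i4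
    have xx : Commute (ι (xe i j c)) (ι (xe i l a)) := Commute.map (xe_c0 h2 h1.symm c a) ι
    have e3 : ι (xe i l c'' * xe i j c) * (o * o) = 1 := by
      rw [map_mul, ← i4]
      have ox := cO ho.1
      have xr : Commute (ι (xe i l c'')) (ι (xe i l a)) := Commute.map (xe_c0 h2 h2.symm c'' a) ι
      have t1 := tx (xe i l c'')
      have t2 := tx (xe i l a)
      have o1 := ox (xe i j c)
      have o2 := ox (xe i l a)
      have x2 := xsq (ι := ι) i l a
      generalize ι (xe i l c'') = r at *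
      generalize ι (xe i l a) = x at *
      generalize ι (xe i j c) = p at *
      have ou : Commute o (u * t * p * x) :=
        ((uo.symm.mul_right ot).mul_right o1).mul_right o2
      symm
      calc u * (t * x) * o * (u * t * p * x * o) = u * t * x * (o * (u * t * p * x)) * o := by group
        _ = u * t * (x * u) * t * (p * x) * (o * o) := by rw [ou.eq]; group
        _ = u * t * u⁻¹ * (x * t) * x * p * (o * o) := by rw [← ux.eq, xx.eq, ui]; group
        _ = t * r * t * (x * x) * p * (o * o) := by rw [ut, ← t2.eq]; group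
        _ = r * (t * t) * p * (o * o) := by rw [x2, t1.eq]; group
        _ = _ := by rw [h.t2, mul_one]
    have : ι (xe i l c'' * xe i j c) ∈ 𝐂(ι.range) := by
      rw [eq_inv_of_mul_eq_one_left e3]
      exact inv_mem (mul_mem ho.1 ho.1)
    exact hc (xe2_cen h2 h1 (Or.inr h3.symm) (h.em.cen.1 this)).2

theorem dis (h : C4 ι t) {i j k l : I} (h1 : i ≠ j) (h2 : k ≠ l) (h3 : i ≠ l) (h4 : j ≠ k) {c c' : F} {w e : G}
    (hw : Xs ι t i j c w) (he : Xs ι t k l c' e) : w * e = e * w := by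
  by_cases e1 : i = k
  · subst e1; exact h.row.cm i j l h1 h3 _ _ _ _ hw he
  by_cases e2 : j = l
  · subst e2; exact h.cmc i j k h1 h2 _ _ _ _ hw he
  by_cases hc : c = 0
  · subst hc
    obtain ⟨a, rfl⟩ := hw.ker h.toC2 h1
    exact (cP h h2 he h3 h4 a).symm
  have w2 := hw.2.2.1
  have v2 := he.2.2.1
  have wi : w⁻¹ = w := inv_eq_of_mul_eq_one_right w2
  have ei : e⁻¹ = e := inv_eq_of_mul_eq_one_right v2
  have ht : w * e * w * e * t * (w * e * w * e)⁻¹ = t := by
    have wq := cP h h1 hw h4.symm h3.symm c'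
    have wp := cP h h1 hw h1 h1.symm c
    have ep := cP h h2 he h3 h4 c
    have eq := cP h h2 he h2 h2.symm c'
    have pq : Commute (ι (xe i j c)) (ι (xe k l c')) := Commute.map (xe_c0 h3 h4 c c') ι
    have wt := hw.1.2
    have et := he.1.2
    have p2 := xsq (ι := ι) i j c
    have q2 := xsq (ι := ι) k l c'
    generalize ι (xe i j c) = p at *
    generalize ι (xe k l c') = q at *
    have f1 : w * (t * q) * w⁻¹ = t * p * q := by
      calc _ = w * t * w⁻¹ * (w * q * w⁻¹) := by group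
        _ = _ := by rw [wt, wq.mul_inv_cancel]
    have f2 : e * (t * p * q) * e⁻¹ = t * p := by
      calc _ = e * t * e⁻¹ * (e * p * e⁻¹) * (e * q * e⁻¹) := by group
        _ = t * (q * p) * q := by rw [et, ep.mul_inv_cancel, eq.mul_inv_cancel]; group
        _ = t * p * (q * q) := by rw [← pq.eq]; group
        _ = _ := by rw [q2, mul_one]
    have f3 : w * (t * p) * w⁻¹ = t := by
      calc _ = w * t * w⁻¹ * (w * p * w⁻¹) := by group
        _ = _ := by rw [wt, wp.mul_inv_cancel, mul_assoc, p2, mul_one]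
    calc _ = w * (e * (w * (e * t * e⁻¹) * w⁻¹) * e⁻¹) * w⁻¹ := by group
      _ = t := by rw [et, f1, f2, f3]
  have d1 : D0 ι t i l 0 (w * e * w * e) :=
    ⟨cenQ h h1 h2 h3 e1 e2 hw he, by rw [ht, xe_zero, map_one, mul_one]⟩
  have d2 : D0 ι t k j 0 (w * e * w * e) := by
    refine ⟨fun x hx => ?_, by rw [ht, xe_zero, map_one, mul_one]⟩
    have : Commute _ _ := cenQ h h2 h1 h4.symm (Ne.symm e1) (Ne.symm e2) he hw x hx
    have := this.inv_left
    rw [_root_.mul_inv_rev, _root_.mul_inv_rev, _root_.mul_inv_rev, wi, ei, ← mul_assoc,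
      ← mul_assoc] at this
    exact this
  have dec : ∀ {a b : I} {s : F} {o κ : G}, Oo ι t o →
      (κ = ι (xe a b s) * o ∨ κ = t * ι (xe a b s) * o) → ∃ z ∈ 𝐂(ι.range), κ = ι (xe a b s) * z := by
    rintro a b s o κ ho (rfl | rfl)
    · exact ⟨o, ho.1, rfl⟩
    · exact ⟨t * o, mul_mem h.toC1.tC ho.1, by rw [h.tc, mul_assoc]⟩
  obtain ⟨a, o, ho, k1⟩ := d1.ker h.toC2 h3
  obtain ⟨b, o', ho', k2⟩ := d2.ker h.toC2 h4.symm
  obtain ⟨z, hz, k3⟩ := dec ho k1
  obtain ⟨z', hz', k4⟩ := dec ho' k2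
  have a0 : a = 0 := by
    have : ι (xe k j b * xe i l a) ∈ 𝐂(ι.range) := by
      have e3 : ι (xe k j b * xe i l a) = z' * z⁻¹ := by
        rw [map_mul, ← xe_inv k j b, map_inv]
        calc _ = (ι (xe k j b))⁻¹ * (ι (xe i l a) * z) * z⁻¹ := by group
          _ = _ := by rw [← k3, k4]; group
      rw [e3]
      exact mul_mem hz' (inv_mem hz)
    exact (xe2_cen h4.symm h3 (Or.inl (Ne.symm e1)) (h.em.cen.1 this)).2
  have i4 := inv4 w2 v2
  have wo : Commute w o := hw.2.1 o ho
  rw [a0, xe_zero, map_one, one_mul, mul_one] at k1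
  rcases k1 with k1 | k1
  · rw [k1, wo.mul_inv_cancel] at i4
    rw [one_of_sq ho i4] at k1
    calc w * e = w * e * (w * (e * e) * w) := by rw [v2, mul_one, w2, mul_one]
      _ = w * e * w * e * (e * w) := by group
      _ = e * w := by rw [k1, one_mul]
  · exfalso
    have e3 : w * (t * o) * w⁻¹ = t * ι (xe i j c) * o := by
      calc _ = w * t * w⁻¹ * (w * o * w⁻¹) := by group
        _ = _ := by rw [hw.1.2, wo.mul_inv_cancel]
    rw [k1, e3] at i4
    have e4 : ι (xe i j c) * (o * o) = 1 := by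
      rw [← i4]
      symm
      calc t * o * (t * ι (xe i j c) * o) = t * (o * t) * ι (xe i j c) * o := by group
        _ = t * t * (o * ι (xe i j c)) * o := by rw [ho.2.1]; group
        _ = _ := by rw [h.t2, (cO ho.1 _).eq]; group
    have : ι (xe i j c) ∈ 𝐂(ι.range) := by
      rw [eq_inv_of_mul_eq_one_left e4]
      exact inv_mem (mul_mem ho.1 ho.1)
    exact hc (xe_cen h1 (h.em.cen.1 this))

end LMS
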