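import Cfsg.Agent.Lib.LMS.SA

set_option autoImplicit false
set_option linter.unusedSectionVars false

namespace LMS

open Subgroup H69 Cfsg Matrix U4S
open scoped MatrixGroups commutatorElement

universe u
variable {G : Type*} [Group G] [Finite G] {F : Type u} [Field F] [CharP F 2] [Fintype F] {n : ℕ} [Ok n F]
  {ι ψ χ : XX n F →* G} {t : G} {E : Subgroup G}

local notation "X" => XX n F
local notation "I" => Fin (n + 3)
local notation "Mx" => Matrix (Fin (n + 3)) (Fin (n + 3)) F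

namespace DB2

open H63.St.SL (dg dg_ne dg_conj)

theorem swp {Γ : Type*} [Group Γ] {P Q : Γ → Prop} {u v w : Γ} (u2 : u * u = 1) (v2 : v * v = 1)
    (p2 : ∀ w, P w → w * w = 1) (q2 : ∀ e, Q e → e * e = 1) (pq : ∀ w, P w → Q (w * u * w * u))
    (qp : ∀ e, Q e → P (e * v * e * v)) (cp : ∀ w, P w → w * v = v * w) (cq : ∀ e, Q e → e * u = u * e)
    (sep : ∀ w w' e e', P w → P w' → Q e → Q e' → e * e' = w * w' → w * w' = 1) (hw : P w)
    (hn : Q (u * v * u * w * (u * v * u)⁻¹)) : u * v * u * w * (u * v * u)⁻¹ = w * u * w * u := by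
  have ui : u⁻¹ = u := inv_eq_of_mul_eq_one_left u2
  have vi : v⁻¹ = v := inv_eq_of_mul_eq_one_left v2
  have k : ∀ {a b : Γ}, a * a = 1 → b⁻¹ = b → b * a * b⁻¹ = a * (a * b * a * b) := fun {a b} ha hb => by
    rw [hb, mul_assoc (a * b), mul_assoc a b, ← mul_assoc a a, ha, one_mul, mul_assoc]
  obtain ⟨e, he⟩ : ∃ e, e = w * u * w * u := ⟨_, rfl⟩
  have qe : Q e := he ▸ pq w hw
  obtain ⟨w', hw'⟩ : ∃ w', w' = e * v * e * v := ⟨_, rfl⟩
  have pw : P w' := hw' ▸ qp e qe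
  obtain ⟨e', he'⟩ : ∃ e', e' = w' * u * w' * u := ⟨_, rfl⟩
  have qe' : Q e' := he' ▸ pq w' pw
  have k1 : u * w * u⁻¹ = w * e := by rw [he]; exact k (p2 w hw) ui
  have k2 : v * e * v⁻¹ = e * w' := by rw [hw']; exact k (q2 e qe) vi
  have k3 : u * w' * u⁻¹ = w' * e' := by rw [he']; exact k (p2 w' pw) ui
  have k4 : v * w * v⁻¹ = w := by rw [← cp w hw, mul_inv_cancel_right]
  have k5 : u * e * u⁻¹ = e := by rw [← cq e qe, mul_inv_cancel_right]
  have k6 : u * v * u * w * (u * v * u)⁻¹ = w * w' * e' :=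
    calc _ = u * (v * (u * w * u⁻¹) * v⁻¹) * u⁻¹ := by group
      _ = u * w * u⁻¹ * (u * e * u⁻¹) * (u * w' * u⁻¹) := by
        rw [k1, ← conj_mul (a := w) (b := v), k4, k2, ← k1]; group
      _ = w * (e * e) * w' * e' := by rw [k1, k5, k3]; group
      _ = _ := by rw [q2 e qe, mul_one]
  have k7 := sep w w' _ e' hw pw hn qe' (by rw [k6, mul_assoc, q2 e' qe', mul_one])
  have k8 : w' = w := mul_left_cancel (k7.trans (p2 w hw).symm)
  rw [k6, k7, one_mul, he', k8]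

theorem cP (h : C4 ι t) {i j a b : I} (hij : i ≠ j) (ha : a ≠ j) (hb : b ≠ i) {c : F} {w : G}
    (k : Xs ι t i j c w) (y : F) : w * ι (xe a b y) = ι (xe a b y) * w :=
  k.1.dP h.toC2 hij _ (subset_closure ⟨a, b, y, ha, hb, rfl⟩)

theorem sep (h : C4 ι t) {i j k l : I} (hij : i ≠ j) (hkl : k ≠ l) (e : i ≠ k ∨ j ≠ l) {c : F} {w w' v v' : G}
    (h1 : Xs ι t i j c w) (h2 : Xs ι t i j c w') (h3 : Xs ι t k l c v) (h4 : Xs ι t k l c v')
    (q : v * v' = w * w') : w * w' = 1 := by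
  have a1 := h.row.mul i j hij _ _ _ _ h1 h2
  have a2 := h.row.mul k l hkl _ _ _ _ h3 h4
  rw [CharTwo.add_self_eq_zero] at a1 a2
  obtain ⟨a, ha⟩ := a1.ker h.toC2 hij
  obtain ⟨b, hb⟩ := a2.ker h.toC2 hkl
  have := (xe2_cen hij hkl e (a := a) (b := b) (h.em (by
    rw [MonoidHom.mem_ker, map_mul, ← ha, q.symm.trans hb, ← map_mul, xe_sq, map_one]))).1
  rw [ha, this, xe_zero, map_one]

theorem x2 (i j : I) (a : F) : ι (xe i j a) * ι (xe i j a) = 1 := by rw [← map_mul, xe_sq, map_one]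

theorem r1 (h : C4 ι t) {i j l : I} (h1 : i ≠ j) (h2 : i ≠ l) (h3 : j ≠ l) {c : F} {w : G} (k : Xs ι t i j c w) :
    ι (pmL (Equiv.swap j l)) * w * (ι (pmL (Equiv.swap j l)))⁻¹ = w * ι (xe j l 1) * w * ι (xe j l 1) := by
  have hn := k.pm h.toC1 (Equiv.swap j l)
  rw [Equiv.swap_apply_of_ne_of_ne h1 h2, Equiv.swap_apply_left] at hn
  rw [pm_swap h3, map_mul, map_mul] at hn ⊢
  exact swp (P := Xs ι t i j c) (Q := Xs ι t i l c) (x2 _ _ _) (x2 _ _ _) (fun _ k => k.2.2.1) (fun _ k => k.2.2.1)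
    (fun w k => by simpa using h.row.act i j l h1 h2 h3 c 1 w k)
    (fun w k => by simpa using h.row.act i l j h2 h1 h3.symm c 1 w k)
    (fun w k => cP h h1 h3.symm h1.symm k 1) (fun w k => cP h h2 h3 h2.symm k 1)
    (fun _ _ _ _ a b c d => sep h h1 h2 (Or.inr h3) a b c d) k hn

theorem l1 (h : C4 ι t) {i j l : I} (h1 : i ≠ j) (h2 : i ≠ l) (h3 : j ≠ l) {c : F} {w : G} (k : Xs ι t j l c w) :
    ι (pmL (Equiv.swap i j)) * w * (ι (pmL (Equiv.swap i j)))⁻¹ = w * ι (xe i j 1) * w * ι (xe i j 1) := by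
  have hn := k.pm h.toC1 (Equiv.swap i j)
  rw [Equiv.swap_apply_of_ne_of_ne h2.symm h3.symm, Equiv.swap_apply_right] at hn
  rw [pm_swap h1, map_mul, map_mul] at hn ⊢
  exact swp (P := Xs ι t j l c) (Q := Xs ι t i l c) (x2 _ _ _) (x2 _ _ _) (fun _ k => k.2.2.1) (fun _ k => k.2.2.1)
    (fun w k => by simpa using h.actc i j l h1 h2 h3 c 1 w k)
    (fun w k => by simpa using h.actc j i l h1.symm h3 h2 c 1 w k)
    (fun w k => cP h h3 h3 h1 k 1) (fun w k => cP h h2 h2 h1.symm k 1)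
    (fun _ _ _ _ a b c d => sep h h3 h2 (Or.inl h1.symm) a b c d) k hn

theorem ex_perm {i j : I} (h : i ≠ j) : ∃ π : Equiv.Perm I, π 0 = i ∧ π iL = j := by
  obtain ⟨l, a, b⟩ := ex_third (0 : I) iL
  obtain ⟨l', a', b'⟩ := ex_third i j
  obtain ⟨π, h1, h2, -⟩ := ex_perm3 (Fin.last_pos.ne : (0 : I) ≠ iL) b.symm a.symm h b'.symm a'.symm
  exact ⟨π, h1, h2⟩

theorem ex_om (h : C4 ι t) : ∃ ω : I → I → G, (∀ i j, i ≠ j → Xs ι t i j 1 (ω i j)) ∧
    ∀ i j, i ≠ j → ∀ π : Equiv.Perm I, ι (pmL π) * ω i j * (ι (pmL π))⁻¹ = ω (π i) (π j) := by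
  classical
  have h0 : (0 : I) ≠ iL := Fin.last_pos.ne
  obtain ⟨w, hw⟩ := h.row.ex 0 iL h0 1
  have : ∀ i j : I, ∃ π : Equiv.Perm I, i ≠ j → π 0 = i ∧ π iL = j := fun i j => by
    by_cases e : i = j
    · exact ⟨1, fun k => absurd e k⟩
    · exact (ex_perm e).imp fun _ k _ => k
  choose ρ hρ using this
  refine ⟨fun i j => ι (pmL (ρ i j)) * w * (ι (pmL (ρ i j)))⁻¹, fun i j e => ?_, fun i j e π => ?_⟩
  · have := hw.pm h.toC1 (ρ i j)
    rwa [(hρ i j e).1, (hρ i j e).2] at this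
  · obtain ⟨a1, a2⟩ := hρ i j e
    obtain ⟨b1, b2⟩ := hρ (π i) (π j) (π.injective.ne e)
    have := hw.1.dP h.toC2 h0 _ (pm_PP h0 (π := (ρ (π i) (π j))⁻¹ * π * ρ i j)
      (by rw [Equiv.Perm.mul_apply, Equiv.Perm.mul_apply, a1, Equiv.Perm.inv_eq_iff_eq, b1])
      (by rw [Equiv.Perm.mul_apply, Equiv.Perm.mul_apply, a2, Equiv.Perm.inv_eq_iff_eq, b2]))
    simp only [map_mul, map_inv] at this
    beta_reduce
    generalize ι (pmL (ρ (π i) (π j))) = A at this ⊢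
    generalize ι (pmL (ρ i j)) = B at this ⊢
    generalize ι (pmL π) = C at this ⊢
    calc C * (B * w * B⁻¹) * C⁻¹ = A * (A⁻¹ * C * B * w) * (B⁻¹ * C⁻¹) := by group
      _ = _ := by rw [← this]; group

theorem dg_mul {d e : I → F} (hd : ∏ a, d a = 1) (he : ∏ a, e a = 1) :
    ∃ k : ∏ a, (d a * e a) = 1, (dg d hd : X) * dg e he = dg (fun a => d a * e a) k :=
  ⟨by rw [Finset.prod_mul_distrib, hd, he, one_mul], Subtype.ext (diagonal_mul_diagonal d e)⟩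

theorem dg_pm {d : I → F} (hd : ∏ a, d a = 1) (π : Equiv.Perm I) :
    ∃ k : ∏ a, d (π⁻¹ a) = 1, (pmL π : X) * dg d hd = dg (fun a => d (π⁻¹ a)) k * pmL π := by
  refine ⟨by rw [Equiv.prod_comp π⁻¹ d, hd], Subtype.ext ?_⟩
  ext a b
  change ((pmL π : X).1 * diagonal d) a b = (diagonal (fun a => d (π⁻¹ a)) * (pmL π : X).1) a b
  rw [mul_diagonal, diagonal_mul, pmL_apply]
  split_ifs with e
  · simp [e]
  · simp

theorem dg_eq (h : C4 ι t) {i j : I} (hij : i ≠ j) {c : F} {w : G} (k : Xs ι t i j c w) {d e : I → F}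
    (hd : ∏ a, d a = 1) (he : ∏ a, e a = 1) (q : d i * (d j)⁻¹ = e i * (e j)⁻¹) :
    ι (dg d hd) * w * (ι (dg d hd))⁻¹ = ι (dg e he) * w * (ι (dg e he))⁻¹ := by
  have hf : ∏ a, ((e a)⁻¹ * d a) = 1 := by
    rw [Finset.prod_mul_distrib, Finset.prod_inv_distrib, hd, he, inv_one, one_mul]
  obtain ⟨k1, k2⟩ := dg_mul he hf
  have k3 : (dg d hd : X) = dg e he * dg _ hf := k2.symm ▸ Subtype.ext (congrArg diagonal (funext fun a => by
    rw [mul_inv_cancel_left₀ (dg_ne he a)]))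
  have k4 := k.sv.dg1 h.toC2 hij _ hf (by
    have := dg_ne hd j
    have := dg_ne he i
    have := dg_ne he j
    field_simp at q ⊢
    linear_combination q)
  rw [k3, map_mul, mul_assoc (ι (dg e he)), k4]
  group

end DB2

open H63.St.SL (dg dg_ne dg_conj) in
theorem exW (h : C4 ι t) : ∃ W, Wt ι t W := by
  classical
  obtain ⟨ω, h1, h2⟩ := DB2.ex_om h
  have : ∀ (i j : I) (c : F), ∃ w : G, (c = 0 → w = 1) ∧ (i ≠ j → ∀ d hd, d i * (d j)⁻¹ = c →
      ι (dg d hd) * ω i j * (ι (dg d hd))⁻¹ = w) := fun i j c => by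
    by_cases c0 : c = 0
    · exact ⟨1, fun _ => rfl, fun _ d hd e => absurd (e.trans c0)
        (mul_ne_zero (dg_ne hd i) (inv_ne_zero (dg_ne hd j)))⟩
    by_cases e : i = j
    · exact ⟨1, fun _ => rfl, fun k => absurd e k⟩
    obtain ⟨d, hd, q⟩ := ex_dg e c0
    exact ⟨_, fun k => absurd k c0, fun _ d' hd' q' => DB2.dg_eq h e (h1 i j e) hd' hd (q'.trans q.symm)⟩
  choose W W0 Wd using this
  replace W0 : ∀ i j, W i j 0 = 1 := fun i j => W0 i j 0 rfl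
  have xs : ∀ i j, i ≠ j → ∀ c, Xs ι t i j c (W i j c) := fun i j e c => by
    by_cases c0 : c = 0
    · have := (sv_x h.toC1 e 0).2
      rwa [xe_zero, map_one, ← W0 i j, ← c0] at this
    · obtain ⟨d, hd, q⟩ := ex_dg e c0
      have := (h1 i j e).dg h.toC1 e d hd
      rwa [Wd i j c e d hd q, q, mul_one] at this
  have pm : ∀ i j, i ≠ j → ∀ (π : Equiv.Perm I) c,
      ι (pmL π) * W i j c * (ι (pmL π))⁻¹ = W (π i) (π j) c := fun i j e π c => by
    by_cases c0 : c = 0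
    · rw [c0, W0, W0, mul_one, mul_inv_cancel]
    obtain ⟨d, hd, q⟩ := ex_dg e c0
    obtain ⟨k1, k2⟩ := DB2.dg_pm hd π
    have k3 := congrArg ι k2
    rw [map_mul, map_mul] at k3
    rw [← Wd i j c e d hd q, ← Wd (π i) (π j) c (π.injective.ne e) _ k1 (by simpa using q), ← h2 i j e π]
    calc _ = ι (pmL π) * ι (dg d hd) * ω i j * (ι (pmL π) * ι (dg d hd))⁻¹ := by group
      _ = _ := by rw [k3]; group
  have dd : ∀ i j, i ≠ j → ∀ d hd c,
      ι (dg d hd) * W i j c * (ι (dg d hd))⁻¹ = W i j (d i * (d j)⁻¹ * c) := fun i j e d hd c => by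
    by_cases c0 : c = 0
    · rw [c0, mul_zero, W0, mul_one, mul_inv_cancel]
    obtain ⟨d', hd', q⟩ := ex_dg e c0
    obtain ⟨k1, k2⟩ := DB2.dg_mul hd hd'
    rw [← Wd i j c e d' hd' q, ← Wd i j _ e _ k1 (by rw [← q, mul_inv]; ring), ← k2, map_mul]
    group
  have dx : ∀ i j, i ≠ j → ∀ d hd (c : F),
      ι (dg d hd) * ι (xe i j c) * (ι (dg d hd))⁻¹ = ι (xe i j (d i * (d j)⁻¹ * c)) := fun i j e d hd c => by
    rw [← map_inv, ← map_mul, ← map_mul, dg_conj hd e]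
  have z : ∀ (w : G) (i j : I), w * w = 1 → w * ι (xe i j 0) * w * ι (xe i j 0) = 1 := fun w i j e => by
    rw [xe_zero, map_one, mul_one, mul_one, e]
  have r : ∀ i j l, i ≠ j → i ≠ l → j ≠ l → ∀ c a,
      W i j c * ι (xe j l a) * W i j c * ι (xe j l a) = W i l (c * a) := fun i j l e1 e2 e3 c a => by
    by_cases a0 : a = 0
    · rw [a0, mul_zero, W0, z _ _ _ (xs i j e1 c).2.2.1]
    obtain ⟨d, hd, q⟩ := ex_dg e3 a0
    have k1 := DB2.r1 h e1 e2 e3 (xs i j e1 (d j * (d i)⁻¹ * c))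
    rw [pm i j e1, Equiv.swap_apply_of_ne_of_ne e1 e2, Equiv.swap_apply_left] at k1
    have k2 := congrArg (fun x => ι (dg d hd) * x * (ι (dg d hd))⁻¹) k1
    simp only [← conj_mul, dd i j e1, dd i l e2, dx j l e3, q, mul_one] at k2
    have := dg_ne hd i
    have := dg_ne hd j
    rw [show d i * (d j)⁻¹ * (d j * (d i)⁻¹ * c) = c by field_simp] at k2
    rw [← k2, ← q]
    congr 1
    field_simp
  have l : ∀ i j l, i ≠ j → i ≠ l → j ≠ l → ∀ c a,
      W j l c * ι (xe i j a) * W j l c * ι (xe i j a) = W i l (a * c) := fun i j l e1 e2 e3 c a => by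
    by_cases a0 : a = 0
    · rw [a0, zero_mul, W0, z _ _ _ (xs j l e3 c).2.2.1]
    obtain ⟨d, hd, q⟩ := ex_dg e1 a0
    have k1 := DB2.l1 h e1 e2 e3 (xs j l e3 (d l * (d j)⁻¹ * c))
    rw [pm j l e3, Equiv.swap_apply_of_ne_of_ne e2.symm e3.symm, Equiv.swap_apply_right] at k1
    have k2 := congrArg (fun x => ι (dg d hd) * x * (ι (dg d hd))⁻¹) k1
    simp only [← conj_mul, dd j l e3, dd i l e2, dx i j e1, q, mul_one] at k2
    have := dg_ne hd l
    have := dg_ne hd j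
    rw [show d j * (d l)⁻¹ * (d l * (d j)⁻¹ * c) = c by field_simp] at k2
    rw [← k2, ← q]
    congr 1
    field_simp
  refine ⟨W, xs, fun i l e a b => ?_, pm, dd, r, l⟩
  obtain ⟨j, e1, e3⟩ := ex_third i l
  have c1 := DB2.cP h e e3 e.symm (xs i l e b) a
  have w2 := (xs i j e1.symm 1).2.2.1
  have ra := r i j l e1.symm e e3 1 a
  have rb := r i j l e1.symm e e3 1 b
  have rc := r i j l e1.symm e e3 1 (a + b)
  rw [one_mul] at ra rb rc
  rw [← rc, ← xe_mul, map_mul, ← ra, mul_assoc _ (ι (xe j l a)), ← c1, ← rb]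
  have c2 : ι (xe j l a) * ι (xe j l b) = ι (xe j l b) * ι (xe j l a) := by
    rw [← map_mul, ← map_mul, xe_mul, xe_mul, add_comm a]
  generalize W i j 1 = w at w2 ⊢
  generalize ι (xe j l a) = u at c2 ⊢
  generalize ι (xe j l b) = v at c2 ⊢
  calc _ = w * u * (w * w) * v * w * (v * u) := by group
    _ = _ := by rw [w2, ← c2]; group

end LMS
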