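import Cfsg.Agent.Lib.LMS.DB1
import Cfsg.Agent.Lib.G2S.UB

set_option autoImplicit false
set_option linter.unusedSectionVars false

namespace LMS

open Subgroup H69 Cfsg Matrix U4S
open scoped MatrixGroups commutatorElement

universe u
variable {G : Type*} [Group G] [Finite G] {F : Type u} [Field F] [CharP F 2] [Fintype F] {n : ℕ} [Ok n F]
  {ι ψ χ : XX n F →* G} {t : G} {E : Subgroup G}

local notation "X" => XX n F
local notation "I" => Fin (n + 3)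
local notation "Mx" => Matrix (Fin (n + 3)) (Fin (n + 3)) F

namespace DB3

variable {W : Fin (n + 3) → Fin (n + 3) → F → G}

theorem inv_eq {i j : I} {c : F} {w : G} (hw : Xs ι t i j c w) : w⁻¹ = w :=
  inv_eq_of_mul_eq_one_right hw.2.2.1

theorem cm_eq {i j k l : I} {c c' : F} {w e : G} (hw : Xs ι t i j c w) (he : Xs ι t k l c' e) :
    ⁅w, e⁆ = w * e * w * e := by
  rw [commutatorElement_def, inv_eq hw, inv_eq he]

theorem W0 (k : Wt ι t W) {i j : I} (hij : i ≠ j) : W i j 0 = 1 := by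
  have := k.add i j hij 0 0
  rw [add_zero] at this
  exact mul_eq_left.1 this

theorem xsx (h : C4 ι t) {i j : I} (hij : i ≠ j) (a : F) : Xs ι t i j 0 (ι (xe i j a)) :=
  (sv_x h.toC1 hij a).2

theorem xsY (h : C4 ι t) (k : Wt ι t W) {i j : I} (hij : i ≠ j) (a c : F) :
    Xs ι t i j c (ι (xe i j a) * W i j c) := by
  have := h.row.mul i j hij 0 c _ _ (xsx h hij a) (k.xs i j hij c)
  rwa [zero_add] at this

theorem dec (h : C4 ι t) (k : Wt ι t W) {i j : I} (hij : i ≠ j) {c : F} {w : G} (hw : Xs ι t i j c w) :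
    ∃ a, w = ι (xe i j a) * W i j c := by
  have := h.row.mul i j hij c c _ _ hw (k.xs i j hij c)
  rw [CharTwo.add_self_eq_zero] at this
  obtain ⟨a, ha⟩ := Xs.ker h.toC2 hij this
  exact ⟨a, by rw [← ha, mul_assoc, (k.xs i j hij c).2.2.1, mul_one]⟩

theorem Ymul (h : C4 ι t) (k : Wt ι t W) {i j : I} (hij : i ≠ j) (a c a' c' : F) :
    ι (xe i j a) * W i j c * (ι (xe i j a') * W i j c') = ι (xe i j (a + a')) * W i j (c + c') := by
  have e := h.row.cm i j j hij hij _ _ _ _ (k.xs i j hij c) (xsx h hij a')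
  rw [← LMS.xe_mul, map_mul, ← k.add i j hij]
  calc _ = ι (xe i j a) * (W i j c * ι (xe i j a')) * W i j c' := by group
    _ = _ := by rw [e]; group

theorem Yinj (h : C4 ι t) (k : Wt ι t W) {i j : I} (hij : i ≠ j) {a c a' c' : F}
    (e : ι (xe i j a) * W i j c = ι (xe i j a') * W i j c') : a = a' ∧ c = c' := by
  have h1 := (xsY h k hij a c).1
  rw [e] at h1
  obtain rfl := D0.uniq h.toC1 hij h1 (xsY h k hij a' c').1
  refine ⟨?_, rfl⟩
  have e1 : ι (xe i j (a + a')) = 1 := by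
    rw [← LMS.xe_mul, map_mul, mul_right_cancel e, ← map_mul, LMS.xe_sq, map_one]
  have := xe_cen hij (h.em e1)
  rwa [CharTwo.add_eq_zero] at this

theorem tWt (h : C4 ι t) (k : Wt ι t W) {i j : I} (hij : i ≠ j) (c : F) :
    t * W i j c * t = ι (xe i j c) * W i j c := by
  have h1 := (k.xs i j hij c).1.2
  rw [inv_eq (k.xs i j hij c)] at h1
  have h2 := (k.xs i j hij c).2.2.1
  calc t * W i j c * t = t * (W i j c * t * W i j c) * W i j c := by
        simp only [mul_assoc, h2, mul_one]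
    _ = _ := by rw [h1, ← mul_assoc t t, h.t2, one_mul]

theorem tY (h : C4 ι t) (k : Wt ι t W) {i j : I} (hij : i ≠ j) (a c : F) :
    t * (ι (xe i j a) * W i j c) * t = ι (xe i j (a + c)) * W i j c := by
  rw [← LMS.xe_mul, map_mul, mul_assoc (ι _), ← tWt h k hij, ← mul_assoc t, h.tc]
  group

theorem cmL (h : C4 ι t) {i j l : I} (h1 : i ≠ j) (h2 : i ≠ l) (h3 : j ≠ l) {a a' b : F} {u u' v : G}
    (hu : Xs ι t i j a u) (hu' : Xs ι t i j a' u') (hv : Xs ι t j l b v) :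
    ⁅u * u', v⁆ = ⁅u', v⁆ * ⁅u, v⁆ := by
  obtain ⟨c, hc⟩ := a2 h h1 h2 h3 hu' hv
  rw [← cm_eq hu' hv] at hc
  have e := h.row.cm i j l h1 h2 _ _ _ _ hu hc
  calc ⁅u * u', v⁆ = u * ⁅u', v⁆ * u⁻¹ * ⁅u, v⁆ := by simp only [commutatorElement_def]; group
    _ = _ := by rw [e]; group

theorem cmR (h : C4 ι t) {i j l : I} (h1 : i ≠ j) (h2 : i ≠ l) (h3 : j ≠ l) {a b b' : F} {u v v' : G}
    (hu : Xs ι t i j a u) (hv : Xs ι t j l b v) (hv' : Xs ι t j l b' v') :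
    ⁅u, v * v'⁆ = ⁅u, v⁆ * ⁅u, v'⁆ := by
  obtain ⟨c, hc⟩ := a2 h h1 h2 h3 hu hv'
  rw [← cm_eq hu hv'] at hc
  have e := h.cmc j l i h3 h2 _ _ _ _ hv hc
  calc ⁅u, v * v'⁆ = ⁅u, v⁆ * (v * ⁅u, v'⁆ * v⁻¹) := by simp only [commutatorElement_def]; group
    _ = _ := by rw [e]; group

theorem cxx (h : C4 ι t) (k : Wt ι t W) {i j l : I} (h1 : i ≠ j) (h2 : i ≠ l) (h3 : j ≠ l) (a b : F) :
    ⁅ι (xe i j a), ι (xe j l b)⁆ = ι (xe i l (a * b)) * W i l 0 := by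
  rw [cm_eq (xsx h h1 a) (xsx h h3 b), W0 k h2, mul_one, ← xe_c1 h1 h3 h2]
  simp only [map_mul]

theorem cWx (h : C4 ι t) (k : Wt ι t W) {i j l : I} (h1 : i ≠ j) (h2 : i ≠ l) (h3 : j ≠ l) (c b : F) :
    ⁅W i j c, ι (xe j l b)⁆ = ι (xe i l 0) * W i l (c * b) := by
  rw [cm_eq (k.xs i j h1 c) (xsx h h3 b), k.r i j l h1 h2 h3, LMS.xe_zero, map_one, one_mul]

theorem cxW (h : C4 ι t) (k : Wt ι t W) {i j l : I} (h1 : i ≠ j) (h2 : i ≠ l) (h3 : j ≠ l) (a c : F) :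
    ⁅ι (xe i j a), W j l c⁆ = ι (xe i l 0) * W i l (a * c) := by
  rw [← commutatorElement_inv, cm_eq (k.xs j l h3 c) (xsx h h1 a), k.l i j l h1 h2 h3,
    inv_eq (k.xs i l h2 _), LMS.xe_zero, map_one, one_mul]

theorem cYY (h : C4 ι t) (k : Wt ι t W) {i j l : I} (h1 : i ≠ j) (h2 : i ≠ l) (h3 : j ≠ l) (a c a' c' : F)
    {A B : F} (e : ⁅W i j c, W j l c'⁆ = ι (xe i l A) * W i l B) :
    ⁅ι (xe i j a) * W i j c, ι (xe j l a') * W j l c'⁆ =
      ι (xe i l (a * a' + A)) * W i l (a * c' + c * a' + B) := by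
  rw [cmL h h1 h2 h3 (xsx h h1 a) (k.xs i j h1 c) (xsY h k h3 a' c'),
    cmR h h1 h2 h3 (k.xs i j h1 c) (xsx h h3 a') (k.xs j l h3 c'),
    cmR h h1 h2 h3 (xsx h h1 a) (xsx h h3 a') (k.xs j l h3 c'), e, cWx h k h1 h2 h3, cxx h k h1 h2 h3,
    cxW h k h1 h2 h3, Ymul h k h2, Ymul h k h2, Ymul h k h2,
    show 0 + A + (a * a' + 0) = a * a' + A by ring,
    show c * a' + B + (0 + a * c') = a * c' + c * a' + B by ring]

theorem exA (h : C4 ι t) (k : Wt ι t W) {i j l : I} (h1 : i ≠ j) (h2 : i ≠ l) (h3 : j ≠ l) (c c' : F) :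
    ∃ A, ⁅W i j c, W j l c'⁆ = ι (xe i l A) * W i l (c * c') := by
  obtain ⟨B, hB⟩ := a2 h h1 h2 h3 (k.xs i j h1 c) (k.xs j l h3 c')
  rw [← cm_eq (k.xs i j h1 c) (k.xs j l h3 c')] at hB
  obtain ⟨A, e⟩ := dec h k h2 hB
  have e1 := cYY h k h1 h2 h3 c c c' c' e
  have t2 : t⁻¹ = t := inv_eq_of_mul_eq_one_right h.t2
  have e2 : ⁅t * W i j c * t, t * W j l c' * t⁆ = t * ⁅W i j c, W j l c'⁆ * t := by
    have : ∀ x y : G, ⁅t * x * t⁻¹, t * y * t⁻¹⁆ = t * ⁅x, y⁆ * t⁻¹ := fun x y => by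
      simp only [commutatorElement_def]; group
    have := this (W i j c) (W j l c')
    rwa [t2] at this
  rw [← tWt h k h1, ← tWt h k h3, e2, e, tY h k h2] at e1
  have e3 := (Yinj h k h2 e1).1
  obtain rfl : B = c * c' := by linear_combination e3
  exact ⟨A, e⟩

theorem exα (h : C4 ι t) (k : Wt ι t W) {i j l : I} (h1 : i ≠ j) (h2 : i ≠ l) (h3 : j ≠ l) :
    ∃ α, ∀ c c', ⁅W i j c, W j l c'⁆ = ι (xe i l (α * c * c')) * W i l (c * c') := by
  choose A hA using exA h k h1 h2 h3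
  have a1 : ∀ x x' y, A (x + x') y = A x y + A x' y := fun x x' y => by
    have e := hA (x + x') y
    rw [← k.add i j h1, cmL h h1 h2 h3 (k.xs i j h1 x) (k.xs i j h1 x') (k.xs j l h3 y), hA, hA,
      Ymul h k h2] at e
    rw [← (Yinj h k h2 e).1, add_comm]
  have a2 : ∀ x y y', A x (y + y') = A x y + A x y' := fun x y y' => by
    have e := hA x (y + y')
    rw [← k.add j l h3, cmR h h1 h2 h3 (k.xs i j h1 x) (k.xs j l h3 y) (k.xs j l h3 y'), hA, hA,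
      Ymul h k h2] at e
    rw [← (Yinj h k h2 e).1]
  have a3 : ∀ m x y, A (m * x) (m * y) = m ^ 2 * A x y := fun m x y => by
    by_cases hm : m = 0
    · subst hm
      have := a1 0 0 0
      rw [add_zero] at this
      simpa using this
    have hd := H63.St.SL.prod_d2 h2 hm
    have d1 : H63.St.SL.d2 i l m i = m := by simp [H63.St.SL.d2]
    have d2 : H63.St.SL.d2 i l m j = 1 := by simp [H63.St.SL.d2, h1.symm, h3]
    have d3 : H63.St.SL.d2 i l m l = m⁻¹ := by simp [H63.St.SL.d2, h2.symm]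
    have e1 := k.dg i j h1 _ hd x
    have e2 := k.dg j l h3 _ hd y
    have e3 := k.dg i l h2 _ hd (x * y)
    have e4 := congrArg ι (H63.St.SL.dg_conj hd h2 (A x y))
    rw [map_mul, map_mul, map_inv] at e4
    rw [d1, d2, inv_one, mul_one] at e1
    rw [d2, d3, inv_inv, one_mul] at e2
    rw [d1, d3, inv_inv] at e3 e4
    set g := ι (H63.St.SL.dg _ hd)
    have e5 : ⁅g * W i j x * g⁻¹, g * W j l y * g⁻¹⁆ =
        g * ι (xe i l (A x y)) * g⁻¹ * (g * W i l (x * y) * g⁻¹) := by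
      calc _ = g * ⁅W i j x, W j l y⁆ * g⁻¹ := by simp only [commutatorElement_def]; group
        _ = _ := by rw [hA]; group
    rw [e1, e2, e3, e4, hA] at e5
    rw [(Yinj h k h2 e5).1]; ring
  refine ⟨A 1 1, fun c c' => ?_⟩
  rw [hA, H89.G2S.hua a1 a2 a3 c c']
  congr 3; ring

theorem allα (h : C4 ι t) (k : Wt ι t W) : ∃ α, ∀ i j l : I, i ≠ j → i ≠ l → j ≠ l → ∀ c c',
    ⁅W i j c, W j l c'⁆ = ι (xe i l (α * c * c')) * W i l (c * c') := by
  obtain ⟨j0, hj, -⟩ := ex_third (0 : I) 0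
  obtain ⟨l0, hl, hl'⟩ := ex_third (0 : I) j0
  obtain ⟨α, hα⟩ := exα h k hj.symm hl.symm hl'.symm
  refine ⟨α, fun i j l h1 h2 h3 c c' => ?_⟩
  obtain ⟨π, rfl, rfl, rfl⟩ := ex_perm3 hj.symm hl'.symm hl.symm h1 h3 h2
  have e4 := congrArg ι (pm_xe π 0 l0 (α * c * c'))
  rw [map_mul, map_mul, map_inv] at e4
  rw [← k.pm 0 j0 hj.symm, ← k.pm j0 l0 hl'.symm, ← k.pm 0 l0 hl.symm, ← e4]
  set g := ι (pmL π)
  calc _ = g * ⁅W 0 j0 c, W j0 l0 c'⁆ * g⁻¹ := by simp only [commutatorElement_def]; group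
    _ = _ := by rw [hα]; group

end DB3

open DB3 in
theorem exY (h : C4 ι t) {W : I → I → F → G} (k : Wt ι t W) : ∃ α Y, Stb ι t α Y := by
  obtain ⟨α, hα⟩ := allα h k
  refine ⟨α, fun i j z => ι (xe i j z.re) * W i j z.im, ?_, ?_, ?_, ?_, ?_, ?_⟩
  · intro i j hij a b
    exact Ymul h k hij _ _ _ _
  · intro i j k' l h1 h2 h3 h4 a b
    exact dis h h1 h2 h3 h4 (xsY h k h1 _ _) (xsY h k h2 _ _)
  · intro i j l h1 h3 h2 a b
    rw [cYY h k h1 h2 h3 _ _ _ _ (hα i j l h1 h2 h3 _ _)]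
    simp only [QuadraticAlgebra.re_mul, QuadraticAlgebra.im_mul, one_mul]
  · intro i j hij a
    simp only [QuadraticAlgebra.algebraMap_re, QuadraticAlgebra.algebraMap_im, W0 k hij, mul_one]
  · intro i j hij a
    rw [tY h k hij]
    simp only [QuadraticAlgebra.re_star, QuadraticAlgebra.im_star, one_mul, CharTwo.neg_eq]
  · intro i j hij w
    constructor
    · rintro ⟨c, hc⟩
      obtain ⟨a, ha⟩ := dec h k hij hc
      exact ⟨⟨a, c⟩, ha⟩
    · rintro ⟨a, rfl⟩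
      exact ⟨_, xsY h k hij _ _⟩

end LMS
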