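import Cfsg.Agent.Lib.LMS.RKB
import Cfsg.Agent.Lib.LMS.B7
import Cfsg.Agent.Lib.LocEven.Idx

set_option autoImplicit false
set_option linter.unusedSectionVars false

namespace LMS

open Subgroup H69 Cfsg Matrix U4S
open scoped MatrixGroups commutatorElement

universe u
variable {G : Type*} [Group G] [Finite G] {F : Type u} [Field F] [CharP F 2] [Fintype F] {n : ℕ} [Ok n F]
  {ι ψ χ : XX n F →* G} {t : G} {E : Subgroup G}

local notation "X" => XX n F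
local notation "I" => Fin (n + 3)
local notation "Mx" => Matrix (Fin (n + 3)) (Fin (n + 3)) F

namespace RKG

open H70

variable {B : Subgroup G}

theorem uniq (e : Em ι) {u u' : X} {k k' : G} (hu : u * u = 1) (hu' : u' * u' = 1)
    (hk : k ∈ 𝐂(ι.range)) (hk' : k' ∈ 𝐂(ι.range)) (h : k * ι u = k' * ι u') : u = u' := by
  have h1 : ι (u * u'⁻¹) = k⁻¹ * k' := by
    rw [map_mul, map_inv, eq_inv_mul_iff_mul_eq, ← mul_assoc, h, mul_inv_cancel_right]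
  have h2 : u * u'⁻¹ ∈ center X := e.cen.1 (h1 ▸ mul_mem (inv_mem hk) hk')
  refine mul_inv_eq_one.1 (cen_two h2 (P2.of_sq ?_))
  have h3 := mem_center_iff.1 h2 u'
  rw [inv_mul_cancel_right, inv_eq_of_mul_eq_one_right hu'] at h3
  rw [inv_eq_of_mul_eq_one_right hu', mul_assoc, h3, hu]

theorem fix (e : Em ι) (hB : El B) (h : B ≤ 𝐍(ι.range)) {s k : G} {α : X →* X} (hs : s ∈ B) (a : Act ι s α)
    {u : X} (hu : u * u = 1) (hk : k ∈ 𝐂(ι.range)) (hb : k * ι u ∈ B) : α u = u := by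
  refine uniq e (by rw [← map_mul, hu, map_one]) hu
    (conj_mem_of_mem_normalizer (H69.normalizer_le_normalizer_centralizer _ (h hs)) hk) hk ?_
  rw [← a u]
  calc s * k * s⁻¹ * (s * ι u * s⁻¹) = s * (k * ι u) * s⁻¹ := by group
    _ = k * ι u := by rw [hB.comm hs hb, mul_inv_cancel_right]

theorem act {k : G} (hk : k ∈ 𝐂(ι.range)) (u : X) : Act ι (k * ι u) (cn u) := fun x => by
  rw [← conj_eq_of_mem_centralizer hk (a := ι (cn u x)) ⟨_, rfl⟩, cn_apply, map_mul, map_mul, map_inv]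
  group

/-- the inner parts of the elements of `B` -/
def WW (e : Em ι) (hB : El B) (h : B ≤ 𝐍(ι.range)) : Subgroup X where
  carrier := {u | u * u = 1 ∧ ∃ k ∈ 𝐂(ι.range), k * ι u ∈ B}
  one_mem' := ⟨mul_one _, 1, one_mem _, by rw [map_one, mul_one]; exact one_mem _⟩
  inv_mem' := fun {u} hu => by rwa [inv_eq_of_mul_eq_one_right hu.1]
  mul_mem' := by
    rintro u u' ⟨hu, k, hk, hb⟩ ⟨hu', k', hk', hb'⟩
    have c : u * u' = u' * u := mul_inv_eq_iff_eq_mul.1 (fix e hB h hb (act hk u) hu' hk' hb')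
    refine ⟨?_, k * k', mul_mem hk hk', ?_⟩
    · calc u * u' * (u * u') = u * (u' * u) * u' := by group
        _ = u * u * (u' * u') := by rw [← c]; group
        _ = 1 := by rw [hu, hu', mul_one]
    · have := mul_mem hb hb'
      rwa [mul_assoc, ← mul_assoc (ι u), mem_centralizer_iff_commute.1 hk' _ ⟨u, rfl⟩, mul_assoc, ← map_mul,
        ← mul_assoc] at this

variable (e : Em ι) (hB : El B) (h : B ≤ 𝐍(ι.range))

theorem mem_WW {u : X} : u ∈ WW e hB h ↔ u * u = 1 ∧ ∃ k ∈ 𝐂(ι.range), k * ι u ∈ B := Iff.rfl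

theorem el_WW : El (WW e hB h) := fun _ hu => hu.1

theorem fixW {s : G} {α : X →* X} (hs : s ∈ B) (a : Act ι s α) : ∀ u ∈ WW e hB h, α u = u :=
  fun _ ⟨hu, _, hk, hb⟩ => fix e hB h hs a hu hk hb

theorem dec {b : G} (hb : b ∈ B) (i : Inn ι.range b) : ∃ u ∈ WW e hB h, ∃ k ∈ 𝐂(ι.range), b = k * ι u := by
  obtain ⟨u, k, hu, -, hk, rfl⟩ := e.deci i (hB b hb)
  exact ⟨u, ⟨hu, k, hk, hb⟩, k, hk, rfl⟩

theorem count : Nat.card ↥((ι.range ⊔ 𝐂(ι.range)) ⊓ B) ≤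
    Nat.card (WW e hB h) * Nat.card ↥(B ⊓ 𝐂(ι.range)) := by
  choose κ h1 h2 using fun u : WW e hB h => u.2.2
  rw [← Nat.card_prod]
  refine Nat.card_le_card_of_surjective (fun p : WW e hB h × ↥(B ⊓ 𝐂(ι.range)) =>
    (⟨p.2 * (κ p.1 * ι p.1), mul_mem (mem_sup_right p.2.2.2) (mul_mem (mem_sup_right (h1 _))
      (mem_sup_left ⟨_, rfl⟩)), mul_mem p.2.2.1 (h2 _)⟩ : ↥((ι.range ⊔ 𝐂(ι.range)) ⊓ B))) fun ⟨b, hi, hb⟩ => ?_
  obtain ⟨u, hu, k, hk, rfl⟩ := dec e hB h hb (inn_iff.2 hi)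
  refine ⟨⟨⟨u, hu⟩, ⟨k * ι u * (κ ⟨u, hu⟩ * ι u)⁻¹, mem_inf.2 ⟨B.mul_mem hb (B.inv_mem (h2 ⟨u, hu⟩)), ?_⟩⟩⟩,
    Subtype.ext (inv_mul_cancel_right _ _)⟩
  rw [_root_.mul_inv_rev, ← mul_assoc, mul_inv_cancel_right]
  exact mul_mem hk (inv_mem (h1 _))

theorem act_mul {a b : G} {g g' : GX n F} {φ φ' : RingAut F} {ε ε' : Bool} (ha : Act ι a (au g φ ε))
    (hb : Act ι b (au g' φ' ε')) : ∃ g'', Act ι (a * b) (au g'' (φ * φ') (xor ε ε')) := by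
  obtain ⟨g'', k⟩ := au_comp g g' φ φ' ε ε'
  exact ⟨g'', k ▸ ha.mul hb⟩

/-- the elements that are not of graph type -/
def B1 (hB : El B) : Subgroup G where
  carrier := {b | b ∈ B ∧ NG ι b}
  one_mem' := ⟨one_mem _, by
    obtain ⟨g, a⟩ := Dg.of_inn (ι := ι) (inn_iff.2 (one_mem _))
    exact ⟨g, 1, a⟩⟩
  inv_mem' := fun {u} hu => by rwa [hB.inv hu.1]
  mul_mem' := by
    rintro a b ⟨ha, g, φ, h1⟩ ⟨hb, g', φ', h2⟩
    obtain ⟨g'', k⟩ := act_mul h1 h2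
    exact ⟨mul_mem ha hb, g'', _, k⟩

include e h in
theorem fld {b : G} (hb : b ∈ B1 (ι := ι) hB) (o : ¬ Inn ι.range b) :
    ∃ g φ, Act ι b (au g φ false) ∧ Ou g φ false ∧ Sg φ := by
  obtain ⟨g, φ, ε, a, o'⟩ := e.ou (h hb.1) (hB b hb.1) o
  obtain ⟨g', φ', a'⟩ := hb.2
  obtain rfl := (au_uniq (a.uniq e a')).2
  exact ⟨g, φ, a, o', o'.out.resolve_right (by simp), o'.sq⟩

theorem sg_sq {σ : RingAut F} (s : Sg σ) : σ * σ = 1 := RingEquiv.ext s.2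

theorem sixteen (h4 : 4 ≤ Nat.card F) : 16 ≤ Nat.card F ^ MM n := by
  have h2 : 2 ≤ MM n := by
    have := kk_le_MM (n := n)
    have : 1 ≤ kk n := by unfold kk; omega
    omega
  exact (Nat.pow_le_pow_left h4 2).trans (Nat.pow_le_pow_right (by omega) h2)

theorem one_out {s : G} (hs : s ∈ B) (o : ¬ Inn ι.range s) : 2 * Nat.card (WW e hB h) < Nat.card F ^ MM n := by
  obtain ⟨g, φ, ε, a, o'⟩ := e.ou (h hs) (hB s hs) o
  have hp : 0 < Nat.card (WW e hB h) := Nat.card_pos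
  by_cases h1 : φ = 1
  · subst h1
    obtain rfl : ε = true := o'.out.resolve_left (by simp)
    obtain ⟨k1, k2⟩ := rk_lg (el_WW e hB h) o' (fixW e hB h hs a)
    by_cases hn : n ≤ 1
    · have := Ok.h (F := F) hn
      nlinarith
    · have h2 : 2 ≤ Nat.card F := Finite.one_lt_card
      have := k2 (by omega)
      have h3 : 2 ^ 2 ≤ Nat.card F ^ 2 := Nat.pow_le_pow_left h2 2
      nlinarith
  · have k1 := rk_sg (el_WW e hB h) o' h1 (fixW e hB h hs a)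
    have k2 := sixteen (n := n) (sg_four ⟨h1, o'.sq⟩)
    by_contra c
    nlinarith

theorem two_out {s s' : G} (hs : s ∈ B) (o : s ∉ B1 (ι := ι) hB) (hs' : s' ∈ B1 (ι := ι) hB)
    (o' : ¬ Inn ι.range s') : 4 * Nat.card (WW e hB h) < Nat.card F ^ MM n := by
  obtain ⟨g', σ, a', u', sg⟩ := fld e hB h hs' o'
  have key : ∀ s ∈ B, LG ι s → 4 * Nat.card (WW e hB h) < Nat.card F ^ MM n := fun s hs ⟨g0, a0⟩ => by
    obtain ⟨g, φ, ε, a, u⟩ := e.ou (h hs) (hB s hs) fun i => by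
      obtain ⟨g1, a1⟩ := Dg.of_inn i
      exact absurd (au_uniq (a0.uniq e a1)).2 (by simp)
    obtain ⟨rfl, rfl⟩ := au_uniq (a.uniq e a0)
    have k1 := rk_both (el_WW e hB h) u u' sg.1 (fixW e hB h hs a) (fixW e hB h hs'.1 a')
    have k0 := sg_four sg
    have k2 := sixteen (n := n) k0
    have k3 : Nat.card (WW e hB h) ^ 2 * 4 ≤ Nat.card F ^ MM n := (Nat.mul_le_mul_left _ k0).trans k1
    by_contra c
    nlinarith
  obtain ⟨g, φ, ε, a, u⟩ := e.ou (h hs) (hB s hs) fun i => by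
    obtain ⟨g1, a1⟩ := Dg.of_inn i
    exact o ⟨hs, g1, 1, a1⟩
  obtain rfl : ε = true := by
    cases ε
    · exact absurd ⟨hs, g, φ, a⟩ o
    · rfl
  by_cases h1 : φ = 1
  · subst h1
    exact key s hs ⟨g, a⟩
  · obtain rfl := aut_inv ⟨h1, u.sq⟩ sg
    obtain ⟨g'', k⟩ := act_mul a a'
    rw [sg_sq sg] at k
    exact key _ (mul_mem hs hs'.1) ⟨g'', k⟩

theorem main : (B ≤ ι.range ⊔ 𝐂(ι.range) ∧ Nat.card B ≤ Nat.card (WW e hB h) * Nat.card ↥(B ⊓ 𝐂(ι.range))) ∨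
    Nat.card B < Nat.card F ^ MM n * Nat.card ↥(B ⊓ 𝐂(ι.range)) := by
  have c0 := count e hB h
  have hp : 0 < Nat.card ↥(B ⊓ 𝐂(ι.range)) := Nat.card_pos
  have le1 : B1 (ι := ι) hB ≤ B := fun _ k => k.1
  have l1 : Le2 (B1 (ι := ι) hB) B := fun a ha b hb h1 h2 => ⟨mul_mem ha hb,
    e.ng_mul (h ha) (h hb) (fun k => h1 ⟨ha, k⟩) fun k => h2 ⟨hb, k⟩⟩
  have l2 : Le2 (ι.range ⊔ 𝐂(ι.range)) (B1 (ι := ι) hB) := fun a ha b hb h1 h2 => by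
    obtain ⟨g, φ, a1, -, s1⟩ := fld e hB h ha fun k => h1 (inn_iff.1 k)
    obtain ⟨g', φ', a2, -, s2⟩ := fld e hB h hb fun k => h2 (inn_iff.1 k)
    obtain rfl := aut_inv s1 s2
    obtain ⟨g'', k⟩ := act_mul a1 a2
    rw [sg_sq s1] at k
    exact inn_iff.1 (Dg.inn e ⟨g'', k⟩ (P2.of_sq (hB _ (mul_mem ha.1 hb.1))))
  have c1 := l1.card_le
  have c2 := l2.card_le
  rw [inf_eq_left.2 le1] at c1
  have c3 : Nat.card ↥((ι.range ⊔ 𝐂(ι.range)) ⊓ B1 (ι := ι) hB) ≤ Nat.card ↥((ι.range ⊔ 𝐂(ι.range)) ⊓ B) :=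
    card_le_of_le (inf_le_inf_left _ le1)
  by_cases h0 : B ≤ ι.range ⊔ 𝐂(ι.range)
  · exact Or.inl ⟨h0, by rwa [inf_eq_right.2 h0] at c0⟩
  obtain ⟨s, hs, o⟩ := SetLike.not_le_iff_exists.1 h0
  have k1 := Nat.mul_lt_mul_of_lt_of_le (one_out e hB h hs fun k => o (inn_iff.1 k)) le_rfl hp
  right
  by_cases h1 : B ≤ B1 (ι := ι) hB
  · have := card_le_of_le h1
    rw [mul_assoc] at k1
    omega
  by_cases h2 : B1 (ι := ι) hB ≤ ι.range ⊔ 𝐂(ι.range)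
  · have := card_le_of_le (le_inf h2 le1)
    rw [mul_assoc] at k1
    omega
  obtain ⟨s1, hs1, o1⟩ := SetLike.not_le_iff_exists.1 h1
  obtain ⟨s2, hs2, o2⟩ := SetLike.not_le_iff_exists.1 h2
  have k2 := Nat.mul_lt_mul_of_lt_of_le (two_out e hB h hs1 o1 hs2 fun k => o2 (inn_iff.1 k)) le_rfl hp
  rw [mul_assoc] at k2
  omega

end RKG

theorem rk1 (e : Em ι) {B : Subgroup G} (hB : El B) (h : B ≤ 𝐍(ι.range)) :
    Nat.card B ≤ Nat.card F ^ MM n * Nat.card ↥(B ⊓ 𝐂(ι.range)) := by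
  rcases RKG.main e hB h with k | k
  · exact k.2.trans (Nat.mul_le_mul_right _ (rk0 (RKG.el_WW e hB h)).1)
  · exact k.le

theorem rk2 (e : Em ι) {B : Subgroup G} (hB : El B) (h : B ≤ 𝐍(ι.range))
    (c : Nat.card F ^ MM n * Nat.card ↥(B ⊓ 𝐂(ι.range)) ≤ Nat.card B) : ∃ J, IsJ J ∧
      (∀ b ∈ B, ∃ x ∈ J, ∃ k ∈ 𝐂(ι.range), b = k * ι x) ∧ ∀ x ∈ J, ∃ b ∈ B, ∃ k ∈ 𝐂(ι.range), b = k * ι x := by
  obtain ⟨k1, k2⟩ := (RKG.main e hB h).resolve_right (not_lt.2 c)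
  exact ⟨_, (rk0 (RKG.el_WW e hB h)).2 (Nat.le_of_mul_le_mul_right (c.trans k2) Nat.card_pos),
    fun b hb => RKG.dec e hB h hb (inn_iff.2 (k1 hb)), fun x ⟨_, k, hk, hb⟩ => ⟨_, hb, k, hk, rfl⟩⟩

theorem RKG.cardJ (h : C1 ι t) {J : Subgroup X} (hJ : IsJ J) :
    El (zpowers t ⊔ J.map ι) ∧ Nat.card ↥(zpowers t ⊔ J.map ι) = 2 * Nat.card F ^ MM n := by
  have c : ∀ b ∈ J.map ι, t * b = b * t := by
    rintro _ ⟨x, -, rfl⟩
    exact h.tc x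
  refine ⟨(el_zpowers h.t2).sup (hJ.el.map ι) fun b hb y hy => ?_, ?_⟩
  · rcases (mem_zp h.t2).1 hb with rfl | rfl
    · rw [one_mul, mul_one]
    · exact c y hy
  · rw [card_zp_sup h.t2 c fun k => h.t_not (map_le_range ι J k), h.em.card2 hJ.el.isP, hJ.card]

theorem C1.rk (h : C1 ι t) {B : Subgroup G} (hB : El B) (c : ∀ b ∈ B, b * t = t * b) :
    Nat.card B ≤ 2 * Nat.card F ^ MM n ∧
      (2 * Nat.card F ^ MM n ≤ Nat.card B → ∃ J, IsJ J ∧ B = zpowers t ⊔ J.map ι) := by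
  have hN : B ≤ 𝐍(ι.range) := fun b hb => h.CN b (c b hb)
  have h1 : B ⊓ 𝐂(ι.range) ≤ zpowers t := fun b hb => (mem_zp h.t2).2 (h.uq b hb.2 (hB b hb.1) (c b hb.1))
  have h2 : Nat.card ↥(B ⊓ 𝐂(ι.range)) ≤ 2 :=
    (card_le_of_le h1).trans (H70.card_zpowers_of_sq h.t1 (by rw [sq, h.t2])).le
  have h3 := Nat.mul_le_mul_left (Nat.card F ^ MM n) h2
  refine ⟨(rk1 h.em hB hN).trans (by omega), fun k => ?_⟩
  obtain ⟨J, hJ, a, -⟩ := rk2 h.em hB hN (by omega)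
  refine ⟨J, hJ, eq_of_le_of_card_ge (fun b hb => ?_) (by rw [(RKG.cardJ h hJ).2]; exact k)⟩
  obtain ⟨x, hx, k', hk', e'⟩ := a b hb
  obtain ⟨u, hu, e''⟩ := h.inn ⟨_, ⟨x, rfl⟩, k', hk', e'⟩ (hB b hb) (c b hb)
  rcases e'' with e'' | e''
  · obtain rfl := RKG.uniq h.em (hJ.el x hx) hu hk' (one_mem _) (by rw [← e', e'', one_mul])
    exact e'' ▸ mem_sup_right ⟨x, hx, rfl⟩
  · obtain rfl := RKG.uniq h.em (hJ.el x hx) hu hk' h.tC (by rw [← e', e''])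
    exact e'' ▸ mul_mem_sup (mem_zpowers t) ⟨x, hx, rfl⟩

theorem C1.cardJ (h : C1 ι t) {J : Subgroup X} (hJ : IsJ J) :
    El (zpowers t ⊔ J.map ι) ∧ Nat.card ↥(zpowers t ⊔ J.map ι) = 2 * Nat.card F ^ MM n := by
  exact RKG.cardJ h hJ

end LMS
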