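import Cfsg.Agent.Lib.LMS.BK
import Cfsg.Agent.Lib.LMS.RKG
import Cfsg.Agent.Lib.LMS.GD
import Cfsg.Agent.Lib.LMS.HF
import Cfsg.Agent.Lib.LMS.ZS
import Cfsg.Agent.Lib.LMS.IRR

set_option autoImplicit false
set_option linter.unusedSectionVars false

namespace LMS

open Subgroup H69 Cfsg Matrix U4S
open scoped MatrixGroups commutatorElement

universe u
variable {G : Type*} [Group G] [Finite G] {F : Type u} [Field F] [CharP F 2] [Fintype F] {n : ℕ} [Ok n F]
  {ι ψ χ : XX n F →* G} {t : G} {E : Subgroup G}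

local notation "X" => XX n F
local notation "I" => Fin (n + 3)
local notation "Mx" => Matrix (Fin (n + 3)) (Fin (n + 3)) F

namespace FC1

theorem fr_au (φ : RingAut F) : (fr φ : X →* X) = au 1 φ false :=
  MonoidHom.ext fun x => by rw [au_false, gc_one]

variable {K : Type*} [Field K] [Fintype K] [CharP K 2] [Ok n K] {ψ : XX n K →* G} {f : F →+* K} {σ : RingAut K}

theorem tM (h : Fc ι ψ f σ t E) : t ∈ 𝐍(ψ.range) :=
  Act.mem (g := 1) (φ := σ) (ε := false) (by rw [← fr_au]; exact h.tw)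

theorem map_xe (f : F →+* K) {i j : I} (h : i ≠ j) (c : F) :
    Matrix.SpecialLinearGroup.map f (xe i j c : X) = xe i j (f c) := by
  refine Subtype.ext (Matrix.ext fun a b => ?_)
  change f ((xe i j c : X).1 a b) = _
  simp [xe_val h, one_apply, single_apply, apply_ite f]

theorem fx {s : G} {α : XX n K →* XX n K} (a : Act ψ s α) {B : Subgroup (XX n K)} (hB : ∀ b ∈ B, α b = b) :
    ∀ b ∈ B.map ψ, b * s = s * b := by
  rintro _ ⟨b, hb, rfl⟩
  exact (a.fix (hB b hb)).symm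

theorem zs (hK : Nat.card K = Nat.card F ^ 2) (e : Em ψ) {s : G} (k : C1 ι s) {g : GX n K} {φ : RingAut K}
    {ε : Bool} (a : Act ψ s (au g φ ε)) (o : Ou g φ ε) (z : Zs (au g φ ε)) : False := by
  obtain ⟨ρ, r, h1, h2, h3⟩ := z
  obtain ⟨h4, h5⟩ := pr_sq hK h3
  have c := a.fix h1
  have h6 := (pra k.em h4 (k.CN _ c.symm) (by rw [← map_pow, ← h2, pow_orderOf_eq_one, map_one])).resolve_right
    fun ⟨b, hb, _⟩ => h5 b hb
  obtain ⟨P, hP, y, hy, y2, y1, -⟩ := cb_out o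
  have y3 : ψ y * ψ y = 1 := by rw [← map_mul, y2, map_one]
  have i := k.em.comm_inn (P := P.map ψ) (fun b hb => k.CN b (fx a hP b hb))
    (by rw [← Subgroup.map_commutator]; exact mem_map_of_mem ψ hy) (P2.of_sq y3)
  obtain ⟨u, -, hu⟩ := k.inn i y3 (fx a hP _ (mem_map_of_mem ψ (commutator_le_of_le le_rfl le_rfl hy)))
  have h7 : ι u * ψ ρ = ψ ρ * ι u := h6 _ ⟨u, rfl⟩
  refine irr' h3 h2 y2 y1 (e.comm2 (P2.of_sq y2) ?_).symm
  rcases hu with hu | hu <;> rw [hu]
  · exact h7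
  · rw [mul_assoc, h7, ← mul_assoc, c, mul_assoc]

theorem fld (h : Fc ι ψ f σ t E) {g : G} {g0 : GX n K} (a : Act ψ (g * t * g⁻¹) (au g0 σ false))
    (o : Ou g0 σ false) : g ∈ 𝐍(ψ.range) := by
  have h0 : (0 : I) ≠ iL := Fin.last_pos.ne
  obtain ⟨C, hC⟩ := nfA o
  obtain ⟨ω, hω⟩ := sg_free (σ := σ) h.sg
  have s2 := (h.toC1.cj g).t2
  have fs : ∀ x, σ (f x) = f x := fun x => (h.fix _).2 ⟨x, rfl⟩
  let μ : X →* XX n K := (gc C).toMonoidHom.comp (Matrix.SpecialLinearGroup.map f)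
  have hμ : ∀ x, μ x = gc C (Matrix.SpecialLinearGroup.map f x) := fun _ => rfl
  have inj : Function.Injective μ := fun x y e =>
    Subtype.ext (Matrix.map_injective f.injective (congrArg Subtype.val ((gc C).injective e)))
  have em : Em (ψ.comp μ) := fun x hx => mem_center_iff.2 fun y => inj (by
    rw [map_mul, map_mul]; exact mem_center_iff.1 (h.em' hx) _)
  have := bk h.toC4 (g := g) em (fun x => a.fix (by
      rw [hμ, hC]; congr 1; exact Subtype.ext (Matrix.ext fun i j => fs _))) (H := ψ.range)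
    (by rintro _ ⟨x, rfl⟩; exact ⟨_, rfl⟩) fun c => ⟨ψ (gc C (xe 0 iL (ω * f c))), ⟨_, rfl⟩,
      by rw [← map_mul, ← map_mul, xe_sq, map_one, map_one], fun x hx => ?_, ?_⟩
  · rw [h.yy] at this
    exact mem_normalizer_of_cj_le this
  · obtain ⟨p1, p2⟩ := (mem_PP h0).1 (QQ_le h0 hx)
    have m : Matrix.SpecialLinearGroup.map f x ∈ PP K (0 : I) iL := (mem_PP h0).2
      ⟨fun b => (congrArg f (p1 b)).trans (by simp [one_apply, apply_ite f]),
        fun b => (congrArg f (p2 b)).trans (by simp [one_apply, apply_ite f])⟩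
    rw [MonoidHom.comp_apply, hμ, ← map_mul, ← map_mul, ← map_mul, ← map_mul, PP_cen h0 m]
  · have h1 := a (gc C (xe 0 iL (ω * f c)))
    rw [hC, fr_xe, map_mul σ, fs] at h1
    have h2 : (ψ.comp μ) (xe 0 iL c) = ψ (gc C (xe 0 iL (σ ω * f c))) * (ψ (gc C (xe 0 iL (ω * f c))))⁻¹ := by
      rw [MonoidHom.comp_apply, hμ, map_xe f h0, ← map_inv, ← map_inv, xe_inv, ← map_mul, ← map_mul, xe_mul,
        ← add_mul, add_comm (σ ω), hω, one_mul]
    rw [h2, ← h1]
    generalize g * t * g⁻¹ = s at s2 ⊢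
    rw [inv_eq_of_mul_eq_one_left s2, ← mul_assoc, ← mul_assoc, ← mul_assoc, s2, one_mul]

end FC1

theorem Fc.odd {K : Type*} [Field K] [Fintype K] [CharP K 2] [Ok n K] {ψ : XX n K →* G} {f : F →+* K} {σ : RingAut K}
    (h : Fc ι ψ f σ t E) : Odd (Nat.card ↥𝐂(ψ.range)) := by
  refine odd_of_inv h.t2 (normalizer_le_normalizer_centralizer _ (FC1.tM h)) fun c hc c2 ct => ?_
  refine (h.uq c (centralizer_anti ?_ hc) c2 ct).resolve_right fun e => h.sg.1 ?_
  · rintro _ ⟨x, rfl⟩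
    exact ⟨_, h.res x⟩
  · refine nc1 (n := n) (g := 1) (ε := false) fun a => ?_
    rw [← FC1.fr_au]
    exact h.tw.fix' h.em' (P2.of_sq (xe_sq _ _ _)) (e ▸ (hc _ ⟨_, rfl⟩).symm)

theorem Fc.ct {K : Type*} [Field K] [Fintype K] [CharP K 2] [Ok n K] {ψ : XX n K →* G} {f : F →+* K} {σ : RingAut K}
    (hK : Nat.card K = Nat.card F ^ 2) (h : Fc ι ψ f σ t E) : Ct 𝐍(ψ.range) t := by
  refine ⟨h.t2, FC1.tM h, fun g hg => ?_⟩
  have k := h.toC1.cj g
  have q2 : 2 ≤ Nat.card F := Finite.one_lt_card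
  have bd : ∀ {B : Subgroup (XX n K)}, El B → (∀ b ∈ B.map ψ, b * (g * t * g⁻¹) = g * t * g⁻¹ * b) →
      Nat.card B ≤ 2 * Nat.card F ^ MM n := fun {B} b1 b2 => by
    rw [← h.em'.card2 b1.isP]
    exact (k.rk (b1.map ψ) b2).1
  by_cases i : Inn ψ.range (g * t * g⁻¹)
  · obtain ⟨u, c, u2, -, hc, e⟩ := h.em'.deci i k.t2
    obtain ⟨z, hz⟩ := inv_J u2
    have hJ := (isJ_kk (n := n) (F := K)).cj z⁻¹
    have hu : u ∈ JJ n K (kk n) ^ᶜ z⁻¹ := mem_cj'.2 ⟨_, hz, by group⟩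
    have h1 := bd hJ.el (by
      rintro _ ⟨b, hb, rfl⟩
      rw [e, ← mul_assoc, hc _ ⟨b, rfl⟩, mul_assoc, mul_assoc, ← map_mul, ← map_mul, hJ.el.comm hb hu])
    rw [hJ.card, hK, ← pow_mul, mul_comm 2 (MM n), pow_mul] at h1
    have h2 := four_le_MM (n := n) (F := F)
    nlinarith
  obtain ⟨g0, φ, ε, a, o⟩ := h.em'.ou hg k.t2 i
  cases ε with
  | false =>
    obtain rfl : φ = σ := aut_inv ⟨o.out.resolve_right (by simp), o.sq⟩ h.sg
    exact FC1.fld h a o
  | true =>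
    exfalso
    have q4 : n ≤ 1 → 16 ≤ Nat.card K := fun hn => by
      have := Ok.h (F := F) hn
      rw [hK]; nlinarith
    by_cases p : φ = 1
    · subst p
      rcases Nat.even_or_odd n with hn | hn
      · refine FC1.zs hK h.em' k a o (zsC o hn fun e => ?_)
        by_cases n1 : n ≤ 1
        · have := (Nat.pow_le_pow_left (q4 n1) 2).trans
            (Nat.pow_le_pow_right (Nat.card_pos (α := K)) (by omega : 2 ≤ n + 2))
          omega
        · have := (Nat.pow_le_pow_left (show 4 ≤ Nat.card K by rw [hK]; nlinarith) 4).trans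
            (Nat.pow_le_pow_right (Nat.card_pos (α := K)) (by omega : 4 ≤ n + 2))
          omega
      · obtain ⟨B, b1, b2, b3⟩ := hf2 o
        have h1 := bd b1 (FC1.fx a b2)
        rw [hK, ← pow_mul, mul_comm 2, pow_mul] at b3
        have h2 := (Nat.pow_le_pow_iff_left two_ne_zero).1 b3
        obtain ⟨j, rfl⟩ := hn
        have e1 : kk (2 * j + 1) = j + 2 := by unfold kk; omega
        have e2 : MM (2 * j + 1) = (j + 2) * (j + 2) := by
          unfold MM; rw [e1]; congr 1; omega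
        rw [e1, pow_add] at h2
        rw [e2] at h1
        have h3 := Nat.le_of_mul_le_mul_left ((h2.trans h1).trans_eq (mul_comm _ _)) (by positivity)
        have h4 := (Nat.pow_le_pow_left q2 2).trans
          (Nat.pow_le_pow_right (Nat.card_pos (α := F)) (by omega : 2 ≤ j + 2))
        omega
    · exact FC1.zs hK h.em' k a o (zsB o p fun e => by have := q4 e.1; omega)

end LMS
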