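import Cfsg.Agent.Lib.LMS.B7

set_option autoImplicit false
set_option linter.unusedSectionVars false

namespace LMS

open Subgroup H69 Cfsg Matrix U4S
open scoped MatrixGroups commutatorElement

universe u
variable {G : Type*} [Group G] [Finite G] {F : Type u} [Field F] [CharP F 2] [Fintype F] {n : ℕ} [Ok n F]
  {ι ψ χ : XX n F →* G} {t : G} {E : Subgroup G}

local notation "X" => XX n F
local notation "I" => Fin (n + 3)
local notation "Mx" => Matrix (Fin (n + 3)) (Fin (n + 3)) F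

namespace FC2

/-- the permutation of the roots -/
def rr (ε : Bool) (p : I × I) : I × I := if ε then (p.2.rev, p.1.rev) else p

/-- `a` permutes the root groups -/
def Pg (ψ : X →* G) (a : G) (φ : RingAut F) (ε : Bool) : Prop := ∃ l : I × I → F, (∀ p, l p ≠ 0) ∧
  ∀ (p : I × I) c, a * ψ (xe p.1 p.2 c) * a⁻¹ = ψ (xe (rr ε p).1 (rr ε p).2 (l p * φ c))

/-- the type of `a` -/
def Ty (ψ : X →* G) (a : G) (φ : RingAut F) (ε : Bool) : Prop := ∃ g, Act ψ a (au g φ ε)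

theorem auto_lemmas : True := by
  have := @rr.eq_1
  have := @Pg.eq_1.{0, 0}
  have := @Ty.eq_1.{0, 0}
  trivial

variable {a b : G} {φ φ' : RingAut F} {ε ε' : Bool}

theorem rr_rr (ε ε' : Bool) (p : I × I) : rr ε (rr ε' p) = rr (xor ε ε') p := by
  cases ε <;> cases ε' <;> simp [rr]

theorem Pg.mul (h : Pg ψ a φ ε) (k : Pg ψ b φ' ε') : Pg ψ (a * b) (φ * φ') (xor ε ε') := by
  obtain ⟨l, l0, h⟩ := h
  obtain ⟨l', l0', k⟩ := k
  refine ⟨fun p => l (rr ε' p) * φ (l' p), fun p => mul_ne_zero (l0 _) ((map_ne_zero φ).2 (l0' _)), fun p c => ?_⟩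
  rw [show a * b * ψ (xe p.1 p.2 c) * (a * b)⁻¹ = a * (b * ψ (xe p.1 p.2 c) * b⁻¹) * a⁻¹ by group, k, h, rr_rr,
    map_mul φ, mul_assoc]
  rfl

theorem Pg.inv (h : Pg ψ a φ ε) : Pg ψ a⁻¹ φ⁻¹ ε := by
  obtain ⟨l, l0, h⟩ := h
  refine ⟨fun p => φ⁻¹ (l (rr ε p))⁻¹, fun p => (map_ne_zero φ⁻¹).2 (inv_ne_zero (l0 _)), fun p c => ?_⟩
  have := h (rr ε p) (φ⁻¹ (l (rr ε p))⁻¹ * φ⁻¹ c)
  rw [rr_rr, Bool.xor_self, ← map_mul φ⁻¹, show ∀ x, φ (φ⁻¹ x) = x from φ.apply_symm_apply,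
    mul_inv_cancel_left₀ (l0 _), map_mul φ⁻¹] at this
  change a⁻¹ * ψ (xe (rr false p).1 (rr false p).2 c) * a⁻¹⁻¹ = _
  rw [← this]
  group

theorem Pg.cj (h : Pg ψ a φ ε) (k : Pg ψ b 1 false) : Pg ψ (a * b * a⁻¹) 1 false := by
  simpa using (h.mul k).mul h.inv

theorem Ty.mul (h : Ty ψ a φ ε) (k : Ty ψ b φ' ε') : Ty ψ (a * b) (φ * φ') (xor ε ε') := by
  obtain ⟨g, h⟩ := h
  obtain ⟨g', k⟩ := k
  obtain ⟨g'', e⟩ := au_comp g g' φ φ' ε ε'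
  exact ⟨g'', e ▸ h.mul k⟩

theorem Ty.uniq (e : Em ψ) (h : Ty ψ a φ ε) (k : Ty ψ a φ' ε') : φ = φ' ∧ ε = ε' := by
  obtain ⟨g, h⟩ := h
  obtain ⟨g', k⟩ := k
  exact au_uniq (h.uniq e k)

theorem exN (e : Em ψ) (o : Odd (Nat.card ↥𝐂(ψ.range))) : ∃ N : Subgroup G, Odd (Nat.card N) ∧
    (∀ a, a ∈ N ↔ Dg ψ a ∧ Pg ψ a 1 false) ∧
      ∀ a ∈ 𝐍(ψ.range), ∀ φ ε, Pg ψ a φ ε → a ∈ 𝐍(N) := by
  obtain ⟨K, hK, hc⟩ := e.sub_dg
  let N0 : Subgroup G :=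
    { carrier := {a | Pg ψ a 1 false}
      one_mem' := ⟨fun _ => 1, fun _ => one_ne_zero, fun p c => by simp [rr]⟩
      mul_mem' := fun h k => by simpa using Pg.mul h k
      inv_mem' := fun h => by simpa using Pg.inv h }
  refine ⟨K ⊓ N0, odd_of_inv (mul_one 1) (one_mem _) fun c hc c2 _ => ?_, fun a => and_congr_left' (hK a),
    fun a ha φ ε h => mem_normalizer_of_cj_le fun x hx => ?_⟩
  · obtain ⟨l, -, h⟩ := hc.2
    have k : cι ψ c = ψ := ext_xe fun i j x => by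
      by_cases ij : i = j
      · rw [ij, xe_self, map_one, map_one]
      have h1 := h (i, j) 1
      have h2 := h (i, j) (l (i, j) * 1)
      have h3 := h (i, j) x
      simp only [rr, Bool.false_eq_true, if_false, RingAut.one_apply, mul_one] at h1 h2 h3
      rw [← h1, show c * (c * ψ (xe i j 1) * c⁻¹) * c⁻¹ = c * c * ψ (xe i j 1) * (c * c)⁻¹ by group, c2, one_mul,
        inv_one, mul_one] at h2
      have h4 : l (i, j) * l (i, j) + 1 = 0 := xe_cen ij (e (by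
        rw [MonoidHom.mem_ker, ← xe_mul, map_mul, ← h2, ← map_mul, xe_sq, map_one]))
      have h5 : l (i, j) + 1 = 0 := pow_eq_zero_iff two_ne_zero |>.1 (by rw [CharTwo.add_sq, sq, one_pow, h4])
      rw [cι_apply, h3, CharTwo.add_eq_zero.1 h5, one_mul]
    refine (P2.of_sq c2).eq_one (o.of_dvd_nat (orderOf_dvd_natCard 𝐂(ψ.range) ?_))
    rintro _ ⟨x, rfl⟩
    exact (mul_inv_eq_iff_eq_mul.1 (DFunLike.congr_fun k x)).symm
  · obtain ⟨b, hb, rfl⟩ := mem_cj'.1 hx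
    obtain ⟨g, hg⟩ := (hK b).1 hb.1
    refine ⟨?_, h.cj hb.2⟩
    rw [show a * b * a⁻¹ = ⁅a, b⁆ * b by rw [commutatorElement_def]; group]
    exact mul_mem ((hK _).2 (e.dg_comm ha hg.mem)) hb.1

variable {σ : RingAut F} (e : Em ψ) (hσ : Sg σ) (ac : Act ψ t (fr σ)) (o : Odd (Nat.card ↥𝐂(ψ.range)))
  (c : Ct 𝐍(ψ.range) t) (m : Am ψ.range E t)

include e c m in
theorem inv {y : G} (yM : y ∈ 𝐍(ψ.range)) (yE : y ∈ E) (y2 : y * y = 1) (yt : y * t = t * y) : Dg ψ y := by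
  obtain ⟨K, hK, hc⟩ := e.sub_dg
  refine (hK y).1 (c.trf m.nE (m.pf fun k => ?_) m.idx ((commutator_mono inf_le_left inf_le_left).trans hc)
    yM yE y2 yt fun x _ _ hx => (hK _).2 ?_)
  · exact one_ne_zero (xe_cen (i := 0) (j := iL) (Fin.last_pos.ne) (e.cen.1 (k ⟨xe 0 iL (1 : F), rfl⟩)))
  · have := e.dg_comm hx c.tM
    rwa [commutatorElement_def, inv_eq_of_mul_eq_one_right c.t2, show x⁻¹ * y * x * t * (x⁻¹ * y * x)⁻¹ * t =
      x⁻¹ * y * x * (t * (x⁻¹ * y⁻¹ * x) * t) by group, inv_eq_of_mul_eq_one_right y2] at this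

include e ac o c m in
theorem step {y : G} (yM : y ∈ 𝐍(ψ.range)) (yE : y ∈ E) (yU : y ∈ 𝐍((UU n F).map ψ)) (k : Dg ψ (y * y)) :
    Dg ψ y := by
  obtain ⟨g, φ, ε, i⟩ := e.act yM
  have i' : Ty ψ y φ ε := ⟨g, i⟩
  have p2 : φ * φ = 1 := ((i'.mul i').uniq e k).1
  obtain ⟨u, -, d, hd⟩ := nU (g := g) (φ := φ) (ε := ε) fun x hx => by
    obtain ⟨v, hv, ev⟩ := conj_mem_of_mem_normalizer yU (⟨x, hx, rfl⟩ : ψ x ∈ (UU n F).map ψ)
    obtain ⟨j, hj⟩ := P2.of_mem sylU.isP hx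
    rwa [← e.inj2 (P2.of_mem sylU.isP hv) ⟨j, by rw [← map_pow, hj, map_one]⟩ (ev.trans (i x))]
  obtain ⟨g0, e0⟩ := cn_au u
  have j0 : Ty ψ (ψ u) 1 false := ⟨g0, by rw [← e0]; exact Act.self u⟩
  have j : Ty ψ (ψ u * y) φ ε := by
    have := j0.mul i'
    rwa [one_mul, Bool.false_xor] at this
  have jP : Pg ψ (ψ u * y) φ ε := ⟨fun p => d p.1 * ((d p.2)⁻¹ : F),
    fun p => mul_ne_zero (d _).ne_zero (inv_ne_zero (d _).ne_zero), fun p x => by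
      rw [((Act.self u).mul i) _, hd]
      cases ε <;> simp [rr]⟩
  have tP : Pg ψ t σ false := ⟨fun _ => 1, fun _ => one_ne_zero, fun p x => by rw [ac, fr_xe, one_mul]; rfl⟩
  have jM : ψ u * y ∈ 𝐍(ψ.range) := mul_mem (le_normalizer ⟨u, rfl⟩) yM
  have jE : ψ u * y ∈ E := mul_mem (m.le ⟨u, rfl⟩) yE
  generalize ψ u * y = z at j jP jM jE
  obtain ⟨N, oN, hN, nN⟩ := exN e o
  have NE : ∀ x ∈ N, x ∈ E := fun x hx => m.odd_mem (oN.of_dvd_nat (orderOf_dvd_natCard _ hx))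
  obtain ⟨x, hx, x2, xt⟩ := lift4 oN (nN z jM _ _ jP) (nN t c.tM _ _ tP) c.t2
    ((hN _).2 ⟨show Ty ψ _ 1 false by simpa [p2] using j.mul j, by simpa [p2] using jP.mul jP⟩)
    ((hN _).2 ⟨e.dg_comm jM c.tM, by
      have := ((jP.mul tP).mul jP.inv).mul tP.inv
      rw [aut_comm' φ σ] at this
      simpa using this⟩)
  obtain ⟨g1, h1⟩ := ((hN x).1 hx).1
  have := (j.mul ⟨g1, h1⟩).uniq e (inv e c m (mul_mem jM h1.mem) (mul_mem jE (NE x hx)) x2 xt)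
  rw [mul_one, Bool.xor_false] at this
  obtain ⟨rfl, rfl⟩ := this
  exact i'

end FC2

theorem fc2 {σ : RingAut F} (e : Em ψ) (hσ : Sg σ) (a : Act ψ t (fr σ)) (o : Odd (Nat.card ↥𝐂(ψ.range)))
    (c : Ct 𝐍(ψ.range) t) (m : Am ψ.range E t) : IsSylowIn 2 ((UU n F).map ψ) E := by
  have hT := e.sylU
  obtain ⟨S, hS, le⟩ := exists_isSylowIn_le (L := ⊤) (isPGroup_sup_of_le_normalizer_left hT.isP
    (el_zpowers c.t2).isP (zpowers_le.2 (mem_normalizer_of_cj_le fun x hx => by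
      obtain ⟨_, ⟨M, hM, rfl⟩, rfl⟩ := mem_cj'.1 hx
      refine ⟨fr σ M, mem_UU.2 fun i j ij => ?_, (a M).symm⟩
      rw [fr_val, map_apply, mem_UU.1 hM i j ij, one_apply, apply_ite σ, map_one, map_zero]))) le_top
  have h1 := hS.inf_normal le_top (normal_iff_top_le_normalizer.1 m.nE)
  have h2 := c.two_le hS.isP (le (mem_sup_right (mem_zpowers t)))
  have h3 : S ⊓ ψ.range = (UU n F).map ψ :=
    hT.max _ (le_inf (le_sup_left.trans le) hT.le) inf_le_right (hS.isP.to_le inf_le_left)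
  have h4 : ∀ y ∈ S, y ∈ 𝐍((UU n F).map ψ) := fun y hy => mem_normalizer_of_cj_le fun x hx => by
    rw [← h3] at hx ⊢
    obtain ⟨z, hz, rfl⟩ := mem_cj'.1 hx
    exact ⟨S.mul_mem (S.mul_mem hy hz.1) (S.inv_mem hy), conj_mem_of_mem_normalizer (h2 hy) hz.2⟩
  have all : ∀ j : ℕ, ∀ y ∈ S ⊓ E, y ^ 2 ^ j = 1 → Dg ψ y := by
    intro j
    induction j with
    | zero => exact fun y _ k => Dg.of_inn ⟨1, one_mem _, 1, one_mem _, by simpa using k⟩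
    | succ j ih =>
      exact fun y hy k => FC2.step e a o c m (h2 hy.1) hy.2 (h4 y hy.1) (ih _ (mul_mem hy hy)
        (by rw [← sq, ← pow_mul, ← pow_succ', k]))
  rwa [hT.max _ (le_inf (le_sup_left.trans le) (hT.le.trans m.le)) (fun y hy => by
    have p := P2.of_mem hS.isP hy.1
    obtain ⟨j, hj⟩ := id p
    obtain ⟨u, k, -, pk, hk, rfl⟩ := e.dec2 ((all j y hy hj).inn e p) p
    rw [pk.eq_one (o.of_dvd_nat (orderOf_dvd_natCard _ hk)), one_mul]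
    exact ⟨u, rfl⟩) h1.isP] at h1

end LMS
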