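import Cfsg.Agent.Lib.LMS.SA

set_option autoImplicit false
set_option linter.unusedSectionVars false

namespace LMS

open Subgroup H69 Cfsg Matrix U4S
open scoped MatrixGroups commutatorElement

universe u
variable {G : Type*} [Group G] [Finite G] {F : Type u} [Field F] [CharP F 2] [Fintype F] {n : ℕ} [Ok n F]
  {ι ψ χ : XX n F →* G} {t : G} {E : Subgroup G}

local notation "X" => XX n F
local notation "I" => Fin (n + 3)
local notation "Mx" => Matrix (Fin (n + 3)) (Fin (n + 3)) F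

namespace FLD

theorem map_xe {K : Type u} [Field K] [CharP K 2] [Fintype K] [Ok n K] (f : F →+* K) (i j : I) (c : F) :
    Matrix.SpecialLinearGroup.map f (xe i j c : X) = xe i j (f c) := by
  by_cases h : i = j
  · rw [h, xe_self, xe_self, map_one]
  refine Subtype.ext ?_
  rw [xe_val h]
  change (xe i j c : X).1.map f = _
  rw [xe_val h, Matrix.map_add _ (map_add f), Matrix.map_one _ (map_zero f) (map_one f), Matrix.map_single]

theorem range_le {H : Subgroup G} (h : ∀ i j, i ≠ j → ∀ c, ψ (xe i j c) ∈ H) : ψ.range ≤ H := by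
  rintro _ ⟨x, rfl⟩
  refine (top_xe.ge.trans ((closure_le (H.comap ψ)).2 ?_)) (mem_top x)
  rintro _ ⟨i, j, c, rfl⟩
  by_cases e : i = j
  · rw [e, xe_self]; exact one_mem _
  · exact h i j e c

theorem zL : (0 : I) ≠ iL := fun e => by simpa using congrArg Fin.val e

end FLD

theorem fld (h : C4 ι t) {α : F} {Y : I → I → KK α → G} (k : Stb ι t α Y) (a : Am ι.range E t)
    (ir : ∀ r : F, r ^ 2 ≠ α + 1 * r) : ∃ (K : Type u) (_ : Field K) (_ : Fintype K) (_ : CharP K 2),
      Nat.card K = Nat.card F ^ 2 ∧ ∃ (ψ : XX n K →* G) (f : F →+* K) (σ : RingAut K), Fc ι ψ f σ t E := by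
  have _ : Fact (∀ r : F, r ^ 2 ≠ α + 1 * r) := ⟨ir⟩
  let _ : Fintype (KK α) := Fintype.ofEquiv _ (QuadraticAlgebra.equivProd α 1).symm
  have _ : CharP (KK α) 2 := charP_of_injective_algebraMap (QuadraticAlgebra.algebraMap_injective (R := F)) 2
  have cK : Nat.card (KK α) = Nat.card F ^ 2 := by
    rw [Nat.card_congr (QuadraticAlgebra.equivProd _ _), Nat.card_prod, sq]
  have _ : Ok n (KK α) := ⟨fun hn => (Ok.h hn).trans (cK ▸ Nat.le_self_pow two_ne_zero (Nat.card F))⟩
  obtain ⟨ψ, hψ⟩ := H63.St.SL.exists_hom (K := KK α) (Nat.le_add_left 3 n)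
    ⟨Y, fun h => k.add _ _ h, fun h1 h2 h3 h4 => k.c0 _ _ _ _ h1 h2 h3 h4, fun h1 h2 h3 => k.c1 _ _ _ h1 h2 h3⟩
  have hψ : ∀ i j, i ≠ j → ∀ c, ψ (xe i j c) = Y i j c := hψ
  have res : ψ.comp (Matrix.SpecialLinearGroup.map (algebraMap F (KK α))) = ι := ext_xe fun i j c => by
    by_cases e : i = j
    · rw [e, xe_self, map_one, map_one]
    · rw [MonoidHom.comp_apply, FLD.map_xe, hψ i j e, k.res i j e]
  have res' : ∀ x, ψ (Matrix.SpecialLinearGroup.map (algebraMap F (KK α)) x) = ι x := DFunLike.congr_fun res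
  have tw : cι ψ t = ψ.comp (fr starRingAut) := ext_xe fun i j c => by
    by_cases e : i = j
    · rw [e, xe_self, map_one, map_one]
    · rw [MonoidHom.comp_apply, fr_xe, cι_apply, hψ i j e, hψ i j e, inv_eq_of_mul_eq_one_left h.t2, k.tw i j e]
      rfl
  refine ⟨KK α, inferInstance, inferInstance, inferInstance, cK, ψ, algebraMap F (KK α), starRingAut, h,
    (normal_X ψ.ker).resolve_right fun e => one_ne_zero (xe_cen FLD.zL (h.em ?_)), ⟨fun e => ?_, star_star⟩,
    fun c => ⟨fun e => ⟨c.re, ?_⟩, ?_⟩, res', DFunLike.congr_fun tw, le_antisymm ((closure_le _).2 ?_)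
      (FLD.range_le fun i j e c => ?_), a.nE, a.simple, FLD.range_le fun i j e c => ?_, a.idx⟩
  · rw [MonoidHom.mem_ker, ← res']
    exact e.ge (mem_top _)
  · have : (star (QuadraticAlgebra.omega : KK α)).re = (QuadraticAlgebra.omega : KK α).re :=
      congrArg QuadraticAlgebra.re (DFunLike.congr_fun e _)
    simp at this
  · have : (star c).re = c.re := congrArg QuadraticAlgebra.re e
    ext
    · simp
    · simpa using (by simpa using this : c.im = 0).symm
  · rintro ⟨b, rfl⟩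
    change star _ = _
    ext <;> simp
  · rintro _ ⟨x, c, w, hw, rfl⟩
    obtain ⟨b, rfl⟩ := (k.xs 0 iL FLD.zL w).1 ⟨c, hw⟩
    rw [← res', ← hψ _ _ FLD.zL, ← map_inv, ← map_mul, ← map_mul]
    exact ⟨_, rfl⟩
  · obtain ⟨c', hw⟩ := (k.xs i j e _).2 ⟨c, rfl⟩
    obtain ⟨l, l1, l2⟩ := ex_third i j
    obtain ⟨l', l1', l2'⟩ := ex_third (0 : I) iL
    obtain ⟨π, p1, p2, -⟩ := ex_perm3 e l2.symm l1.symm FLD.zL l2'.symm l1'.symm
    have := hw.pm h.toC1 π
    rw [p1, p2] at this
    exact subset_closure ⟨(pmL π)⁻¹, c', _, this, by rw [hψ i j e, map_inv]; group⟩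
  · obtain ⟨l, l1, l2⟩ := ex_third i j
    have m : Y l j 1 ∈ E := by
      rw [← map_one (algebraMap F (KK α)), k.res l j l2]
      exact a.le ⟨_, rfl⟩
    rw [hψ i j e, ← mul_one c, ← k.c1 i l j l1.symm l2 e, commutatorElement_def]
    exact mul_mem (a.nE.conj_mem _ m _) (inv_mem m)

end LMS
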