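import Cfsg.Agent.Lib.LMS.AS

set_option autoImplicit false
set_option linter.unusedSectionVars false
set_option linter.unusedVariables false
set_option linter.unusedSimpArgs false

namespace LMS

open Subgroup H69 Cfsg Matrix U4S
open scoped MatrixGroups commutatorElement

universe u
variable {G : Type*} [Group G] [Finite G] {F : Type u} [Field F] [CharP F 2] [Fintype F] {n : ℕ} [Ok n F]
  {ι ψ χ : XX n F →* G} {t : G} {E : Subgroup G}

local notation "X" => XX n F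
local notation "I" => Fin (n + 3)
local notation "Mx" => Matrix (Fin (n + 3)) (Fin (n + 3)) F

namespace R3

variable {i j l : Fin (n + 3)} {c c' : F} {w v d e : G}

theorem cx (k : SV ι t i j c w) (l : I) (a : F) : Commute (ι (xe i l a)) w :=
  (k.1.1 _ (subset_closure ⟨l, a, Or.inl rfl⟩)).symm
theorem cy (k : SV ι t i j c w) (l : I) (a : F) : Commute (ι (xe l j a)) w :=
  (k.1.1 _ (subset_closure ⟨l, a, Or.inr rfl⟩)).symm
theorem xm (i j : I) (a b : F) : ι (xe i j a) * ι (xe i j b) = ι (xe i j (a + b)) := by rw [← map_mul, xe_mul]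
theorem xx (i j : I) (a : F) : ι (xe i j a) * ι (xe i j a) = 1 := by rw [← map_mul, xe_sq, map_one]
theorem xi (i j : I) (a : F) : (ι (xe i j a))⁻¹ = ι (xe i j a) := by rw [← map_inv, xe_inv]
theorem xinj (h : Em ι) (hij : i ≠ j) {a b : F} (k : ι (xe i j a) = ι (xe i j b)) : a = b :=
  CharTwo.add_eq_zero.1 (xe_cen hij (h (by rw [MonoidHom.mem_ker, ← xm, k, xx])))
theorem xc (hj : i ≠ j) (hl : i ≠ l) (a b : F) : Commute (ι (xe i j a)) (ι (xe i l b)) := by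
  rw [Commute, SemiconjBy, ← map_mul, xe_c0 hl hj.symm, map_mul]

theorem four (hn : n = 0) (f γ : F) (k : ∀ a, f * a = 0 ∨ f * a = γ) : f = 0 := by
  by_contra f0
  have h4 : 4 ≤ Nat.card F := Ok.h (n := n) (by omega)
  have : Nat.card F ≤ 2 := by
    rw [← Set.ncard_univ]
    refine (Set.ncard_le_ncard (t := {0, γ}) (fun x _ => ?_)).trans ((Set.ncard_insert_le _ _).trans (by simp))
    have := k (f⁻¹ * x)
    rwa [mul_inv_cancel_left₀ f0] at this
  omega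

theorem ex_mu (hn : n = 0) : ∃ μ : F, μ ≠ 0 ∧ μ + 1 ≠ 0 := by
  by_contra q
  push Not at q
  refine one_ne_zero (four hn (1 : F) 1 fun a => ?_)
  by_cases a0 : a = 0
  · simp [a0]
  · exact Or.inr (by rw [one_mul]; exact CharTwo.add_eq_zero.1 (q a a0))

theorem cmZ (h : C2 ι t) (hij : i ≠ j) (k : SV ι t i j c d) (k' : SV ι t i j c' e) :
    ∃ a, d * e = e * d * ι (xe i j a) := by
  obtain ⟨a1, e1⟩ := (k.mul h hij k').sq h hij
  obtain ⟨a2, e2⟩ := k.sq h hij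
  obtain ⟨a3, e3⟩ := k'.sq h hij
  refine ⟨a2 + a3 + a1, ?_⟩
  have : d * e * ι (xe i j a1) = e * d * ι (xe i j (a2 + a3)) := by
    calc d * e * ι (xe i j a1) = d * ι (xe i j a1) * e := by rw [mul_assoc, ← (cx k' j a1).eq, mul_assoc]
      _ = (d * d) * (e * d) * (e * e) := by rw [← e1]; group
      _ = _ := by
        rw [e2, e3, ← xm]; simp only [mul_assoc, (cx k j a2).left_comm, (cx k' j a2).left_comm]
  rw [← xm, ← mul_assoc, ← this, mul_assoc (d * e), xx, mul_one]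

/-- a complement of `t` in the 2-group that translates `t` -/
structure Zp (ι : X →* G) (t : G) (i j : I) (Z : F → G → Prop) : Prop where
  sv : ∀ {c w}, Z c w → SV ι t i j c w
  ex : ∀ c, ∃ w, Z c w
  mul : ∀ {c c' w w'}, Z c w → Z c' w' → Z (c + c') (w * w')
  ker : ∀ {w}, Z 0 w → ∃ a, w = ι (xe i j a)
  x : ∀ a, Z 0 (ι (xe i j a))
  dg : ∀ {c w} a ha, Z c w → Z (a i * (a j)⁻¹ * c) (ι (H63.St.SL.dg a ha) * w * (ι (H63.St.SL.dg a ha))⁻¹)

theorem dgx (hij : i ≠ j) (a : I → F) (ha : ∏ l, a l = 1) (b : F) :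
    ι (H63.St.SL.dg a ha) * ι (xe i j b) * (ι (H63.St.SL.dg a ha))⁻¹ = ι (xe i j (a i * (a j)⁻¹ * b)) := by
  rw [← map_inv, ← map_mul, ← map_mul, H63.St.SL.dg_conj ha hij]

theorem exZ (hn : n = 0) (h : C3 ι t) (hij : i ≠ j) : ∃ Z, Zp ι t i j Z := by
  obtain ⟨μ, μ0, μ1⟩ := ex_mu (F := F) hn
  obtain ⟨a0, ha0, eμ⟩ := ex_dg hij μ0
  have h1 := h.toC2.toC1
  set H := ι (H63.St.SL.dg a0 ha0) with hH
  have sK : ∀ {c d}, SV ι t i j c d → SV ι t i j (μ * c + c) (H * d * H⁻¹ * d⁻¹) := fun k =>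
    (eμ ▸ k.dg h1 hij a0 ha0).mul h.toC2 hij (k.inv hij)
  refine ⟨fun c w => ∃ c0 d b, SV ι t i j c0 d ∧ c = μ * c0 + c0 ∧ w = H * d * H⁻¹ * d⁻¹ * ι (xe i j b),
    ?_, fun c => ?_, ?_, ?_, fun a => ⟨0, 1, a, ?_, by simp, by simp⟩, ?_⟩
  · rintro _ _ ⟨c0, d, b, k, rfl, rfl⟩
    simpa using (sK k).mul h.toC2 hij (sv_x h1 hij b).1
  · obtain ⟨d, k⟩ := h.ex i j hij ((μ + 1)⁻¹ * c)
    exact ⟨_, _, d, 0, k, by field_simp, rfl⟩
  · rintro _ _ _ _ ⟨c0, d, b, k, rfl, rfl⟩ ⟨c1, e, b', k', rfl, rfl⟩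
    obtain ⟨a, ea⟩ := cmZ h.toC2 hij (k.inv hij) (sK k')
    refine ⟨c0 + c1, d * e, a + b + b', k.mul h.toC2 hij k', by ring, ?_⟩
    rw [mul_assoc _ (ι _), ← mul_assoc (ι _), (cx (sK k') j b).eq, ← mul_assoc, ← mul_assoc, mul_assoc _ d⁻¹, ea,
      ← xm, ← xm]
    group
  · rintro _ ⟨c0, d, b, k, e0, rfl⟩
    have : c0 = 0 := (mul_eq_zero.1 (show (μ + 1) * c0 = 0 by rw [e0]; ring)).resolve_left μ1
    subst this
    obtain ⟨a, rfl | rfl⟩ := k.ker h.toC2 hij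
    · exact ⟨_, by rw [hH, dgx hij, xi, xm, xm]⟩
    · refine ⟨a0 i * (a0 j)⁻¹ * a + a + b, ?_⟩
      rw [← xm, ← xm, ← dgx hij a0 ha0, ← hH, ← mul_assoc H, hH, ← h1.tc, ← hH, _root_.mul_inv_rev, xi]
      have := h1.tc (H63.St.SL.dg a0 ha0 * xe i j a * (H63.St.SL.dg a0 ha0)⁻¹ * xe i j a)
      simp only [map_mul, map_inv, ← hH] at this
      calc _ = t * (H * ι (xe i j a) * H⁻¹ * ι (xe i j a)) * t⁻¹ * ι (xe i j b) := by group
        _ = _ := by rw [this]; group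
  · simpa [xe_zero] using (sv_x h1 hij 0).1
  · rintro _ _ a ha ⟨c0, d, b, k, rfl, rfl⟩
    refine ⟨_, _, a i * (a j)⁻¹ * b, k.dg h1 hij a ha, by ring, ?_⟩
    have : H = ι (H63.St.SL.dg a ha) * H * (ι (H63.St.SL.dg a ha))⁻¹ := by
      rw [eq_mul_inv_iff_mul_eq, hH, ← map_mul, ← map_mul]
      exact congrArg ι (Subtype.ext (diagonal_mul_diagonal _ _ |>.trans
        ((congrArg diagonal (funext fun _ => mul_comm _ _)).trans (diagonal_mul_diagonal _ _).symm)))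
    rw [← dgx hij a ha]
    conv_rhs => rw [this]
    group

variable {Z Z' : F → G → Prop}

theorem Zp.sq (z : Zp ι t i j Z) (hij : i ≠ j) (h : C2 ι t) : ∃ κ, ∀ c w, Z c w → w * w = ι (xe i j (κ * c)) := by
  obtain ⟨w0, k0⟩ := z.ex 1
  obtain ⟨κ, e0⟩ := (z.sv k0).sq h hij
  refine ⟨κ, fun c w k => ?_⟩
  by_cases c0 : c = 0
  · subst c0
    obtain ⟨a, rfl⟩ := z.ker k
    rw [xx, mul_zero, xe_zero, map_one]
  obtain ⟨a, ha, ea⟩ := ex_dg hij c0
  have k1 := z.dg a ha k0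
  have e1 := dgx (ι := ι) hij a ha κ
  rw [ea, mul_one] at k1
  rw [ea, ← e0, mul_comm c] at e1
  have e2 : ∀ g : G, g * (w0 * w0) * g⁻¹ = (g * w0 * g⁻¹) * (g * w0 * g⁻¹) := fun g => by group
  rw [e2] at e1
  generalize ι (H63.St.SL.dg a ha) * w0 * (ι (H63.St.SL.dg a ha))⁻¹ = w1 at k1 e1
  have k2 := z.mul k1 k
  rw [CharTwo.add_self_eq_zero] at k2
  obtain ⟨b, eb⟩ := z.ker k2
  rw [← xi, ← e1, eq_inv_mul_iff_mul_eq.2 eb, mul_assoc, (cx (z.sv k1) j b).inv_right.left_comm, xx]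
  group

theorem Zp.comm (z : Zp ι t i j Z) (hij : i ≠ j) (h : C2 ι t) (k : Z c w) (k' : Z c' v) : w * v = v * w := by
  obtain ⟨κ, e⟩ := z.sq hij h
  have := e _ _ (z.mul k k')
  rw [mul_add, ← xm, ← e _ _ k, ← e _ _ k'] at this
  simp only [mul_assoc, mul_left_cancel_iff] at this
  simp only [← mul_assoc, mul_left_inj] at this
  exact this.symm

theorem cju (h1 : i ≠ j) (h2 : i ≠ l) (h3 : j ≠ l) (a p : F) :
    ι (xe j l a) * ι (xe i j p) * ι (xe j l a) = ι (xe i j p) * ι (xe i l (p * a)) := by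
  rw [← xe_c1 h1 h3 h2]
  simp only [map_mul, ← mul_assoc, xx, one_mul]

theorem key (h : C2 ι t) (h1 : i ≠ j) (h2 : i ≠ l) (h3 : j ≠ l) (k : SV ι t i j c w) (k' : SV ι t i l c' v)
    {f f' a γ p p' c'' : F} (e1 : w * v = ι (xe i j f * xe i l f') * (v * w)) (k'' : SV ι t i l c'' e)
    (e2 : ι (xe j l a) * w * ι (xe j l a) = w * e * ι (xe i j p * xe i l p')) (e3 : e * v = v * e * ι (xe i l γ)) :
    f * a = γ := by
  have c1 := cy k' j a
  have c2 : Commute (ι (xe j l a)) (ι (xe i l f')) := cy (sv_x h.toC1 h2 f').1 j a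
  have u2 := xx (ι := ι) j l a
  have c3 := cju (ι := ι) h1 h2 h3 a f
  rw [map_mul] at e1 e2
  generalize ι (xe j l a) = u at c1 c2 u2 c3 e2
  have e4 : u * w * u * v = u * ι (xe i j f) * u * (ι (xe i l f') * (v * (u * w * u))) := by
    rw [mul_assoc (u * w), c1.eq, ← mul_assoc, mul_assoc u w, e1]
    simp only [mul_assoc, c2.left_comm, c1.left_comm]
    rw [← mul_assoc u u, u2, one_mul]
  rw [c3, e2] at e4
  have e5 : w * e * (ι (xe i j p) * ι (xe i l p')) * v =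
      ι (xe i j f) * ι (xe i l γ) * (ι (xe i l f') * (v * (w * e * (ι (xe i j p) * ι (xe i l p'))))) := by
    rw [mul_assoc (w * e), ((cx k' j p).mul_left (cx k' l p')).eq, ← mul_assoc, mul_assoc w, e3,
      ← mul_assoc w, ← mul_assoc w, e1]
    simp only [mul_assoc, (cx k l γ).left_comm, (cx k' l γ).left_comm, (cx k'' l γ).left_comm,
      (xc h2 h2 γ f').left_comm]
  rw [e5, mul_left_inj, mul_right_inj] at e4
  exact (xinj h.em h2 e4).symm

theorem tv (h : C2 ι t) (z : Zp ι t i l Z') (h2 : i ≠ l) (k : Z' c e) (k' : Z' c' v) :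
    e * t * v = v * (e * t) * ι (xe i l c') := by
  have e1 : v * t = t * ι (xe i l c') * v := mul_inv_eq_iff_eq_mul.1 (z.sv k').1.2
  rw [← mul_assoc v, ← z.comm h2 h k k', mul_assoc e v, e1, mul_assoc t, (cx (z.sv k') l c').eq]
  simp only [mul_assoc, xx, mul_one]

theorem f1 (hn : n = 0) (h : C3 ι t) (h1 : i ≠ j) (h2 : i ≠ l) (h3 : j ≠ l) (z' : Zp ι t i l Z')
    (k : SV ι t i j c w) (k' : Z' c' v) {f f' : F} (e1 : w * v = ι (xe i j f * xe i l f') * (v * w)) : f = 0 := by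
  refine four hn f c' fun a => ?_
  obtain ⟨e, ke⟩ := z'.ex (c * a)
  obtain ⟨p, p', q | q⟩ := actA h h1 h2 h3 a k (z'.sv ke)
  · exact Or.inl (key h.toC2 h1 h2 h3 k (z'.sv k') e1 (z'.sv ke) q (by
      rw [xe_zero, map_one, mul_one, z'.comm h2 h.toC2 ke k']))
  · exact Or.inr (key h.toC2 h1 h2 h3 k (z'.sv k') e1 ((z'.sv ke).mul h.toC2 h2 (sv_t h.toC1 h2))
      (by rw [q, mul_assoc w]) (tv h.toC2 z' h2 ke k'))

theorem cm2 (hn : n = 0) (h : C3 ι t) (h1 : i ≠ j) (h2 : i ≠ l) (h3 : j ≠ l) (z : Zp ι t i j Z) (z' : Zp ι t i l Z')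
    (k : Z c w) (k' : Z' c' v) : w * v = v * w := by
  obtain ⟨f, f', e1⟩ := cmA h h1 h2 h3 (z.sv k) (z'.sv k')
  have e2 : v * w = ι (xe i l f' * xe i j f) * (w * v) := by
    rw [e1, map_mul, map_mul]
    simp only [mul_assoc]
    rw [← mul_assoc (ι (xe i j f)), xx, one_mul, ← mul_assoc (ι _), xx, one_mul]
  rw [e1, f1 hn h h1 h2 h3 z' (z.sv k) k' e1, f1 hn h h2 h1 h3.symm z (z'.sv k') k e2, xe_zero, xe_zero, one_mul,
    map_one, one_mul]

theorem act1 (hn : n = 0) (h : C3 ι t) (h1 : i ≠ j) (h2 : i ≠ l) (h3 : j ≠ l) (z : Zp ι t i j Z) (z' : Zp ι t i l Z')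
    (k : Z c w) (a : F) : ∃ v p, Z' (c * a) v ∧ ι (xe j l a) * w * ι (xe j l a) = w * v * ι (xe i j p) := by
  obtain ⟨e, ke⟩ := z'.ex (c * a)
  obtain ⟨p, p', q | q⟩ := actA h h1 h2 h3 a (z.sv k) (z'.sv ke)
  · refine ⟨e * ι (xe i l p'), p, by simpa using z'.mul ke (z'.x p'), ?_⟩
    rw [q, map_mul, (xc h1 h2 p p').eq]; simp only [mul_assoc]
  · obtain ⟨v, k'⟩ := z'.ex 1
    have := key (f := 0) (f' := 0) h.toC2 h1 h2 h3 (z.sv k) (z'.sv k') (by
      rw [xe_zero, xe_zero, one_mul, map_one, one_mul, cm2 hn h h1 h2 h3 z z' k k'])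
      ((z'.sv ke).mul h.toC2 h2 (sv_t h.toC1 h2)) (by rw [q, mul_assoc w]) (tv h.toC2 z' h2 ke k')
    simp at this

theorem act2 (hn : n = 0) (h : C3 ι t) (h1 : i ≠ j) (h2 : i ≠ l) (h3 : j ≠ l) (z : Zp ι t i j Z) (z' : Zp ι t i l Z')
    (k : Z c w) : (∀ a, ∃ v, Z' (c * a) v ∧ ι (xe j l a) * w * ι (xe j l a) = w * v) ∧
      (c = 1 → ∀ a v, Z' a v → v * v = 1) := by
  choose v p kv e using act1 hn h h1 h2 h3 z z' k
  obtain ⟨κ, eκ⟩ := z'.sq h2 h.toC2
  have two : ∀ a b, ι (xe j l (a + b)) * w * ι (xe j l (a + b)) =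
      w * (v a * v b) * ι (xe i j (p a + p b)) * ι (xe i l (p b * a)) := by
    intro a b
    have u2 := xx (ι := ι) j l a
    calc _ = ι (xe j l a) * (ι (xe j l b) * w * ι (xe j l b)) * ι (xe j l a) := by
          rw [show ι (xe j l (a + b)) * w * ι (xe j l (a + b)) = ι (xe j l (a + b)) * w * ι (xe j l (b + a)) by
            rw [add_comm b a], ← xm, ← xm]; simp only [mul_assoc]
      _ = ι (xe j l a) * w * ι (xe j l a) * (v b * (ι (xe j l a) * ι (xe i j (p b)) * ι (xe j l a))) := by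
          rw [e b]
          simp only [mul_assoc, (cy (z'.sv (kv b)) j a).left_comm]
          rw [← mul_assoc (ι (xe j l a)) (ι (xe j l a)), u2, one_mul]
      _ = _ := by
          rw [e a, cju h1 h2 h3, ← xm]
          simp only [mul_assoc, (cx (z'.sv (kv b)) j (p a)).left_comm]
  have sy : ∀ a, p a = p 1 * a := by
    intro a
    have := two 1 a
    rw [add_comm 1 a, two a 1, z'.comm h2 h.toC2 (kv a) (kv 1), add_comm (p a), mul_right_inj] at this
    rw [xinj h.em h2 this, mul_one]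
  have dbl : ∀ a, κ * (c * a) = p 1 * a * a := by
    intro a
    have := two a a
    rw [CharTwo.add_self_eq_zero, CharTwo.add_self_eq_zero, xe_zero, xe_zero, map_one, one_mul, mul_one, mul_one,
      eκ _ _ (kv a), mul_assoc, xm, left_eq_mul, ← map_one ι, ← xe_zero i l] at this
    rw [← sy]
    exact CharTwo.add_eq_zero.1 (xinj h.em h2 this)
  obtain ⟨μ, μ0, μ1⟩ := ex_mu (F := F) hn
  have d1 := dbl 1
  have p0 : p 1 = 0 := by
    have : μ * (μ + 1) * p 1 = 0 := by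
      linear_combination μ * d1 - dbl μ + μ * p 1 * (CharTwo.two_eq_zero (R := F))
    exact (mul_eq_zero.1 this).resolve_left (mul_ne_zero μ0 μ1)
  refine ⟨fun a => ⟨v a, kv a, by rw [e, sy, p0, zero_mul, xe_zero, map_one, mul_one]⟩, fun c1 a v' k' => ?_⟩
  have : κ = 0 := by simpa [c1, p0] using d1
  rw [eκ _ _ k', this, zero_mul, xe_zero, map_one]

theorem xs_iff (h : C2 ι t) (hij : i ≠ j) (z : Zp ι t i j Z) (el : ∀ a v, Z a v → v * v = 1) :
    Xs ι t i j c w ↔ Z c w := by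
  have h1 := h.toC1
  constructor
  · intro k
    obtain ⟨v, kv⟩ := z.ex c
    have := (z.sv kv).mul h hij k.sv
    rw [CharTwo.add_self_eq_zero] at this
    have vi : ∀ y, v * w = y → w = v * y := fun y e => by rw [← e, ← mul_assoc, el _ _ kv, one_mul]
    obtain ⟨a, q | q⟩ := this.ker h hij
    · rw [vi _ q]; simpa using z.mul kv (z.x a)
    · have e1 : v * t * v⁻¹ = t * ι (xe i j c) := (z.sv kv).1.2
      have e2 := k.2.2.1
      rw [inv_eq_of_mul_eq_one_right (el _ _ kv)] at e1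
      have e3 : v * (t * ι (xe i j a)) * (v * (t * ι (xe i j a))) = ι (xe i j c) := by
        calc _ = (v * t * v) * t * (ι (xe i j a) * ι (xe i j a)) := by
              simp only [mul_assoc, (cx (z.sv kv) j a).left_comm, (cx (sv_t h1 hij) j a).left_comm]
          _ = _ := by rw [e1, xx, mul_one, h1.tc, mul_assoc, h1.t2, mul_one]
      rw [vi _ q, e3, ← map_one ι, ← xe_zero i j] at e2
      rw [xinj h.em hij e2] at kv
      obtain ⟨b, rfl⟩ := z.ker kv
      exact absurd (by rw [vi _ q, (cx (sv_t h1 hij) j b).left_comm, xm]) (k.2.2.2 (b + a))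
  · intro k
    refine ⟨(z.sv k).1, (z.sv k).2.1, el _ _ k, fun a e => h1.t_not ?_⟩
    have := ((sv_t h1 hij).mul h hij (sv_x h1 hij a).1).1
    rw [← e, add_zero] at this
    rw [(z.sv k).1.uniq h1 hij this] at k
    obtain ⟨b, eb⟩ := z.ker k
    exact ⟨xe i j (b + a), by rw [← xm, ← eb, e, mul_assoc, xx, mul_one]⟩

end R3

open R3 in
theorem row3 (hn : n = 0) (h : C3 ι t) : Row ι t := by
  have ex : ∀ i j : I, ∃ Z, i ≠ j → Zp ι t i j Z := fun i j => by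
    by_cases hij : i = j
    · exact ⟨fun _ _ => True, fun q => absurd hij q⟩
    · exact (exZ hn h hij).imp fun _ z _ => z
  choose Z z using ex
  have el : ∀ i l, i ≠ l → ∀ a v, Z i l a v → v * v = 1 := by
    intro i l h2
    obtain ⟨j, h1, h3⟩ := ex_third i l
    obtain ⟨w, k⟩ := (z i j h1.symm).ex 1
    exact (act2 hn h h1.symm h2 h3 (z i j h1.symm) (z i l h2) k).2 rfl
  have xs : ∀ {i j}, i ≠ j → ∀ {c w}, Xs ι t i j c w ↔ Z i j c w := fun hij _ _ =>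
    xs_iff h.toC2 hij (z _ _ hij) (el _ _ hij)
  refine ⟨fun i j hij c => ((z i j hij).ex c).imp fun _ => (xs hij).2, fun i j hij c c' w w' k k' =>
    (xs hij).2 ((z i j hij).mul ((xs hij).1 k) ((xs hij).1 k')), fun i j l h1 h2 c c' w w' k k' => ?_,
    fun i j l h1 h2 h3 c a w k => ?_⟩
  · by_cases h3 : j = l
    · subst h3
      exact (z i j h1).comm h1 h.toC2 ((xs h1).1 k) ((xs h1).1 k')
    · exact cm2 hn h h1 h2 h3 (z i j h1) (z i l h2) ((xs h1).1 k) ((xs h2).1 k')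
  · obtain ⟨v, kv, e⟩ := (act2 hn h h1 h2 h3 (z i j h1) (z i l h2) ((xs h1).1 k)).1 a
    rw [mul_assoc w, mul_assoc w, e, ← mul_assoc, k.2.2.1, one_mul]
    exact (xs h2).2 kv

end LMS
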