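import Cfsg.Agent.Lib.LMS.AS

set_option autoImplicit false
set_option linter.unusedSectionVars false

namespace LMS

open Subgroup H69 Cfsg Matrix U4S
open scoped MatrixGroups commutatorElement

universe u
variable {G : Type*} [Group G] [Finite G] {F : Type u} [Field F] [CharP F 2] [Fintype F] {n : ℕ} [Ok n F]
  {ι ψ χ : XX n F →* G} {t : G} {E : Subgroup G}

local notation "X" => XX n F
local notation "I" => Fin (n + 3)
local notation "Mx" => Matrix (Fin (n + 3)) (Fin (n + 3)) F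

namespace R4

variable {i j l p : Fin (n + 3)} {c c' : F} {w e : G}

theorem cw (h : SV ι t i j c w) (l : I) (a : F) : w * ι (xe i l a) = ι (xe i l a) * w :=
  h.1.1 _ (subset_closure ⟨l, a, Or.inl rfl⟩)

theorem cw' (h : SV ι t i j c w) (l : I) (a : F) (r : G) : w * (ι (xe i l a) * r) = ι (xe i l a) * (w * r) := by
  rw [← mul_assoc, cw h, mul_assoc]

theorem xx (h1 : i ≠ j) (h2 : i ≠ l) (a b : F) :
    ι (xe i j a) * ι (xe i l b) = ι (xe i l b) * ι (xe i j a) := by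
  rw [← map_mul, xe_c0 h2 h1.symm, map_mul]

theorem xx' (h1 : i ≠ j) (h2 : i ≠ l) (a b : F) (r : G) :
    ι (xe i j a) * (ι (xe i l b) * r) = ι (xe i l b) * (ι (xe i j a) * r) := by
  rw [← mul_assoc, xx h1 h2, mul_assoc]

theorem xs (i j : I) (a : F) : ι (xe i j a) * ι (xe i j a) = 1 := by rw [← map_mul, xe_sq, map_one]

theorem xs' (i j : I) (a : F) (r : G) : ι (xe i j a) * (ι (xe i j a) * r) = r := by
  rw [← mul_assoc, xs, one_mul]

theorem xa (i j : I) (a b : F) (r : G) : ι (xe i j a) * (ι (xe i j b) * r) = ι (xe i j (a + b)) * r := by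
  rw [← mul_assoc, ← map_mul, xe_mul]

theorem x2 (h : C3 ι t) (h1 : i ≠ j) (h2 : i ≠ l) (h3 : j ≠ l) {a b : F} (k : ι (xe i j a) = ι (xe i l b)) :
    a = 0 ∧ b = 0 :=
  xe2_cen h1 h2 (Or.inr h3) (h.em (by rw [MonoidHom.mem_ker, map_mul, k, xs]))

theorem x1 (h : C3 ι t) (h1 : i ≠ j) {a : F} (k : ι (xe i j a) = 1) : a = 0 := xe_cen h1 (h.em k)

theorem wt (h : SV ι t i j c w) : w * t = t * (ι (xe i j c) * w) := by
  rw [← mul_assoc, ← h.1.2]; group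

theorem dp (h : C3 ι t) (h1 : i ≠ j) (hw : SV ι t i j c w) {a b : I} (ha : a ≠ j) (hb : b ≠ i) (d : F) :
    w * ι (xe a b d) = ι (xe a b d) * w :=
  hw.1.dP h.toC2 h1 _ (subset_closure ⟨a, b, d, ha, hb, rfl⟩)

theorem ux (h1 : i ≠ j) (h2 : i ≠ l) (h3 : j ≠ l) (a b : F) :
    ι (xe j l b) * ι (xe i j a) * ι (xe j l b) = ι (xe i j a) * ι (xe i l (a * b)) := by
  rw [← xe_c1 h1 h3 h2, map_mul, map_mul, map_mul]
  simp only [mul_assoc, xs']

theorem ux0 {a b : I} (h1 : b ≠ i) (h2 : a ≠ j) (d f : F) :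
    ι (xe a b d) * ι (xe i j f) * ι (xe a b d) = ι (xe i j f) := by
  rw [← map_mul, xe_c0 h2 h1, map_mul, mul_assoc, xs, mul_one]

theorem cjm {u a b : G} (h : u * u = 1) : u * (a * b) * u = u * a * u * (u * b * u) := by
  calc u * (a * b) * u = u * a * (u * u) * b * u := by rw [h]; group
    _ = _ := by group

theorem cj1 {u a : G} (h : u * u = 1) (k : a * u = u * a) : u * a * u = a := by
  rw [mul_assoc, k, ← mul_assoc, h, one_mul]

/-- the third-vector formula -/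
theorem l1 (h : C3 ι t) (h2 : i ≠ l) (h4 : i ≠ p) (h6 : l ≠ p) {e' : G} (he : SV ι t i l c' e)
    (he' : SV ι t i p c' e') : ∃ ε : F, (ε = 0 ∨ ε = 1) ∧ ∀ (j : I) (c : F) (w : G) (f f' g g' : F), i ≠ j → j ≠ l → j ≠ p →
      SV ι t i j c w → w * e = ι (xe i j f * xe i l f') * (e * w) →
        w * e' = ι (xe i j g * xe i p g') * (e' * w) → g = ε * c ∧ g' = f' := by
  obtain ⟨a, a', k⟩ := actA h h2 h4 h6 1 he (by rwa [mul_one])
  have key : ∀ (τ : G) (ε : F), (∀ j c w, SV ι t i j c w → w * τ = τ * (ι (xe i j (ε * c)) * w)) →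
      (∀ j b, τ * ι (xe i j b) = ι (xe i j b) * τ) →
      ι (xe l p 1) * e * ι (xe l p 1) = e * e' * τ * ι (xe i l a * xe i p a') →
      ∀ (j : I) (c : F) (w : G) (f f' g g' : F), i ≠ j → j ≠ l → j ≠ p →
      SV ι t i j c w → w * e = ι (xe i j f * xe i l f') * (e * w) →
        w * e' = ι (xe i j g * xe i p g') * (e' * w) → g = ε * c ∧ g' = f' := by
    intro τ ε t1 t2 k j c w f f' g g' h1 h3 h5 hw k1 k2
    have u2 := xs (ι := ι) l p (1 : F)
    have uw := cj1 u2 (dp h h1 hw h3.symm h4.symm 1)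
    have e1 := congrArg (fun y => ι (xe l p 1) * y * ι (xe l p 1)) k1
    simp only [map_mul, cjm u2, uw, k, ux h2 h4 h6, ux0 h4.symm h3.symm, mul_one] at e1
    have t2' : ∀ j b r, τ * (ι (xe i j b) * r) = ι (xe i j b) * (τ * r) := fun j b r => by
      rw [← mul_assoc, t2, mul_assoc]
    have k1' : ∀ r, w * (e * r) = ι (xe i j f) * (ι (xe i l f') * (e * (w * r))) := fun r => by
      rw [← mul_assoc, k1, map_mul]; simp only [mul_assoc]
    have k2' : ∀ r, w * (e' * r) = ι (xe i j g) * (ι (xe i p g') * (e' * (w * r))) := fun r => by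
      rw [← mul_assoc, k2, map_mul]; simp only [mul_assoc]
    have t1' : ∀ r, w * (τ * r) = τ * (ι (xe i j (ε * c)) * (w * r)) := fun r => by
      rw [← mul_assoc, t1 j c w hw]; simp only [mul_assoc]
    simp only [mul_assoc] at e1
    rw [k1', k2', t1', cw' hw, cw hw, mul_right_inj, mul_right_inj, cw' he, cw' he, t2' j, cw' he' j,
      cw' he j, ← mul_assoc, ← mul_assoc, mul_left_inj] at e1
    have e2 := e1
    rw [mul_assoc, xx h4 h1, xa, ← eq_mul_inv_iff_mul_eq, ← map_inv, xe_inv, ← map_mul, xe_mul] at e2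
    obtain ⟨b1, b2⟩ := x2 h h1 h4 h5 e2
    exact ⟨CharTwo.add_eq_zero.1 b1, (CharTwo.add_eq_zero.1 b2).symm⟩
  rcases k with k | k
  · exact ⟨0, Or.inl rfl, key 1 0 (fun j c w _ => by simp [xe_zero]) (by simp) (by rwa [mul_one])⟩
  · exact ⟨1, Or.inr rfl, key t 1 (fun j c w hw => by rw [one_mul, wt hw]) (fun j b => h.tc _) k⟩

/-- `b(w) = ε` -/
def Zb (ι : XX n F →* G) (t : G) (i j : I) (ε : F) (w : G) : Prop := ∀ l, i ≠ l → j ≠ l → ∀ c' e, SV ι t i l c' e →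
  ∃ f, w * e = ι (xe i j f) * (ι (xe i l (ε * c')) * (e * w))

theorem flip (h1 : i ≠ j) (h2 : i ≠ l) {f f' : F} (k : w * e = ι (xe i j f * xe i l f') * (e * w)) :
    e * w = ι (xe i l f' * xe i j f) * (w * e) := by
  rw [k, map_mul, map_mul]
  simp only [mul_assoc]
  rw [xs', xs']

theorem zb (hn : 1 ≤ n) (h : C3 ι t) (h1 : i ≠ j) (hw : SV ι t i j c w) : Zb ι t i j 0 w ∨ Zb ι t i j 1 w := by
  have A : ∀ l, i ≠ l → j ≠ l → ∃ ε : F, (ε = 0 ∨ ε = 1) ∧ ∀ c' e f f', SV ι t i l c' e →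
      w * e = ι (xe i j f * xe i l f') * (e * w) → f' = ε * c' := fun l h2 h3 => by
    obtain ⟨p, p1, p2, p3⟩ := ex_fourth hn i j l
    obtain ⟨w0, h0⟩ := h.ex i p p1.symm c
    obtain ⟨ε, hε, k⟩ := l1 h p1.symm h1 p2 h0 hw
    refine ⟨ε, hε, fun c' e f f' he k1 => ?_⟩
    obtain ⟨g, g', k2⟩ := cmA h h2 p1.symm p3.symm he h0
    exact (k l c' e g g' f' f h2 p3.symm h3.symm he k2 (flip h1 h2 k1)).1
  obtain ⟨l0, l1', l2⟩ := ex_third i j
  obtain ⟨ε, hε, k0⟩ := A l0 l1'.symm l2.symm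
  have Z : Zb ι t i j ε w := fun l h2 h3 c' e he => by
    obtain ⟨f, f', k1⟩ := cmA h h1 h2 h3 hw he
    refine ⟨f, ?_⟩
    have : f' = ε * c' := by
      by_cases q : l = l0
      · subst q; exact k0 c' e f f' he k1
      · obtain ⟨e', he'⟩ := h.ex i l0 l1'.symm c'
        obtain ⟨g, g', k2⟩ := cmA h h1 l1'.symm l2.symm hw he'
        obtain ⟨_, -, k⟩ := l1 h h2 l1'.symm q he he'
        rw [← (k j c w f f' g g' h1 h3 l2.symm hw k1 k2).2]
        exact k0 c' e' g g' he' k2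
    rw [k1, this, map_mul, mul_assoc]
  rcases hε with rfl | rfl
  exacts [Or.inl Z, Or.inr Z]

theorem Zb.z (k : Zb ι t i j 0 w) (h2 : i ≠ l) (h3 : j ≠ l) (he : SV ι t i l c' e) :
    ∃ f, w * e = ι (xe i j f) * (e * w) := by
  obtain ⟨f, k⟩ := k l h2 h3 c' e he
  exact ⟨f, by rwa [zero_mul, xe_zero, map_one, one_mul] at k⟩

theorem zb0 (k : ∀ l, i ≠ l → j ≠ l → ∀ c' e, SV ι t i l c' e → ∃ f, w * e = ι (xe i j f) * (e * w)) :
    Zb ι t i j 0 w := fun l h2 h3 c' e he => by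
  obtain ⟨f, k⟩ := k l h2 h3 c' e he
  exact ⟨f, by rwa [zero_mul, xe_zero, map_one, one_mul]⟩

theorem te (h : C3 ι t) (he : SV ι t i l c' e) : t * e = ι (xe i l c') * (e * t) := by
  rw [wt he, ← mul_assoc, ← h.tc, mul_assoc, xs']

theorem zbt (h : C3 ι t) (h1 : i ≠ j) (hw : SV ι t i j c w) (k : Zb ι t i j 1 w) : Zb ι t i j 0 (w * t) :=
  zb0 fun l h2 h3 c' e he => by
    obtain ⟨f, k⟩ := k l h2 h3 c' e he
    refine ⟨f, ?_⟩
    rw [mul_assoc, te h he, cw' hw, ← mul_assoc w, k, one_mul]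
    simp only [mul_assoc]
    rw [← mul_assoc, xx h2 h1, mul_assoc, xs']

theorem Zb.mul {w' : G} (hw : SV ι t i j c w) (k : Zb ι t i j 0 w) (k' : Zb ι t i j 0 w') : Zb ι t i j 0 (w * w') :=
  zb0 fun l h2 h3 c' e he => by
    obtain ⟨f, a⟩ := k.z h2 h3 he
    obtain ⟨f', a'⟩ := k'.z h2 h3 he
    refine ⟨f' + f, ?_⟩
    rw [mul_assoc, a', cw' hw, ← mul_assoc w, a, mul_assoc, xa, mul_assoc]

theorem zbx (a : F) : Zb ι t i j 0 (ι (xe i j a)) :=
  zb0 fun l _ _ c' e he => ⟨0, by rw [xe_zero, map_one, one_mul, cw he]⟩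

theorem ex0 (hn : 1 ≤ n) (h : C3 ι t) (h1 : i ≠ j) (c : F) : ∃ w, SV ι t i j c w ∧ Zb ι t i j 0 w := by
  obtain ⟨w, hw⟩ := h.ex i j h1 c
  rcases zb hn h h1 hw with k | k
  · exact ⟨w, hw, k⟩
  · exact ⟨w * t, by simpa using hw.mul h.toC2 h1 (sv_t h.toC1 h1), zbt h h1 hw k⟩

theorem cm0 (h : C3 ι t) (h1 : i ≠ j) (h2 : i ≠ l) (h3 : j ≠ l) (hw : SV ι t i j c w) (he : SV ι t i l c' e)
    (k : Zb ι t i j 0 w) (k' : Zb ι t i l 0 e) : w * e = e * w := by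
  obtain ⟨f, a⟩ := k.z h2 h3 he
  obtain ⟨f', a'⟩ := k'.z h1 h3.symm hw
  have : ι (xe i l f') = ι (xe i j f) := by
    rw [a, ← mul_assoc, eq_comm, mul_eq_right, ← eq_mul_inv_iff_mul_eq, one_mul, ← map_inv, xe_inv] at a'
    exact a'
  rw [a, (x2 h h2 h1 h3.symm this).2, xe_zero, map_one, one_mul]

theorem t3 (hn : 1 ≤ n) (h : C3 ι t) (h1 : i ≠ j) (h2 : i ≠ l) (h3 : j ≠ l) (a : F) (hw : SV ι t i j c w)
    (he : SV ι t i l (c * a) e) (k : Zb ι t i j 0 w) (k' : Zb ι t i l 0 e) : ∃ b b',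
      ι (xe j l a) * w * ι (xe j l a) = w * (e * (ι (xe i j b) * ι (xe i l b'))) := by
  obtain ⟨b, b', q | q⟩ := actA h h1 h2 h3 a hw he
  · exact ⟨b, b', by rw [q, map_mul, mul_assoc]⟩
  exfalso
  obtain ⟨p, p1, p2, p3⟩ := ex_fourth hn i j l
  obtain ⟨e3, h3', z3⟩ := ex0 hn h p1.symm (1 : F)
  have c1 : Commute e3 w := cm0 h p1.symm h1 p2 h3' hw z3 k
  have c2 : Commute e3 e := cm0 h p1.symm h2 p3 h3' he z3 k'
  have c3 : Commute e3 (ι (xe j l a)) := dp h p1.symm h3' p2.symm h2.symm a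
  have c4 : Commute e3 (ι (xe i j b * xe i l b')) := by
    rw [map_mul]; exact Commute.mul_right (cw h3' _ _) (cw h3' _ _)
  have c5 : Commute e3 t := by
    have := ((c1.mul_right c2).inv_right.mul_right ((c3.mul_right c1).mul_right c3)).mul_right c4.inv_right
    rwa [q, show (w * e)⁻¹ * (w * e * t * ι (xe i j b * xe i l b')) * (ι (xe i j b * xe i l b'))⁻¹ = t by group]
      at this
  have := h3'.1.2
  rw [c5.eq, mul_inv_cancel_right, eq_comm, mul_eq_left] at this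
  exact one_ne_zero (x1 h p1.symm this)

theorem t4 (hn : 1 ≤ n) (h : C3 ι t) (h1 : i ≠ j) (h2 : i ≠ l) (h3 : j ≠ l) (a : F) (hw : SV ι t i j c w)
    (he : SV ι t i l (c * a) e) (k : Zb ι t i j 0 w) (k' : Zb ι t i l 0 e) : ∃ b',
      ι (xe j l a) * w * ι (xe j l a) = w * (e * ι (xe i l b')) := by
  obtain ⟨b, b', q⟩ := t3 hn h h1 h2 h3 a hw he k k'
  obtain ⟨p, p1, p2, p3⟩ := ex_fourth hn i j l
  obtain ⟨e', he', z'⟩ := ex0 hn h p1.symm (c * 1)
  obtain ⟨d, d', q'⟩ := t3 hn h h1 p1.symm p2.symm 1 hw he' k z'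
  have u2 := xs (ι := ι) j l a
  have v2 := xs (ι := ι) j p (1 : F)
  have uv : ι (xe j l a) * ι (xe j p 1) = ι (xe j p 1) * ι (xe j l a) := xx h3 p2.symm a 1
  have E1 : ι (xe j p 1) * (ι (xe j l a) * w * ι (xe j l a)) * ι (xe j p 1) =
      ι (xe j l a) * (ι (xe j p 1) * w * ι (xe j p 1)) * ι (xe j l a) := by
    simp only [mul_assoc]
    rw [uv, ← mul_assoc, ← uv, mul_assoc]
  rw [q, q'] at E1
  simp only [cjm u2, cjm v2, q, q', cj1 v2 (dp h h2 he h3 p1 1), cj1 u2 (dp h p1.symm he' p2.symm h2.symm a),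
    ux h1 p1.symm p2.symm, ux h1 h2 h3, ux0 p1 h3, ux0 h2.symm p2.symm, mul_one, mul_assoc, mul_right_inj] at E1
  have ee := cm0 h h2 p1.symm p3.symm he he' k' z'
  have E2 : ι (xe i p b) = ι (xe i l (d * a)) := by
    rw [← cw' he, ← cw' he, ← mul_assoc e', ← ee, mul_assoc, mul_right_inj, ← cw' he', ← cw' he', mul_right_inj,
      xx' p1.symm h1, xx' h2 h1, xa, xa i j b, add_comm d b, mul_right_inj, xx p1.symm h2, xx' p1.symm h2, mul_right_inj,
      xx h2 p1.symm, mul_right_inj] at E1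
    exact E1
  exact ⟨b', by rw [q, (x2 h p1.symm h2 p3 E2).1, xe_zero, map_one, one_mul]⟩

theorem sq0 (hn : 1 ≤ n) (h : C3 ι t) (h2 : i ≠ l) (he : SV ι t i l c e) (k' : Zb ι t i l 0 e) : e * e = 1 := by
  obtain ⟨j, j1, j2⟩ := ex_third i l
  obtain ⟨w, hw, k⟩ := ex0 hn h j1.symm c
  obtain ⟨b, q⟩ := t4 hn h j1.symm h2 j2 1 hw (by rwa [mul_one]) k k'
  have u2 := xs (ι := ι) j l (1 : F)
  have E1 : ι (xe j l 1) * (ι (xe j l 1) * w * ι (xe j l 1)) * ι (xe j l 1) = w := by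
    simp only [mul_assoc, xs', u2, mul_one]
  rw [q, cjm u2, cjm u2, q, cj1 u2 (dp h h2 he j2 h2.symm 1), ux0 h2.symm j2, mul_assoc, mul_eq_left,
    mul_assoc, ← cw' he, xs, mul_one] at E1
  exact E1

theorem xs_iff (hn : 1 ≤ n) (h : C3 ι t) (h1 : i ≠ j) : Xs ι t i j c w ↔ SV ι t i j c w ∧ Zb ι t i j 0 w := by
  constructor
  · refine fun k => ⟨k.sv, (zb hn h h1 k.sv).elim id fun z => ?_⟩
    have s := sq0 hn h h1 (k.sv.mul h.toC2 h1 (sv_t h.toC1 h1)) (zbt h h1 k.sv z)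
    have e1 := k.1.2
    rw [inv_eq_of_mul_eq_one_right k.2.2.1, ← mul_assoc] at *
    rw [e1, mul_assoc, ← h.tc, ← mul_assoc, h.t2, one_mul] at s
    obtain rfl := x1 h h1 s
    obtain ⟨a, rfl⟩ := k.ker h.toC2 h1
    exact zbx a
  · rintro ⟨hw, z⟩
    refine ⟨hw.1, hw.2.1, sq0 hn h h1 hw z, fun a q => ?_⟩
    obtain ⟨l, l1, l2⟩ := ex_third i j
    obtain ⟨e, he⟩ := h.ex i l l1.symm 1
    obtain ⟨f, k⟩ := z.z l1.symm l2.symm he
    rw [q, mul_assoc, ← cw he, ← mul_assoc, te h he, mul_assoc, mul_assoc, mul_left_inj] at k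
    exact one_ne_zero (x2 h l1.symm h1 l2 k).1

theorem eqns : True := by have := @Zb.eq_1.{0, 0}; trivial

end R4

open R4 in
theorem row4 (hn : 1 ≤ n) (h : C3 ι t) : Row ι t := by
  have M : ∀ i j, i ≠ j → ∀ c c' w w', Xs ι t i j c w → Xs ι t i j c' w' → Xs ι t i j (c + c') (w * w') :=
    fun i j h1 c c' w w' a b => by
      rw [xs_iff hn h h1] at *
      exact ⟨a.1.mul h.toC2 h1 b.1, a.2.mul a.1 b.2⟩
  refine ⟨fun i j h1 c => ?_, M, fun i j l h1 h2 c c' w w' a b => ?_, fun i j l h1 h2 h3 c a w k => ?_⟩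
  · obtain ⟨w, k⟩ := ex0 hn h h1 c
    exact ⟨w, (xs_iff hn h h1).2 k⟩
  · by_cases q : j = l
    · subst q
      have := (M i j h1 c c' w w' a b).2.2.1
      rw [← inv_eq_of_mul_eq_one_right this, _root_.mul_inv_rev, inv_eq_of_mul_eq_one_right a.2.2.1,
        inv_eq_of_mul_eq_one_right b.2.2.1]
    · exact cm0 h h1 h2 q a.sv b.sv ((xs_iff hn h h1).1 a).2 ((xs_iff hn h h2).1 b).2
  · obtain ⟨e, he, z⟩ := ex0 hn h h2 (c * a)
    obtain ⟨b, q⟩ := t4 hn h h1 h2 h3 a k.sv he ((xs_iff hn h h1).1 k).2 z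
    rw [mul_assoc, mul_assoc, ← mul_assoc (ι _), q, ← mul_assoc, k.2.2.1, one_mul]
    simpa using M i l h2 _ _ _ _ ((xs_iff hn h h2).2 ⟨he, z⟩) (sv_x h.toC1 h2 b).2

end LMS
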