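import Cfsg.Agent.Lib.LMS.W0
import Cfsg.Agent.Lib.LMS.B4

set_option autoImplicit false
set_option linter.unusedSectionVars false

namespace LMS

open Subgroup H69 Cfsg Matrix U4S
open scoped MatrixGroups commutatorElement

universe u
variable {G : Type*} [Group G] [Finite G] {F : Type u} [Field F] [CharP F 2] [Fintype F] {n : ℕ} [Ok n F]
  {ι ψ χ : XX n F →* G} {t : G} {E : Subgroup G}

local notation "X" => XX n F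
local notation "I" => Fin (n + 3)
local notation "Mx" => Matrix (Fin (n + 3)) (Fin (n + 3)) F

namespace RKM

theorem p2_one : P2 (1 : X) := ⟨0, by simp⟩

theorem p2_map {α : X →* X} {a : X} (h : P2 a) : P2 (α a) :=
  let ⟨j, hj⟩ := h; ⟨j, by rw [← map_pow, hj, map_one]⟩

theorem cen (h : Pa ψ χ) (A B : Subgroup X) : A.map ψ ≤ 𝐂(B.map χ) := by
  rintro _ ⟨a, -, rfl⟩
  refine mem_centralizer_iff.2 ?_
  rintro _ ⟨b, -, rfl⟩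
  exact (h.comm a b).symm

theorem disj (h : Pa ψ χ) {A B : Subgroup X} (hA : IsPGroup 2 A) (hB : IsPGroup 2 B) :
    Disjoint (A.map ψ) (B.map χ) := by
  rw [Subgroup.disjoint_def]
  rintro _ ⟨a, ha, rfl⟩ ⟨b, hb, e⟩
  rw [(h.uniq (P2.of_mem hA ha) p2_one p2_one (P2.of_mem hB hb) (by simpa using e.symm)).1, map_one]

theorem isP (h : Pa ψ χ) {A B : Subgroup X} (hA : IsPGroup 2 A) (hB : IsPGroup 2 B) :
    IsPGroup 2 (A.map ψ ⊔ B.map χ : Subgroup G) ∧ Nat.card ↥(A.map ψ ⊔ B.map χ) = Nat.card A * Nat.card B := by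
  have hn := le_normalizer_of_le_centralizer (cen h A B)
  refine ⟨isPGroup_sup_of_le_normalizer_right (hA.map ψ) (hB.map χ) hn, ?_⟩
  rw [← Nat.card_prod]
  refine (Nat.card_congr (Equiv.ofBijective (fun p : A × B => (⟨ψ p.1 * χ p.2,
    mul_mem_sup (mem_map_of_mem ψ p.1.2) (mem_map_of_mem χ p.2.2)⟩ : ↥(A.map ψ ⊔ B.map χ))) ⟨?_, ?_⟩)).symm
  · intro p p' e
    have := h.uniq (P2.of_mem hA p.1.2) (P2.of_mem hB p.2.2) (P2.of_mem hA p'.1.2) (P2.of_mem hB p'.2.2)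
      (congrArg Subtype.val e)
    exact Prod.ext (Subtype.ext this.1) (Subtype.ext this.2)
  · rintro ⟨y, hy⟩
    obtain ⟨_, ⟨a, ha, rfl⟩, _, ⟨b, hb, rfl⟩, rfl⟩ := (mem_sup_of_le_normalizer_right hn).1 hy
    exact ⟨(⟨a, ha⟩, ⟨b, hb⟩), rfl⟩

theorem tr (e : Em χ) {m : G} (hm : ψ.range ^ᶜ m = χ.range) :
    ∃ α : X →* X, (∀ x, rk (α x) = rk x) ∧ ∀ x, m * ψ x * m⁻¹ = χ (α x) := by
  have h1 : ∀ x, ∃ y, χ y = m * ψ x * m⁻¹ := fun x => hm.le (cj_mem m ⟨x, rfl⟩)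
  choose β hβ using h1
  obtain ⟨g, φ, ε, h2⟩ := aut_psl e β (fun x y => by rw [hβ, hβ, hβ, map_mul]; group) fun y => by
    obtain ⟨_, ⟨x, rfl⟩, hx⟩ := mem_cj'.1 (hm.ge ⟨y, rfl⟩)
    exact ⟨x, (hβ x).trans hx.symm⟩
  exact ⟨_, rk_au g φ ε, fun x => (hβ x).symm.trans (h2 x)⟩

theorem side (h : Pa ψ χ) {B : Subgroup G} (hB : El B) (k : B ≤ Mo ψ χ)
    (c : (Nat.card F ^ MM n) ^ 2 ≤ Nat.card B) :
    ∃ J, IsJ J ∧ ∀ b ∈ B, ∃ x ∈ J, ∃ k ∈ 𝐂(ψ.range), b = k * ψ x := by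
  have h1 := rk1 h.e2 (hB.mono (inf_le_left : B ⊓ 𝐂(ψ.range) ≤ B)) fun b hb => (k hb.1).2
  have h2 : B ⊓ 𝐂(ψ.range) ⊓ 𝐂(χ.range) = ⊥ :=
    eq_bot_iff.2 fun b hb => h.odd b hb.1.2 hb.2 (P2.of_sq (hB b hb.1.1))
  rw [h2, card_bot, mul_one] at h1
  obtain ⟨J, hJ, h3, -⟩ := rk2 h.e1 hB (fun b hb => (k hb).1)
    ((Nat.mul_le_mul_left _ h1).trans (by rwa [← sq]))
  exact ⟨J, hJ, h3⟩

theorem eq_of (h : Pa ψ χ) {a b x : X} {k : G} (ha : a * a = 1) (hx : x * x = 1) (hk : k ∈ 𝐂(ψ.range))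
    (e : ψ a * χ b = k * ψ x) : a = x := by
  have h1 : χ b ∈ 𝐂(ψ.range) := mem_centralizer_iff.2 (by rintro _ ⟨y, rfl⟩; exact h.comm y b)
  have h2 : ψ (a * x⁻¹) = (χ b)⁻¹ * k := by
    rw [map_mul, map_inv, mul_inv_eq_iff_eq_mul, mul_assoc, ← e, h.comm, inv_mul_cancel_left]
  have h3 : a * x⁻¹ ∈ center X := h.e1.cen.1 (h2 ▸ mul_mem (inv_mem h1) hk)
  refine mul_inv_eq_one.1 (cen_two h3 (P2.of_sq ?_))
  have h4 : x⁻¹ = x := inv_eq_of_mul_eq_one_right hx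
  rw [h4] at h3 ⊢
  calc a * x * (a * x) = a * (x * (a * x)) := mul_assoc _ _ _
    _ = a * (a * x * x) := by rw [mem_center_iff.1 h3 x]
    _ = 1 := by rw [mul_assoc, hx, mul_one, ha]

end RKM

theorem Pa.elJ (h : Pa ψ χ) {J J' : Subgroup X} (hJ : IsJ J) (hJ' : IsJ J') : El (J.map ψ ⊔ J'.map χ) ∧
    Nat.card ↥(J.map ψ ⊔ J'.map χ) = (Nat.card F ^ MM n) ^ 2 ∧ Disjoint (J.map ψ) (J'.map χ) := by
  refine ⟨(hJ.el.map ψ).sup (hJ'.el.map χ) ?_, ?_, RKM.disj h hJ.el.isP hJ'.el.isP⟩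
  · rintro _ ⟨a, -, rfl⟩ _ ⟨b, -, rfl⟩
    exact h.comm a b
  · rw [(RKM.isP h hJ.el.isP hJ'.el.isP).2, hJ.card, hJ'.card, sq]

theorem Pa.isP (h : Pa ψ χ) {A B : Subgroup X} (hA : IsPGroup 2 A) (hB : IsPGroup 2 B) :
    IsPGroup 2 (A.map ψ ⊔ B.map χ : Subgroup G) ∧ Nat.card ↥(A.map ψ ⊔ B.map χ) = Nat.card A * Nat.card B := by
  exact RKM.isP h hA hB

theorem Pa.rkm (h : Pa ψ χ) {B : Subgroup G} (hB : El B) (k : B ≤ 𝐍(ψ.range ⊔ χ.range))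
    (c : (Nat.card F ^ MM n) ^ 2 ≤ Nat.card B) : ∃ J J', IsJ J ∧ IsJ J' ∧ B = J.map ψ ⊔ J'.map χ := by
  by_cases hM : B ≤ Mo ψ χ
  · obtain ⟨J, hJ, h1⟩ := RKM.side h hB hM c
    obtain ⟨J', hJ', h2⟩ := RKM.side h.symm hB (fun b hb => ⟨(hM hb).2, (hM hb).1⟩) c
    refine ⟨J, J', hJ, hJ', eq_of_le_of_card_ge (fun b hb => ?_) ((h.elJ hJ hJ').2.1.le.trans c)⟩
    obtain ⟨x, hx, k, hk, e⟩ := h1 b hb
    obtain ⟨x', hx', k', hk', e'⟩ := h2 b hb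
    obtain ⟨u, v, hu, hv, e2⟩ := h.deci (h.inn2 ⟨_, ⟨x, rfl⟩, k, hk, e⟩ ⟨_, ⟨x', rfl⟩, k', hk', e'⟩
      (P2.of_sq (hB b hb))) (hB b hb)
    rw [e2, RKM.eq_of h hu (hJ.el x hx) hk (e2.symm.trans e),
      RKM.eq_of h.symm hv (hJ'.el x' hx') hk' ((h.comm u v).symm.trans (e2.symm.trans e'))]
    exact mul_mem_sup (mem_map_of_mem ψ hx) (mem_map_of_mem χ hx')
  exfalso
  obtain ⟨s, hs, hsM⟩ := SetLike.not_le_iff_exists.1 hM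
  have h1 := ((h.perm s (k hs)).resolve_left hsM).1
  have h2 := rk1 h.e1 (hB.mono (inf_le_left : B ⊓ Mo ψ χ ≤ B)) fun b hb => hb.2.1
  have h3 : B ⊓ Mo ψ χ ⊓ 𝐂(ψ.range) = ⊥ := eq_bot_iff.2 fun b hb => by
    refine h.odd b hb.2 ?_ (P2.of_sq (hB b hb.1.1))
    have := cj_mem s hb.2
    rwa [cj_centralizer, h1, hB.comm hs hb.1.1, mul_inv_cancel_right] at this
  rw [h3, card_bot, mul_one] at h2
  have hc : ∀ b ∈ B ⊓ Mo ψ χ, s * b = b * s := fun b hb => hB.comm hs hb.1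
  have h4 : B ≤ zpowers s ⊔ B ⊓ Mo ψ χ := fun b hb => (mem_zp_sup (hB s hs) hc).2 (by
    by_cases hb' : b ∈ Mo ψ χ
    · exact Or.inl ⟨hb, hb'⟩
    · exact Or.inr ⟨mul_mem hs hb, h.sw_mul (k hs) (k hb) hsM hb'⟩)
  have h5 := card_le_of_le h4
  rw [card_zp_sup (hB s hs) hc fun e => hsM e.2] at h5
  have h6 := four_le_MM (n := n) (F := F)
  nlinarith

theorem Pa.rk_m (h : Pa ψ χ) {m : G} (hm : m ∈ 𝐍(ψ.range ⊔ χ.range)) {a b a' b' : X} (ha : P2 a) (hb : P2 b)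
    (ha' : P2 a') (hb' : P2 b') (e : m * (ψ a * χ b) * m⁻¹ = ψ a' * χ b') :
    (rk a = rk a' ∧ rk b = rk b') ∨ (rk a = rk b' ∧ rk b = rk a') := by
  rcases h.perm m hm with ⟨h1, h2⟩ | ⟨h1, h2⟩
  · obtain ⟨α, r1, e1⟩ := RKM.tr h.e1 (cj_eq_of_mem_normalizer h1)
    obtain ⟨β, r2, e2⟩ := RKM.tr h.e2 (cj_eq_of_mem_normalizer h2)
    obtain ⟨rfl, rfl⟩ := h.uniq (RKM.p2_map (α := α) ha) (RKM.p2_map (α := β) hb) ha' hb'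
      (by rw [← e, ← e1, ← e2]; group)
    exact Or.inl ⟨(r1 a).symm, (r2 b).symm⟩
  · obtain ⟨α, r1, e1⟩ := RKM.tr h.e2 h1
    obtain ⟨β, r2, e2⟩ := RKM.tr h.e1 h2
    obtain ⟨rfl, rfl⟩ := h.uniq (RKM.p2_map (α := β) hb) (RKM.p2_map (α := α) ha) ha' hb'
      (by rw [h.comm, ← e, ← e1, ← e2]; group)
    exact Or.inr ⟨(r1 a).symm, (r2 b).symm⟩

end LMS
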