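import Cfsg.Agent.Lib.LMS.RKG
import Cfsg.Agent.Lib.LMS.GD
import Cfsg.Agent.Lib.LMS.B4

set_option autoImplicit false
set_option linter.unusedSectionVars false

namespace LMS

open Subgroup H69 Cfsg Matrix U4S
open scoped MatrixGroups commutatorElement

universe u
variable {G : Type*} [Group G] [Finite G] {F : Type u} [Field F] [CharP F 2] [Fintype F] {n : ℕ} [Ok n F]
  {ι ψ χ : XX n F →* G} {t : G} {E : Subgroup G}

local notation "X" => XX n F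
local notation "I" => Fin (n + 3)
local notation "Mx" => Matrix (Fin (n + 3)) (Fin (n + 3)) F

theorem s2 (h : C1 ι t) (k : NI t) : ∃ w, w * w = 1 ∧ w ≠ 1 ∧ (IsConj t (ι w) ∨ IsConj t (t * ι w)) := by
  obtain ⟨g, c, n1⟩ := k
  have hg := h.cj g
  have ct : IsConj t (g * t * g⁻¹) := isConj_iff.2 ⟨g, rfl⟩
  have sN : g * t * g⁻¹ ∈ 𝐍(ι.range) := h.CN _ c.symm
  by_cases i : Inn ι.range (g * t * g⁻¹)
  · obtain ⟨u, u2, e | e⟩ := h.inn i hg.t2 c.symm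
    · exact ⟨u, u2, fun d => hg.t1 (by rw [e, d, map_one]), Or.inl (e ▸ ct)⟩
    · exact ⟨u, u2, fun d => n1 (by rw [e, d, map_one, mul_one]), Or.inr (e ▸ ct)⟩
  obtain ⟨a, φ, ε, ha, o⟩ := h.em.ou sN hg.t2 i
  obtain ⟨P, hP, y, yP, y2, y1, tw⟩ := cb_out o
  obtain ⟨x, hx⟩ := ha.tw tw
  have cP : ∀ p ∈ P, ι p * (g * t * g⁻¹) = g * t * g⁻¹ * ι p := fun p hp => (ha.fix (hP p hp)).symm
  have yP' : y ∈ P := (commutator_le.2 fun a ha b hb =>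
    mul_mem (mul_mem (mul_mem ha hb) (inv_mem ha)) (inv_mem hb)) yP
  have Y2 : ι y * ι y = 1 := by rw [← map_mul, y2, map_one]
  have i2 : Inn (cι ι g).range (ι y) := hg.em.comm_inn (P := P.map ι)
    (by rintro _ ⟨p, hp, rfl⟩; exact hg.CN _ (cP p hp))
    (by rw [← map_commutator]; exact mem_map_of_mem ι yP) (P2.of_sq Y2)
  have c2 : IsConj t (ι y * (g * t * g⁻¹)) := ct.trans (isConj_iff.2 ⟨ι x, hx⟩)
  obtain ⟨u, u2, e | e⟩ := hg.inn i2 Y2 (cP y yP')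
  · refine ⟨u, u2, fun d => y1 (h.em.inj2 (P2.of_sq y2) (P2.of_sq (mul_one 1))
      (by rw [e, d, map_one, map_one])), Or.inr (c2.trans (isConj_iff.2 ⟨g⁻¹, ?_⟩))⟩
    rw [e, cι_apply, h.tc u]
    group
  · refine ⟨u, u2, fun d => i ?_, Or.inl (c2.trans (isConj_iff.2 ⟨g⁻¹, ?_⟩))⟩
    · rw [d, map_one, mul_one] at e
      exact ⟨ι y, ⟨y, rfl⟩, 1, one_mem _, by rw [one_mul, e]⟩
    · rw [e, hg.tc u, mul_assoc (cι ι g u), hg.t2, mul_one, cι_apply]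
      group

theorem s3 (h : C1 ι t) {w : X} (hw : rk w ≤ 1) : ¬ IsConj t (ι w) := by
  intro c
  have L0 : (0 : I) ≠ iL := Fin.last_pos.ne
  rcases Nat.le_one_iff_eq_zero_or_eq_one.1 hw with h0 | h1
  · rw [rk_zero.1 h0, map_one] at c
    exact h.t1 (isConj_one_left.1 c)
  obtain ⟨z, hz⟩ := inv_cj (rk_sq hw) (xe_sq 0 iL 1) (h1.trans (rk_xe L0 one_ne_zero).symm)
  have c' : IsConj t (ι (xe 0 iL 1)) :=
    c.trans (isConj_iff.2 ⟨ι z, by rw [← hz, map_mul, map_mul, map_inv]⟩)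
  obtain ⟨g, hg⟩ := isConj_iff.1 c'
  have h' := h.cj g
  rw [hg] at h'
  obtain ⟨l, l0, lL⟩ := ex_third (0 : I) iL
  obtain ⟨J, hJ, J1, J2⟩ := root_J (F := F) (a := 0) (b := l) L0 l0 l0.symm
  obtain ⟨eB, cB⟩ := h.cardJ hJ
  have sB : ι (xe 0 iL 1) ∈ zpowers t ⊔ J.map ι :=
    mem_sup_right (mem_map_of_mem ι (J2 (mem_RR.2 ⟨1, rfl⟩)))
  have jB : ι (xe 0 l 1) ∈ zpowers t ⊔ J.map ι :=
    mem_sup_right (mem_map_of_mem ι (J1 (mem_RR.2 ⟨1, rfl⟩)))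
  have cj := eB.comm sB jB
  obtain ⟨J', -, e⟩ := (h'.rk eB fun b hb => eB.comm hb sB).2 cB.ge
  rw [e, mem_zp_sup h'.t2 (by rintro _ ⟨x, -, rfl⟩; exact h'.tc x)] at jB
  have uc : ι (xe l iL 1) * ι (xe 0 iL 1) = ι (xe 0 iL 1) * ι (xe l iL 1) := by
    rw [← map_mul, ← map_mul, xe_c0 lL L0.symm]
  have uN := h'.CN _ uc
  have es : ι (xe 0 l 1) * (ι (xe l iL 1) * ι (xe 0 l 1) * (ι (xe l iL 1))⁻¹) = ι (xe 0 iL 1) := by
    rw [← map_inv, xe_inv, ← map_mul, ← map_mul, ← map_mul, ← mul_assoc, ← mul_assoc, xe_c1 l0.symm lL L0,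
      mul_one]
  have le : J'.map (cι ι g) ≤ (cι ι g).range := map_le_range _ _
  refine h'.t_not ?_
  rcases jB with m | m
  · rw [← es]
    exact mul_mem (le m) (conj_mem_of_mem_normalizer uN (le m))
  · have := mul_mem (le m) (conj_mem_of_mem_normalizer uN (le m))
    rwa [← mul_assoc (ι (xe l iL 1)), uc, cj, mul_assoc (ι (xe 0 l 1)), mul_assoc (ι (xe 0 iL 1)),
      mul_assoc (ι (xe 0 iL 1)), ← mul_assoc (ι (xe 0 iL 1)), h'.t2, one_mul, es] at this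

end LMS
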