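import Cfsg.Agent.Lib.LMS.S2

set_option autoImplicit false
set_option linter.unusedSectionVars false

namespace LMS

open Subgroup H69 Cfsg Matrix U4S
open scoped MatrixGroups commutatorElement

universe u
variable {G : Type*} [Group G] [Finite G] {F : Type u} [Field F] [CharP F 2] [Fintype F] {n : ℕ} [Ok n F]
  {ι ψ χ : XX n F →* G} {t : G} {E : Subgroup G}

local notation "X" => XX n F
local notation "I" => Fin (n + 3)
local notation "Mx" => Matrix (Fin (n + 3)) (Fin (n + 3)) F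

namespace S4

theorem nE {W : Subgroup G} {c : G} (k : c * t = t * c) (hc : c ∈ 𝐍(W)) : c ∈ 𝐍(zpowers t ⊔ W) := by
  rw [← cj_eq_self_iff, cj_sup, cj_zpowers, k, mul_inv_cancel_right, cj_eq_of_mem_normalizer hc]

theorem nmap {W : Subgroup X} {x : X} (hx : x ∈ 𝐍(W)) : ι x ∈ 𝐍(W.map ι) :=
  le_normalizer_map ι (mem_map_of_mem ι hx)

/-- the product of an invariant set with an odd number of elements outside `V` -/
theorem prod_fix {E V : Subgroup G} (hE : El E) (ht : t ∈ E) (tV : t ∉ V) (S : Set G) (hS : ∀ x ∈ S, x ∈ E)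
    (o : Odd {x | x ∈ S ∧ t * x ∈ V}.ncard) (hV : ∀ x ∈ S, x ∈ V ∨ t * x ∈ V) :
    ∃ p ∈ E, p ≠ 1 ∧ ∀ m ∈ 𝐍(E), (∀ x, m * x * m⁻¹ ∈ S ↔ x ∈ S) → m * p * m⁻¹ = p := by
  classical
  letI : CommGroup E := { (inferInstance : Group E) with mul_comm := fun a b => Subtype.ext (hE.comm a.2 b.2) }
  letI := Fintype.ofFinite E
  let A : Finset E := Finset.univ.filter fun x => x.1 ∈ S
  have mA : ∀ x, x ∈ A ↔ x.1 ∈ S := fun x => by simp [A]
  let A1 : Finset E := A.filter fun x => t * x.1 ∈ V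
  have mA1 : ∀ x, x ∈ A1 ↔ x.1 ∈ S ∧ t * x.1 ∈ V := fun x => by simp [A1, A]
  have cA : A1.card = {x | x ∈ S ∧ t * x ∈ V}.ncard := by
    rw [← Set.ncard_coe_finset, ← Set.ncard_image_of_injective _ Subtype.val_injective]
    congr 1
    ext x
    exact ⟨fun ⟨y, hy, e⟩ => e ▸ (mA1 y).1 hy, fun hx => ⟨⟨x, hS x hx.1⟩, (mA1 _).2 hx, rfl⟩⟩
  let τ : E := ⟨t, ht⟩
  have e : τ * ∏ x ∈ A1, τ * x = ∏ x ∈ A1, x := by
    obtain ⟨j, hj⟩ := o
    have : τ * τ = 1 := Subtype.ext (hE t ht)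
    rw [Finset.prod_mul_distrib, Finset.prod_const, cA, hj, pow_succ', ← mul_assoc, ← mul_assoc, this, pow_mul,
      sq, this, one_pow, one_mul, one_mul]
  have m1 : (∏ x ∈ A1, τ * x) ∈ V.subgroupOf E := prod_mem fun x hx => ((mA1 x).1 hx).2
  have m2 : (∏ x ∈ A.filter fun x => ¬ t * x.1 ∈ V, x) ∈ V.subgroupOf E := prod_mem fun x hx => by
    rw [Finset.mem_filter, mA] at hx
    exact (hV _ hx.1).resolve_right hx.2
  refine ⟨(∏ x ∈ A, x : E), Subtype.prop _, fun d => tV ?_, fun m hm i => ?_⟩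
  · have d' : ∏ x ∈ A, x = 1 := Subtype.ext d
    rw [← Finset.prod_filter_mul_prod_filter_not A fun x => t * x.1 ∈ V, ← e, mul_assoc,
      mul_eq_one_iff_eq_inv] at d'
    have : τ ∈ V.subgroupOf E := d' ▸ inv_mem (mul_mem m1 m2)
    exact this
  · let φ : MulAut E := E.normalizerMonoidHom ⟨m, hm⟩
    have f : φ (∏ x ∈ A, x) = ∏ x ∈ A, x := by
      rw [map_prod]
      exact Finset.prod_equiv φ.toEquiv (fun x => by rw [mA, mA]; exact (i x).symm) fun _ _ => rfl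
    exact congrArg Subtype.val f

theorem tW (h : C1 ι t) (W : Subgroup X) : ∀ v ∈ W.map ι, t * v = v * t := by
  rintro _ ⟨x, -, rfl⟩
  exact h.tc x

theorem fixE (h : C1 ι t) {J : Subgroup X} (hJ : IsJ J) {p : G} (hp : p ∈ zpowers t ⊔ J.map ι) (p1 : p ≠ 1)
    (f : ∀ m ∈ 𝐍(zpowers t ⊔ J.map ι), m * p * m⁻¹ = p) : p = t := by
  have f' : ∀ y ∈ 𝐍(J), ι y * p = p * ι y := fun y hy =>
    mul_inv_eq_iff_eq_mul.1 (f _ (nE (h.tc y).symm (nmap hy)))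
  have k : ∀ w ∈ J, (∀ y ∈ 𝐍(J), ι w * ι y = ι y * ι w) → ι w = 1 := fun w hw c => by
    rw [hJ.nofix hw fun y hy => (h.em.comm2 (P2.of_sq (hJ.el w hw)) (c y hy)).symm, map_one]
  rcases (mem_zp_sup h.t2 (tW h J)).1 hp with ⟨w, hw, e⟩ | ⟨w, hw, e⟩
  · exact absurd (e ▸ k w hw fun y hy => by rw [e, f' y hy]) p1
  · have := k w hw fun y hy => by rw [e, mul_assoc, ← f' y hy, ← mul_assoc, h.tc, mul_assoc]
    rw [e, ← h.t2] at this
    exact mul_left_cancel this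

end S4

open S4

theorem s4 (h : C1 ι t) (k : NI t) : ∃ g c, c ≠ 0 ∧ g * t * g⁻¹ = t * ι (xe 0 iL c) := by
  by_contra hn
  have hJ : IsJ (JJ n F (kk n)) := isJ_kk
  obtain ⟨eE, cE⟩ := h.cardJ hJ
  have tE : t ∈ zpowers t ⊔ (JJ n F (kk n)).map ι := mem_sup_left (mem_zpowers t)
  let S : Set G := {x | x ∈ zpowers t ⊔ (JJ n F (kk n)).map ι ∧ ∃ g, g * t * g⁻¹ = x}
  have i1 : ∀ m ∈ 𝐍(zpowers t ⊔ (JJ n F (kk n)).map ι), ∀ x ∈ S, m * x * m⁻¹ ∈ S := by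
    rintro m hm _ ⟨a, g, rfl⟩
    exact ⟨conj_mem_of_mem_normalizer hm a, m * g, by group⟩
  have i2 : ∀ m ∈ 𝐍(zpowers t ⊔ (JJ n F (kk n)).map ι), ∀ x, m * x * m⁻¹ ∈ S ↔ x ∈ S := fun m hm x =>
    ⟨fun d => by simpa [mul_assoc] using i1 _ (inv_mem hm) _ d, i1 m hm x⟩
  have o : Odd {x | x ∈ S ∧ t * x ∈ (JJ n F (kk n)).map ι}.ncard := by
    refine @odd_fix G _ _ ((UU n F).map ι) G (MulAction.compHom G (MulAut.conj : G →* MulAut G))
      (sylU.isP.map ι) _ (Set.toFinite _) ?_ t ⟨⟨tE, 1, by simp⟩, h.t2.symm ▸ one_mem _⟩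
      fun d hd => ⟨fun f => ?_, ?_⟩
    · rintro _ ⟨x, hx, rfl⟩ d hd
      refine ⟨i1 _ (nE (h.tc x).symm (nmap (UU_nJ _ hx))) d hd.1, ?_⟩
      change t * (ι x * d * (ι x)⁻¹) ∈ _
      rw [← mul_assoc, ← mul_assoc, h.tc, mul_assoc (ι x)]
      exact conj_mem_of_mem_normalizer (nmap (UU_nJ _ hx)) hd.2
    · obtain ⟨w, hw, e⟩ := hd.2
      have wz : w ∈ RR F 0 iL := cen_U (JJ_le _ hw) fun u hu => by
        have : ι u * d * (ι u)⁻¹ = d := f _ (mem_map_of_mem ι hu)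
        refine (h.em.comm2 (P2.of_sq (hJ.el w hw)) ?_).symm
        rw [e, ← mul_assoc, ← h.tc, mul_assoc, mul_assoc, mul_inv_eq_iff_eq_mul.1 this]
      obtain ⟨c, rfl⟩ := mem_RR.1 wz
      obtain ⟨-, g, rfl⟩ := hd.1
      by_contra n1
      refine hn ⟨g, c, fun d => n1 ?_, by rw [e, ← mul_assoc, h.t2, one_mul]⟩
      rw [d, xe_zero, map_one, ← h.t2] at e
      exact (mul_left_cancel e).symm
    · rintro rfl _ ⟨x, -, rfl⟩
      change ι x * d * (ι x)⁻¹ = d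
      rw [← h.tc, mul_inv_cancel_right]
  obtain ⟨p, hp, p1, f⟩ := prod_fix eE tE (fun d => h.t_not (map_le_range _ _ d)) S (fun x hx => hx.1) o
    fun x hx => (mem_zp_sup h.t2 (tW h _)).1 hx.1
  have f' := fun m hm => f m hm (i2 m hm)
  have pt : p = t := fixE h hJ hp p1 f'
  have ex : ∃ g, g * t * g⁻¹ ∈ zpowers t ⊔ (JJ n F (kk n)).map ι ∧ g * t * g⁻¹ ≠ t := by
    obtain ⟨w, w2, w1, c⟩ := s2 h k
    obtain ⟨z, hz⟩ := inv_J w2
    have m := mem_sup_right (S := zpowers t) (mem_map_of_mem ι hz)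
    rcases c with c | c
    · obtain ⟨g, e⟩ := isConj_iff.1 c
      have e' : ι z * g * t * (ι z * g)⁻¹ = ι (z * w * z⁻¹) := by
        rw [map_mul, map_mul, map_inv, ← e]
        group
      exact ⟨ι z * g, e' ▸ m, fun d => h.t_not (d ▸ e' ▸ ⟨_, rfl⟩)⟩
    · obtain ⟨g, e⟩ := isConj_iff.1 c
      have e' : ι z * g * t * (ι z * g)⁻¹ = t * ι (z * w * z⁻¹) := by
        rw [map_mul, map_mul, map_inv, ← mul_assoc, ← mul_assoc, h.tc z, mul_assoc (ι z) t, ← e]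
        group
      refine ⟨ι z * g, e' ▸ mul_mem tE m, fun d => w1 ?_⟩
      rw [e', mul_eq_left] at d
      have := h.em.inj2 (P2.of_sq (hJ.el _ hz)) (P2.of_sq (mul_one 1)) (d.trans (map_one ι).symm)
      simpa using this
  obtain ⟨g, m, n1⟩ := ex
  obtain ⟨J', hJ', e⟩ := ((h.cj g).rk eE fun b hb => eE.comm hb m).2 cE.ge
  rw [e] at hp f'
  exact n1 ((fixE (h.cj g) hJ' hp p1 f').symm.trans pt)

end LMS
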