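import Cfsg.Agent.Lib.LMS.S2
import Cfsg.Agent.Lib.LMS.CE

set_option autoImplicit false
set_option linter.unusedSectionVars false

namespace LMS

open Subgroup H69 Cfsg Matrix U4S
open scoped MatrixGroups commutatorElement

universe u
variable {G : Type*} [Group G] [Finite G] {F : Type u} [Field F] [CharP F 2] [Fintype F] {n : ℕ} [Ok n F]
  {ι ψ χ : XX n F →* G} {t : G} {E : Subgroup G}

local notation "X" => XX n F
local notation "I" => Fin (n + 3)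
local notation "Mx" => Matrix (Fin (n + 3)) (Fin (n + 3)) F

namespace S5

theorem ne0 : (0 : I) ≠ iL := Fin.last_pos.ne

theorem comm_of_el {B : Subgroup G} (hB : El B) {a b : G} (ha : a ∈ B) (hb : b ∈ B) : a * b = b * a := by
  have e : b * a = (a * a) * b * a * (b * b) := by rw [hB a ha, hB b hb]; group
  have e2 : (a * a) * b * a * (b * b) = a * (a * b * (a * b)) * b := by group
  rw [e, e2, hB _ (mul_mem ha hb)]; group

/-- `⟨s⟩ L` -/
def adj (L : Subgroup G) (s : G) (s2 : s * s = 1) (c : s ∈ 𝐂(L)) : Subgroup G where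
  carrier := {y | y ∈ L ∨ s * y ∈ L}
  one_mem' := Or.inl (one_mem _)
  mul_mem' := by
    have k : ∀ y ∈ L, y * s = s * y := mem_centralizer_iff.1 c
    rintro a b (ha | ha) (hb | hb)
    · exact Or.inl (mul_mem ha hb)
    · right
      rw [← mul_assoc, ← k a ha, mul_assoc]
      exact mul_mem ha hb
    · right
      rw [← mul_assoc]
      exact mul_mem ha hb
    · left
      have := mul_mem ha hb
      rwa [← mul_assoc, k _ ha, ← mul_assoc, s2, one_mul] at this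
  inv_mem' := by
    have k : ∀ y ∈ L, y * s = s * y := mem_centralizer_iff.1 c
    rintro a (ha | ha)
    · exact Or.inl (inv_mem ha)
    · right
      have e : s * a⁻¹ = (s * a)⁻¹ := by
        calc s * a⁻¹ = s * (s * a)⁻¹ * s := by group
          _ = (s * a)⁻¹ * (s * s) := by rw [← k _ (inv_mem ha)]; group
          _ = (s * a)⁻¹ := by rw [s2, mul_one]
      rw [e]
      exact inv_mem ha

theorem adj_comm {L : Subgroup G} {s : G} (s2 : s * s = 1) (c : s ∈ 𝐂(L)) :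
    ⁅adj L s s2 c, adj L s s2 c⁆ ≤ L := by
  have k : ∀ y ∈ L, Commute y s := mem_centralizer_iff.1 c
  have key : ∀ a ∈ adj L s s2 c, ∃ a' ∈ L, ∃ u, a = u * a' ∧ Commute u s ∧ ∀ y ∈ L, Commute u y := by
    rintro a (ha | ha)
    · exact ⟨a, ha, 1, (one_mul _).symm, Commute.one_left _, fun y _ => Commute.one_left _⟩
    · exact ⟨s * a, ha, s, by rw [← mul_assoc, s2, one_mul], Commute.refl _, fun y hy => (k y hy).symm⟩
  rw [commutator_le]
  intro a ha b hb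
  obtain ⟨a', ha', u, rfl, u1, u2⟩ := key a ha
  have hu : Commute u b := by
    rcases hb with hb | hb
    · exact u2 b hb
    · have := u1.mul_right (u2 _ hb)
      rwa [← mul_assoc, s2, one_mul] at this
  have e1 : ⁅u * a', b⁆ = u * ⁅a', b⁆ * u⁻¹ := by
    calc ⁅u * a', b⁆ = u * ⁅a', b⁆ * u⁻¹ * (u * b * u⁻¹ * b⁻¹) := by
          simp only [commutatorElement_def]; group
      _ = u * ⁅a', b⁆ * u⁻¹ := by rw [hu.eq]; group
  obtain ⟨b', hb', v, rfl, -, v2⟩ := key b hb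
  have e2 : ⁅a', v * b'⁆ = ⁅a', b'⁆ := by
    have c1 := (v2 _ (mul_mem (mul_mem ha' hb') (inv_mem ha'))).eq
    calc ⁅a', v * b'⁆ = (a' * v) * b' * a'⁻¹ * b'⁻¹ * v⁻¹ := by
          simp only [commutatorElement_def]; group
      _ = v * (a' * b' * a'⁻¹ * b'⁻¹) * v⁻¹ := by rw [← (v2 a' ha').eq]; group
      _ = ⁅a', b'⁆ := by
          rw [(v2 _ (mul_mem (mul_mem (mul_mem ha' hb') (inv_mem ha')) (inv_mem hb'))).eq,
            mul_inv_cancel_right, commutatorElement_def]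
  have hm : ⁅a', b'⁆ ∈ L := mul_mem (mul_mem (mul_mem ha' hb') (inv_mem ha')) (inv_mem hb')
  rw [e1, e2, (u2 _ hm).eq, mul_inv_cancel_right]
  exact hm

theorem xe_RR (i j : I) (c : F) : (xe i j c : X) ∈ RR F i j := mem_RR.2 ⟨c, rfl⟩

theorem xe_UU (c : F) : (xe 0 iL c : X) ∈ UU n F := subset_closure ⟨0, iL, c, Fin.last_pos, rfl⟩

theorem gen (h : C1 ι t) {g : G} {c : F} (e : g * t * g⁻¹ = t * ι (xe 0 iL c)) {a b : I} (h1 : a ≠ iL)
    (h2 : b ≠ 0) (d : F) :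
    xe 0 iL c * xe a b d * (xe 0 iL c * xe a b d) = (1 : X) ∧
      ι (xe a b d) ∈ adj (cι ι g).range (g * t * g⁻¹) (h.cj g).t2 (h.cj g).tC := by
  by_cases hab : a = b
  · rw [hab, xe_self, mul_one, map_one]
    exact ⟨xe_sq _ _ _, one_mem _⟩
  obtain ⟨J, hJ, r1, r2⟩ := root_J (F := F) h1 h2 hab
  refine ⟨hJ.el _ (mul_mem (r2 (xe_RR _ _ _)) (r1 (xe_RR _ _ _))), ?_⟩
  obtain ⟨hB, hc⟩ := h.cardJ hJ
  have hs : g * t * g⁻¹ ∈ zpowers t ⊔ J.map ι := by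
    rw [e]
    exact mul_mem (mem_sup_left (mem_zpowers t)) (mem_sup_right (mem_map_of_mem ι (r2 (xe_RR _ _ _))))
  obtain ⟨J', -, e'⟩ := ((h.cj g).rk hB fun b hb => comm_of_el hB hb hs).2 hc.ge
  have hx : ι (xe a b d) ∈ zpowers t ⊔ J.map ι := mem_sup_right (mem_map_of_mem ι (r1 (xe_RR _ _ _)))
  rw [e'] at hx
  refine (sup_le (zpowers_le.2 (Or.inr ?_)) fun y hy => Or.inl (map_le_range _ _ hy)) hx
  rw [(h.cj g).t2]
  exact one_mem _

theorem zero (hn : n = 0) (h : C1 ι t) {g : G} {c : F} (hc : c ≠ 0) (e : g * t * g⁻¹ = t * ι (xe 0 iL c))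
    {w : X} (w2 : w * w = 1) : t * ι w ∉ (cι ι g).range := by
  intro hw
  have k1 : kk n = 1 := by rw [hn]; rfl
  obtain ⟨u, u2, hu⟩ := (h.cj g).em.lifti hw (by
    calc t * ι w * (t * ι w) = t * (ι w * t) * ι w := by group
      _ = (t * t) * ι (w * w) := by rw [← h.tc, map_mul]; group
      _ = 1 := by rw [h.t2, w2, map_one, one_mul])
  refine s3 (h.cj g) ((rk_le u2).trans k1.le) ?_
  rw [hu]
  by_cases w1 : w = 1
  · rw [w1, map_one, mul_one]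
    exact (isConj_iff.2 ⟨g, rfl⟩).symm
  · have r1 : rk w = 1 := le_antisymm ((rk_le w2).trans k1.le)
      (Nat.one_le_iff_ne_zero.2 fun h0 => w1 (rk_zero.1 h0))
    obtain ⟨y, hy⟩ := inv_cj (xe_sq 0 iL c) w2 ((rk_xe ne0 hc).trans r1.symm)
    refine isConj_iff.2 ⟨ι y, ?_⟩
    rw [e, ← hy, map_mul, map_mul, map_inv, ← mul_assoc, ← h.tc]
    group

theorem two_of (h : C1 ι t) (k : ∀ ρ ∈ 𝐂(ι.range), ρ * ρ ≠ t) : Two ι.range t := by
  rintro c hc ct ⟨j, hj⟩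
  induction j generalizing c with
  | zero => left; rwa [pow_zero, pow_one] at hj
  | succ j ih =>
    rcases ih (c * c) (mul_mem hc hc) (by rw [mul_assoc, ct, ← mul_assoc, ct, mul_assoc])
      (by rw [← sq, ← pow_mul, ← pow_succ', hj]) with h1 | h1
    · exact h.uq c hc h1 ct
    · exact absurd h1 (k c hc)

theorem p2_U {u : X} (hu : u ∈ UU n F) : P2 u := by
  obtain ⟨k, hk⟩ := (sylU (n := n) (F := F)).isP ⟨u, hu⟩
  exact ⟨k, congrArg Subtype.val hk⟩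

end S5

open S5

theorem pp_le (h : C1 ι t) {g : G} {c : F} (e : g * t * g⁻¹ = t * ι (xe 0 iL c)) :
    (PP F 0 iL).map ι ≤ ι.range ^ᶜ g := by
  by_cases hc : c = 0
  · rw [hc, xe_zero, map_one, mul_one] at e
    rw [cj_eq_of_mem_normalizer (h.CN g (mul_inv_eq_iff_eq_mul.1 e))]
    exact map_le_range _ _
  rw [← range_cι]
  rcases Nat.eq_zero_or_pos n with hn | hn
  · rw [map_le_iff_le_comap, PP, closure_le]
    rintro _ ⟨a, b, d, h1, h2, rfl⟩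
    obtain ⟨k1, k2 | k2⟩ := gen h e h1 h2 d
    · exact k2
    · rw [e, mul_assoc, ← map_mul] at k2
      exact absurd k2 (zero hn h hc e k1)
  · have h3 : (PP F 0 iL).map ι ≤ adj (cι ι g).range (g * t * g⁻¹) (h.cj g).t2 (h.cj g).tC := by
      rw [map_le_iff_le_comap, PP, closure_le]
      rintro _ ⟨a, b, d, h1, h2, rfl⟩
      exact (gen h e h1 h2 d).2
    rw [← PP_pf hn ne0, map_commutator]
    exact (commutator_mono h3 h3).trans (adj_comm _ _)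

theorem nv (h : C1 ι t) {g : G} {c : F} (e : g * t * g⁻¹ = t * ι (xe 0 iL c)) (k : g ∈ 𝐍((RR F 0 iL).map ι)) :
    g ∈ 𝐍((PP F 0 iL).map ι) ∧ g ∈ 𝐍((QQ F 0 iL).map ι) := by
  have e' := h.em.cj g
  have h1 : (PP F 0 iL).map ι ≤ (PP F 0 iL).map ι ^ᶜ g := by
    rw [map_le_iff_le_comap]
    refine (closure_le _).2 ?_
    rintro _ ⟨a, b, d, h1, h2, rfl⟩
    have hx : (xe a b d : X) ∈ PP F 0 iL := subset_closure ⟨a, b, d, h1, h2, rfl⟩
    have h3 := pp_le h e (mem_map_of_mem ι hx)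
    rw [← range_cι] at h3
    obtain ⟨x', x2, hx'⟩ := e'.lifti h3 (by rw [← map_mul, xe_sq, map_one])
    obtain ⟨y, hy, hy'⟩ := (mem_normalizer_iff.1 k _).1 (mem_map_of_mem ι (xe_RR 0 iL (1 : F)))
    obtain ⟨c', rfl⟩ := mem_RR.1 hy
    have h4 : x' * xe 0 iL 1 = xe 0 iL 1 * x' := e'.comm2 ⟨1, by rw [pow_one, sq, x2]⟩ (by
      rw [hx', cι_apply, ← hy', ← map_mul, ← map_mul, PP_cen ne0 hx])
    change ι (xe a b d) ∈ (PP F 0 iL).map ι ^ᶜ g
    rw [← hx', cι_apply]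
    exact cj_mem g (mem_map_of_mem ι (inv_PP ne0 x2 h4))
  have h2 : (PP F 0 iL).map ι ^ᶜ g = (PP F 0 iL).map ι :=
    (eq_of_le_of_card_ge h1 (card_cj _ _).le).symm
  refine ⟨cj_eq_self_iff.1 h2, mem_normalizer_of_cj_le ?_⟩
  have h3 : (QQ F 0 iL).map ι ^ᶜ g ≤ (PP F 0 iL).map ι := h2 ▸ cj_mono g (map_mono (QQ_le ne0))
  have h4 : (PP F 0 iL).map ι ≤ 𝐍((QQ F 0 iL).map ι ^ᶜ g) := by
    rw [← cj_normalizer, ← h2]
    exact cj_mono g ((map_mono (PP_nQ ne0)).trans (le_normalizer_map ι))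
  have h5 : IsPGroup 2 ((QQ F 0 iL).map ι ^ᶜ g) := isPGroup_cj ((isP_QQ ne0).map ι) g
  have h6 : ((QQ F 0 iL).map ι ^ᶜ g).comap ι ⊓ PP F 0 iL ≤ QQ F 0 iL := by
    refine core_PP ?_ inf_le_right fun x hx => mem_normalizer_of_cj_le fun y hy => ?_
    · rintro ⟨x, hx1, hx2⟩
      obtain ⟨j, hj⟩ := h5 ⟨ι x, hx1⟩
      refine ⟨j, Subtype.ext (PP_cc ne0 (pow_mem (show x ∈ PP F 0 iL from hx2) _) (h.em ?_))⟩
      change ι (x ^ 2 ^ j) = 1
      rw [map_pow]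
      exact congrArg Subtype.val hj
    · obtain ⟨w, hw, rfl⟩ := mem_cj'.1 hy
      refine ⟨?_, (PP F 0 iL).mul_mem ((PP F 0 iL).mul_mem hx hw.2) ((PP F 0 iL).inv_mem hx)⟩
      change ι (x * w * x⁻¹) ∈ (QQ F 0 iL).map ι ^ᶜ g
      rw [map_mul, map_mul, map_inv]
      exact (mem_normalizer_iff.1 (h4 (mem_map_of_mem ι hx)) _).1 hw.1
  intro y hy
  obtain ⟨x, hx, rfl⟩ := h3 hy
  exact mem_map_of_mem ι (h6 ⟨hy, hx⟩)

theorem s5 (h : C1 ι t) {g : G} {c : F} (hc : c ≠ 0) (e : g * t * g⁻¹ = t * ι (xe 0 iL c)) :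
    C2 ι t ∧ ∃ g', g' * t * g'⁻¹ = t * ι (xe 0 iL c) ∧ g' ∈ 𝐍((RR F 0 iL).map ι) := by
  haveI : Fact (Nat.Prime 2) := ⟨Nat.prime_two⟩
  obtain ⟨l, hl, h1⟩ := (h.em.sylU.cj g).exists_cj_le h.em.sylU.isP
    ((map_mono UU_le).trans (pp_le h e))
  have h2 : l⁻¹ * g ∈ 𝐍((UU n F).map ι) := by
    have h3 : (UU n F).map ι ^ᶜ (g⁻¹ * l) ≤ (UU n F).map ι := by
      rw [← cj_cj, cj_le_iff, inv_inv]
      exact h1
    have := inv_mem (mem_normalizer_of_cj_le h3)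
    rwa [_root_.mul_inv_rev, inv_inv] at this
  have h3 : l⁻¹ * g * t * (l⁻¹ * g)⁻¹ = t * ι (xe 0 iL c) := by
    rw [← range_cι] at hl
    have := mem_centralizer_iff.1 (h.cj g).tC l hl
    calc l⁻¹ * g * t * (l⁻¹ * g)⁻¹ = l⁻¹ * (g * t * g⁻¹ * l) := by group
      _ = t * ι (xe 0 iL c) := by rw [← this, inv_mul_cancel_left, e]
  generalize l⁻¹ * g = k at h2 h3
  have key : ∀ y : G, (∀ u ∈ UU n F, ι u * y = y * ι u) → ∀ u ∈ UU n F,
      ι u * (k * y * k⁻¹) = k * y * k⁻¹ * ι u := by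
    intro y hy u hu
    obtain ⟨v, hv, hv'⟩ := (mem_normalizer_iff.1 (inv_mem h2) _).1 (mem_map_of_mem ι hu)
    calc ι u * (k * y * k⁻¹) = k * (k⁻¹ * ι u * k⁻¹⁻¹ * y) * k⁻¹ := by group
      _ = k * (y * (k⁻¹ * ι u * k⁻¹⁻¹)) * k⁻¹ := by rw [← hv', hy v hv]
      _ = k * y * k⁻¹ * ι u := by group
  refine ⟨⟨h, two_of h fun ρ hρ r2 => hc ?_⟩, k, h3, mem_normalizer_of_cj_le fun y hy => ?_⟩
  · have c1 := key ρ fun u _ => mem_centralizer_iff.1 hρ _ ⟨u, rfl⟩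
    have c2 : k * ρ * k⁻¹ * (k * ρ * k⁻¹) = t * ι (xe 0 iL c) := by rw [← h3, ← r2]; group
    generalize k * ρ * k⁻¹ = σ at c1 c2
    have c3 : σ * t = t * σ := by
      apply mul_right_cancel (b := ι (xe 0 iL c))
      rw [mul_assoc, mul_assoc, ← c1 _ (xe_UU c), ← mul_assoc t, ← c2, mul_assoc]
    obtain ⟨a, κ, hκ, rfl⟩ := cQ h.em (h.CN σ c3) ne0 fun x hx => (c1 x (QQ_le_UU hx)).symm
    have c4 : κ * κ = t * ι (xe 0 iL c) := by
      rw [← c2]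
      calc κ * κ = κ * κ * ι (xe 0 iL a * xe 0 iL a) := by rw [xe_sq, map_one, mul_one]
        _ = κ * (κ * ι (xe 0 iL a)) * ι (xe 0 iL a) := by rw [map_mul]; group
        _ = κ * (ι (xe 0 iL a) * κ) * ι (xe 0 iL a) := by
          rw [mem_centralizer_iff.1 hκ _ ⟨xe 0 iL a, rfl⟩]
        _ = κ * ι (xe 0 iL a) * (κ * ι (xe 0 iL a)) := by group
    refine xe_cen ne0 (h.em.cen.1 ?_)
    have := mul_mem (inv_mem h.tC) (mul_mem hκ hκ)
    rwa [c4, inv_mul_cancel_left] at this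
  · obtain ⟨_, ⟨x, hx, rfl⟩, rfl⟩ := mem_cj'.1 hy
    obtain ⟨a, rfl⟩ := mem_RR.1 hx
    obtain ⟨u, hu, hu'⟩ := (mem_normalizer_iff.1 h2 _).1 (mem_map_of_mem ι (xe_UU a))
    have c1 := key (ι (xe 0 iL a)) fun v hv => by rw [← map_mul, ← map_mul, RR_cen hx hv]
    rw [← hu'] at c1 ⊢
    exact mem_map_of_mem ι (cen_U hu fun v hv => h.em.comm2 (p2_U hv) (c1 v hv))

end LMS
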