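import Cfsg.Agent.Lib.LMS.S5

set_option autoImplicit false
set_option linter.unusedSectionVars false

namespace LMS

open Subgroup H69 Cfsg Matrix U4S
open scoped MatrixGroups commutatorElement

universe u
variable {G : Type*} [Group G] [Finite G] {F : Type u} [Field F] [CharP F 2] [Fintype F] {n : ℕ} [Ok n F]
  {ι ψ χ : XX n F →* G} {t : G} {E : Subgroup G}

local notation "X" => XX n F
local notation "I" => Fin (n + 3)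
local notation "Mx" => Matrix (Fin (n + 3)) (Fin (n + 3)) F

namespace S6A

local notation "Q" => QQ F (0 : I) iL

/-- the commutator form -/
def Bf (x w : X) : F := ∑ l ∈ (Finset.univ.erase (0 : I)).erase iL, (x.1 0 l * w.1 l iL + w.1 0 l * x.1 l iL)

theorem L0 : (0 : I) ≠ iL := Fin.last_pos.ne

theorem z_inj (e : Em ι) {a b : F} (h : ι (xe 0 iL a) = ι (xe 0 iL b)) : a = b := by
  have := e.inj2 (P2.of_sq (xe_sq _ _ _)) (P2.of_sq (xe_sq _ _ _)) h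
  have h2 := congrFun (congrFun (congrArg Subtype.val this) 0) iL
  rw [xe_val L0, xe_val L0] at h2
  simpa using h2

theorem i_comm {x w : X} (hx : x ∈ Q) (hw : w ∈ Q) :
    ι (xe 0 iL (Bf x w)) = (ι w * ι x)⁻¹ * (ι x * ι w) := by
  rw [← map_mul, ← map_mul, comm_QQ L0 hx hw, map_mul _ (w * x), inv_mul_cancel_left]
  rfl

theorem form {g : G} {x w x' w' : X} (hx : x ∈ Q) (hw : w ∈ Q) (hx' : x' ∈ Q) (hw' : w' ∈ Q)
    (h1 : g * ι x * g⁻¹ = ι x') (h2 : g * ι w * g⁻¹ = ι w') :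
    g * ι (xe 0 iL (Bf x w)) * g⁻¹ = ι (xe 0 iL (Bf x' w')) := by
  rw [i_comm hx hw, i_comm hx' hw', ← h1, ← h2]; group

theorem exQ {g : G} (hg : g ∈ 𝐍((Q).map ι)) {x : X} (hx : x ∈ Q) : ∃ x' ∈ Q, g * ι x * g⁻¹ = ι x' := by
  obtain ⟨x', h1, h2⟩ := (mem_normalizer_iff.1 hg _).1 (mem_map_of_mem ι hx)
  exact ⟨x', h1, h2.symm⟩

theorem mid {l : I} : l ∈ (Finset.univ.erase (0 : I)).erase iL ↔ l ≠ 0 ∧ l ≠ iL := by
  simp [and_comm]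

theorem r_mem (l : I) (a : F) : (xe l iL a : X) ∈ Q := subset_closure ⟨l, a, Or.inr rfl⟩
theorem l_mem (l : I) (a : F) : (xe 0 l a : X) ∈ Q := subset_closure ⟨l, a, Or.inl rfl⟩

theorem Bf_r {l : I} (l0 : l ≠ 0) (lL : l ≠ iL) (x : X) (a : F) : Bf x (xe l iL a) = x.1 0 l * a := by
  unfold Bf
  rw [Finset.sum_eq_single l]
  · rw [xe_val lL]
    simp [l0, lL, l0.symm]
  · intro k hk kl
    obtain ⟨k0, kL⟩ := mid.1 hk
    rw [xe_val lL]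
    simp [l0, kL, k0.symm, kl.symm]
  · exact fun k => (k (mid.2 ⟨l0, lL⟩)).elim

theorem Bf_l {l : I} (l0 : l ≠ 0) (lL : l ≠ iL) (x : X) (a : F) : Bf x (xe 0 l a) = a * x.1 l iL := by
  unfold Bf
  rw [Finset.sum_eq_single l]
  · rw [xe_val l0.symm]
    simp [l0, lL, l0.symm]
  · intro k hk kl
    obtain ⟨k0, kL⟩ := mid.1 hk
    rw [xe_val l0.symm]
    simp [lL, kL, k0.symm, kl.symm]
  · exact fun k => (k (mid.2 ⟨l0, lL⟩)).elim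

/-- a diagonal -/
def dd (n : ℕ) (μ : Fˣ) : Fin (n + 3) → F := Pi.mulSingle 0 (μ : F) * Pi.mulSingle iL (μ : F)⁻¹

theorem dd_prod (μ : Fˣ) : ∏ i, dd n μ i = 1 := by
  simp only [dd, Pi.mul_apply, Finset.prod_mul_distrib, Finset.prod_pi_mulSingle', Finset.mem_univ, if_true]
  exact mul_inv_cancel₀ μ.ne_zero

theorem dd_0 (μ : Fˣ) : dd n μ 0 = μ := by simp [dd, Pi.mulSingle_eq_of_ne (L0 (n := n))]
theorem dd_L (μ : Fˣ) : dd n μ iL = (μ : F)⁻¹ := by simp [dd, Pi.mulSingle_eq_of_ne (L0 (n := n)).symm]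
theorem dd_m (μ : Fˣ) {l : I} (l0 : l ≠ 0) (lL : l ≠ iL) : dd n μ l = 1 := by
  simp [dd, Pi.mulSingle_eq_of_ne l0, Pi.mulSingle_eq_of_ne lL]

/-- the torus element that is scalar on `Q / Z` -/
def hh (μ : Fˣ) : X := H63.St.SL.dg (dd n μ) (dd_prod μ)

theorem hh_val (μ : Fˣ) (x : X) (i j : I) : (hh μ * x * (hh μ)⁻¹).1 i j = dd n μ i * x.1 i j * (dd n μ j)⁻¹ := by
  have h : (hh μ * x * (hh μ)⁻¹).1 * diagonal (dd n μ) = diagonal (dd n μ) * x.1 :=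
    congrArg Subtype.val (inv_mul_cancel_right (hh μ * x) (hh μ))
  have h2 := congrFun (congrFun h i) j
  rw [mul_diagonal, diagonal_mul] at h2
  rw [← h2, mul_inv_cancel_right₀ (H63.St.SL.dg_ne (dd_prod μ) j)]

theorem hh_Q (μ : Fˣ) {x : X} (hx : x ∈ Q) : hh μ * x * (hh μ)⁻¹ ∈ Q := by
  refine (mem_QQ' L0).2 fun a b hab => ?_
  rw [hh_val, (mem_QQ' L0).1 hx a b hab]
  by_cases e : a = b
  · rw [e, one_apply_eq, mul_one, mul_inv_cancel₀ (H63.St.SL.dg_ne (dd_prod μ) b)]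
  · rw [one_apply_ne e, mul_zero, zero_mul]

theorem hh_r (μ : Fˣ) (x : X) {l : I} (l0 : l ≠ 0) (lL : l ≠ iL) : (hh μ * x * (hh μ)⁻¹).1 0 l = μ * x.1 0 l := by
  rw [hh_val, dd_0, dd_m μ l0 lL, inv_one, mul_one]

theorem hh_l (μ : Fˣ) (x : X) {l : I} (l0 : l ≠ 0) (lL : l ≠ iL) : (hh μ * x * (hh μ)⁻¹).1 l iL = μ * x.1 l iL := by
  rw [hh_val, dd_L, dd_m μ l0 lL, inv_inv, one_mul, mul_comm]

theorem hh_Bf (μ : Fˣ) (x w : X) : Bf (hh μ * x * (hh μ)⁻¹) w = μ * Bf x w := by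
  unfold Bf
  rw [Finset.mul_sum]
  refine Finset.sum_congr rfl fun l hl => ?_
  obtain ⟨l0, lL⟩ := mid.1 hl
  rw [hh_r μ x l0 lL, hh_l μ x l0 lL]
  ring

theorem hh_z (μ : Fˣ) (a : F) : (hh μ : X) * xe 0 iL a * (hh μ)⁻¹ = xe 0 iL (μ * μ * a) := by
  have := H63.St.SL.dg_conj (dd_prod (n := n) μ) L0 a
  rwa [dd_0, dd_L, inv_inv] at this

theorem Q_eq {x y : X} (hx : x ∈ Q) (hy : y ∈ Q)
    (h : ∀ l : I, l ≠ 0 → l ≠ iL → y.1 0 l = x.1 0 l ∧ y.1 l iL = x.1 l iL) : ∃ e, y = x * xe 0 iL e := by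
  refine ⟨y.1 0 iL - x.1 0 iL, Subtype.ext ?_⟩
  rw [Matrix.SpecialLinearGroup.coe_mul, xe_val L0, mul_add, mul_one]
  have kx := (mem_QQ' L0).1 hx
  have ky := (mem_QQ' L0).1 hy
  ext a b
  rw [Matrix.add_apply]
  by_cases bL : b = iL
  · subst bL
    rw [mul_single_apply_same]
    by_cases a0 : a = 0
    · subst a0
      rw [kx 0 0 (Or.inr rfl), one_apply_eq, one_mul, add_sub_cancel]
    · rw [kx a 0 (Or.inl ⟨a0, L0⟩), one_apply_ne a0, zero_mul, add_zero]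
      by_cases aL : a = iL
      · rw [kx _ _ (Or.inr aL), ky _ _ (Or.inr aL)]
      · exact (h a a0 aL).2
  · rw [mul_single_apply_of_ne _ _ _ _ _ bL, add_zero]
    by_cases a0 : a = 0
    · subst a0
      by_cases b0 : b = 0
      · rw [kx _ _ (Or.inr b0.symm), ky _ _ (Or.inr b0.symm)]
      · exact (h b b0 bL).1
    · rw [kx _ _ (Or.inl ⟨a0, bL⟩), ky _ _ (Or.inl ⟨a0, bL⟩)]

theorem ex_k {g : G} (hg : g ∈ 𝐍((Q).map ι)) (μ : Fˣ) {x : X} (hx : x ∈ Q) :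
    ∃ x' ∈ Q, g * ι (hh μ) * g⁻¹ * ι x * (g * ι (hh μ) * g⁻¹)⁻¹ = ι x' := by
  obtain ⟨x1, a1, b1⟩ := exQ (inv_mem hg) hx
  obtain ⟨x2, a2, b2⟩ := exQ hg (hh_Q μ a1)
  refine ⟨x2, a2, ?_⟩
  rw [← b2, map_mul, map_mul, map_inv, ← b1]; group

/-- conjugates of `hh μ` under `N(Q)` act as scalars on `Q/Z` -/
theorem scalar (em : Em ι) {g : G} (hg : g ∈ 𝐍((Q).map ι)) {μ : Fˣ} (hμ : (μ : F) ≠ 1) : ∃ ν : Fˣ, (ν : F) ≠ 1 ∧
    ∀ x x' : X, x ∈ Q → x' ∈ Q → g * ι (hh μ) * g⁻¹ * ι x * (g * ι (hh μ) * g⁻¹)⁻¹ = ι x' →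
      ∀ w : X, w ∈ Q → Bf x' w = ν * Bf x w := by
  have k : ∀ x x' : X, x ∈ Q → x' ∈ Q → g * ι (hh μ) * g⁻¹ * ι x * (g * ι (hh μ) * g⁻¹)⁻¹ = ι x' →
      ∀ w : X, w ∈ Q → ∃ e, g⁻¹ * ι (xe 0 iL (Bf x w)) * g⁻¹⁻¹ = ι (xe 0 iL e) ∧
        g⁻¹ * ι (xe 0 iL (Bf x' w)) * g⁻¹⁻¹ = ι (xe 0 iL (μ * e)) := fun x x' hx hx' e w hw => by
    obtain ⟨x1, a1, b1⟩ := exQ (inv_mem hg) hx
    obtain ⟨w1, a2, b2⟩ := exQ (inv_mem hg) hw
    have b3 : g⁻¹ * ι x' * g⁻¹⁻¹ = ι (hh μ * x1 * (hh μ)⁻¹) := by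
      rw [map_mul, map_mul, map_inv, ← b1, ← e]; group
    refine ⟨_, form hx hw a1 a2 b1 b2, ?_⟩
    rw [form hx' hw (hh_Q μ a1) a2 b3 b2, hh_Bf]
  obtain ⟨l, l0, lL⟩ := ex_third (0 : I) iL
  obtain ⟨y, hy, e⟩ := ex_k hg μ (l_mem l 1)
  have k1 : ∀ a, ∃ e, g⁻¹ * ι (xe 0 iL a) * g⁻¹⁻¹ = ι (xe 0 iL e) ∧
      g⁻¹ * ι (xe 0 iL (y.1 0 l * a)) * g⁻¹⁻¹ = ι (xe 0 iL (μ * e)) := fun a => by
    have := k _ _ (l_mem l 1) hy e (xe l iL a) (r_mem l a)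
    rwa [Bf_r l0 lL, Bf_r l0 lL, xe_val l0.symm, Matrix.add_apply, one_apply_ne l0.symm, single_apply_same, zero_add,
      one_mul] at this
  obtain ⟨e1, c1, c2⟩ := k1 1
  have he1 : e1 ≠ 0 := fun h0 => by
    rw [h0, xe_zero, map_one, conj_eq_one_iff, ← map_one ι, ← xe_zero 0 iL] at c1
    exact one_ne_zero (z_inj em c1)
  have h0 : y.1 0 l ≠ 0 := fun h0 => by
    rw [h0, zero_mul, xe_zero, map_one, mul_one, mul_inv_cancel, ← map_one ι, ← xe_zero 0 iL] at c2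
    exact mul_ne_zero μ.ne_zero he1 (z_inj em c2).symm
  refine ⟨Units.mk0 _ h0, fun h1 => ?_, fun x x' hx hx' e w hw => ?_⟩
  · rw [show y.1 0 l = 1 from h1, one_mul, c1] at c2
    exact hμ (mul_right_cancel₀ he1 ((z_inj em c2).symm.trans (one_mul _).symm))
  · obtain ⟨d, d1, d2⟩ := k x x' hx hx' e w hw
    obtain ⟨d', d1', d2'⟩ := k1 (Bf x w)
    rw [z_inj em (d1.symm.trans d1'), ← d2', mul_left_inj, mul_right_inj] at d2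
    exact z_inj em d2

theorem ex_mu (h4 : 4 ≤ Nat.card F) : ∃ μ : Fˣ, (μ : F) ≠ 1 := by
  classical
  have : 1 < Nat.card Fˣ := by rw [Nat.card_units]; omega
  haveI := Finite.one_lt_card_iff_nontrivial.1 this
  obtain ⟨μ, hμ⟩ := exists_ne (1 : Fˣ)
  exact ⟨μ, fun k => hμ (Units.ext k)⟩

end S6A
open S6A

theorem s6a (h : C2 ι t) (h4 : 4 ≤ Nat.card F) {g : G} {c : F} (hc : c ≠ 0)
    (e : g * t * g⁻¹ = t * ι (xe 0 iL c)) (k : g ∈ 𝐍((RR F 0 iL).map ι)) : ∃ c' y, c' ≠ 0 ∧ D1 ι t c' y := by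
  have hg := (nv h.toC1 e k).2
  obtain ⟨μ, hμ⟩ := ex_mu h4
  obtain ⟨ν, hν, ks⟩ := scalar h.em hg hμ
  set κ := g * ι (hh μ) * g⁻¹ with hκ
  set y := ι (hh ν⁻¹) * κ with hy
  have k1 : ∀ x ∈ QQ F (0 : I) iL, ∃ x' ∈ QQ F (0 : I) iL, y * ι x * y⁻¹ = ι x' ∧
      ∀ l : I, l ≠ 0 → l ≠ iL → x'.1 0 l = x.1 0 l ∧ x'.1 l iL = x.1 l iL := fun x hx => by
    obtain ⟨x', a, b⟩ := ex_k hg μ hx
    refine ⟨_, hh_Q ν⁻¹ a, ?_, fun l l0 lL => ⟨?_, ?_⟩⟩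
    · rw [map_mul, map_mul, map_inv, ← b, hy, hκ]; group
    · have := ks x x' hx a b _ (r_mem l 1)
      rw [Bf_r l0 lL, Bf_r l0 lL, mul_one, mul_one] at this
      rw [hh_r _ _ l0 lL, this, Units.inv_mul_cancel_left]
    · have := ks x x' hx a b _ (l_mem l 1)
      rw [Bf_l l0 lL, Bf_l l0 lL, one_mul, one_mul] at this
      rw [hh_l _ _ l0 lL, this, Units.inv_mul_cancel_left]
  have k2 : ∀ a, y * ι (xe 0 iL a) * y⁻¹ = ι (xe 0 iL a) := fun a => by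
    obtain ⟨l, l0, lL⟩ := ex_third (0 : I) iL
    obtain ⟨x, a1, b1, c1⟩ := k1 _ (l_mem l 1)
    obtain ⟨w, a2, b2, c2⟩ := k1 _ (r_mem l a)
    have e1 : Bf x w = Bf (xe 0 l 1 : X) (xe l iL a) := Finset.sum_congr rfl fun j hj => by
      obtain ⟨j0, jL⟩ := mid.1 hj
      rw [(c1 j j0 jL).1, (c1 j j0 jL).2, (c2 j j0 jL).1, (c2 j j0 jL).2]
    have := form (l_mem l 1) (r_mem l a) a1 a2 b1 b2
    rwa [e1, Bf_r l0 lL, xe_val l0.symm, Matrix.add_apply, one_apply_ne l0.symm, single_apply_same, zero_add,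
      one_mul] at this
  have a1 : κ * (t * ι (xe 0 iL c)) * κ⁻¹ = t * ι (xe 0 iL c) := by
    rw [← e, hκ, conj_mul, ← h.tc, ← conj_mul]; group
  have a2 : y * (t * ι (xe 0 iL c)) * y⁻¹ = t * ι (xe 0 iL ((ν⁻¹ : Fˣ) * (ν⁻¹ : Fˣ) * c)) := by
    rw [show y * (t * ι (xe 0 iL c)) * y⁻¹ = ι (hh ν⁻¹) * (κ * (t * ι (xe 0 iL c)) * κ⁻¹) * (ι (hh ν⁻¹))⁻¹ by
      rw [hy]; group, a1, ← hh_z, map_mul, map_mul, map_inv, ← mul_assoc, ← h.tc]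
    group
  refine ⟨(ν⁻¹ : Fˣ) * (ν⁻¹ : Fˣ) * c + c, y, fun h0 => hν ?_, fun x hx => ?_, fun x hx => ?_, ?_⟩
  · rw [CharTwo.add_eq_zero] at h0
    have h1 := mul_right_cancel₀ hc (h0.trans (one_mul c).symm)
    rw [mul_self_eq_one_iff, CharTwo.neg_eq, or_self, Units.val_inv_eq_inv_val, inv_eq_one] at h1
    exact h1
  · obtain ⟨a, rfl⟩ := mem_RR.1 hx
    exact mul_inv_eq_iff_eq_mul.1 (k2 a)
  · obtain ⟨x', a, b, d⟩ := k1 x hx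
    obtain ⟨a', rfl⟩ := Q_eq hx a d
    exact ⟨a', by rw [b, map_mul]⟩
  · rw [← xe_mul, map_mul, ← mul_assoc, ← a2, ← k2 c, conj_mul, k2 c, mul_assoc t, ← map_mul, xe_sq, map_one,
      mul_one]

end LMS
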