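import Cfsg.Agent.Lib.LMS.S5

set_option autoImplicit false
set_option linter.unusedSimpArgs false
set_option linter.unusedSectionVars false

namespace LMS

open Subgroup H69 Cfsg Matrix U4S
open scoped MatrixGroups commutatorElement

universe u
variable {G : Type*} [Group G] [Finite G] {F : Type u} [Field F] [CharP F 2] [Fintype F] {n : ℕ} [Ok n F]
  {ι ψ χ : XX n F →* G} {t : G} {E : Subgroup G}

local notation "X" => XX n F
local notation "I" => Fin (n + 3)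
local notation "Mx" => Matrix (Fin (n + 3)) (Fin (n + 3)) F

namespace S6C

local notation "zz" => xe (0 : I) iL
local notation "Q0" => QQ F (0 : I) iL

theorem h0L : (0 : I) ≠ iL := by
  intro e; have := congrArg Fin.val e; simp at this

theorem uniq (e : Em ι) {a b : F} (h : ι (zz a) = ι (zz b)) : a = b := by
  have : (zz (a + b) : X) ∈ ι.ker := by
    rw [MonoidHom.mem_ker, ← xe_mul, map_mul, h, ← map_mul, xe_sq, map_one]
  exact CharTwo.add_eq_zero.1 (xe_cen h0L (e this))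

theorem zc {x : X} (hx : x ∈ Q0) (a : F) : x * zz a = zz a * x := PP_cen h0L (QQ_le h0L hx) a

theorem zR (a : F) : (zz a : X) ∈ RR F 0 iL := mem_RR.2 ⟨a, rfl⟩

theorem ev_mul {y y' : G} {x : X} {a b : F} (c : Cn ι (RR F 0 iL) y) (h : y * ι x * y⁻¹ = ι x * ι (zz a))
    (k : y' * ι x * y'⁻¹ = ι x * ι (zz b)) : y * y' * ι x * (y * y')⁻¹ = ι x * ι (zz (a + b)) := by
  calc y * y' * ι x * (y * y')⁻¹ = y * (y' * ι x * y'⁻¹) * y⁻¹ := by group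
    _ = y * ι x * y⁻¹ * (y * ι (zz b)) * y⁻¹ := by rw [k]; group
    _ = _ := by rw [h, c _ (zR b), ← xe_mul, map_mul]; group

theorem ev_cj {y : G} {x p : X} {a κ : F} (hp : ∀ b, p * zz b * p⁻¹ = zz (κ * b))
    (h : y * ι x * y⁻¹ = ι x * ι (zz a)) :
    ι p * y * (ι p)⁻¹ * ι (p * x * p⁻¹) * (ι p * y * (ι p)⁻¹)⁻¹ = ι (p * x * p⁻¹) * ι (zz (κ * a)) := by
  rw [← hp]
  simp only [map_mul, map_inv]
  calc _ = ι p * (y * ι x * y⁻¹) * (ι p)⁻¹ := by group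
    _ = _ := by rw [h]; group

theorem ev_add {y : G} {x x' : X} {a b : F} (hx : x' ∈ Q0) (h : y * ι x * y⁻¹ = ι x * ι (zz a))
    (k : y * ι x' * y⁻¹ = ι x' * ι (zz b)) : y * ι (x * x') * y⁻¹ = ι (x * x') * ι (zz (a + b)) := by
  calc y * ι (x * x') * y⁻¹ = (y * ι x * y⁻¹) * (y * ι x' * y⁻¹) := by rw [map_mul]; group
    _ = ι x * ι (zz a * x') * ι (zz b) := by rw [h, k, map_mul]; group
    _ = _ := by rw [← zc hx, ← xe_mul]; simp only [map_mul, mul_assoc]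

theorem d1_mul {τ τ' : F} {y y' : G} (h : D1 ι t τ y) (k : D1 ι t τ' y') : D1 ι t (τ + τ') (y * y') := by
  refine ⟨fun x hx => by rw [mul_assoc, k.1 x hx, ← mul_assoc, h.1 x hx, mul_assoc], fun x hx => ?_, ?_⟩
  · obtain ⟨a, ha⟩ := h.2.1 x hx
    obtain ⟨b, hb⟩ := k.2.1 x hx
    exact ⟨_, ev_mul h.1 ha hb⟩
  · calc y * y' * t * (y * y')⁻¹ = y * (y' * t * y'⁻¹) * y⁻¹ := by group
      _ = y * t * y⁻¹ * (y * ι (zz τ')) * y⁻¹ := by rw [k.2.2]; group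
      _ = _ := by rw [h.2.2, h.1 _ (zR τ'), ← xe_mul, map_mul]; group

theorem d1_cj (c : ∀ x, t * ι x = ι x * t) {τ κ : F} {y : G} (h : D1 ι t τ y) {p : X} (hn : p ∈ 𝐍(Q0))
    (hκ : κ ≠ 0) (hp : ∀ b, p * zz b * p⁻¹ = zz (κ * b)) : D1 ι t (κ * τ) (ι p * y * (ι p)⁻¹) := by
  refine ⟨fun x hx => ?_, fun x hx => ?_, ?_⟩
  · obtain ⟨a, rfl⟩ := mem_RR.1 hx
    rw [← mul_div_cancel₀ a hκ, ← hp]
    simp only [map_mul, map_inv]
    calc _ = ι p * (y * ι (zz (a / κ))) * (ι p)⁻¹ := by group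
      _ = _ := by rw [h.1 _ (zR _)]; group
  · obtain ⟨a, ha⟩ := h.2.1 _ ((mem_normalizer_iff.1 (inv_mem hn) x).1 hx)
    have := ev_cj hp ha
    rw [show p * (p⁻¹ * x * p⁻¹⁻¹) * p⁻¹ = x by group] at this
    exact ⟨_, this⟩
  · rw [← hp]
    simp only [map_mul, map_inv]
    calc _ = ι p * (y * ((ι p)⁻¹ * (t * ι p)) * y⁻¹) * (ι p)⁻¹ := by group
      _ = ι p * (y * t * y⁻¹) * (ι p)⁻¹ := by rw [c, inv_mul_cancel_left]
      _ = ι p * t * ι (zz τ) * (ι p)⁻¹ := by rw [h.2.2]; group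
      _ = _ := by rw [← c]; group

theorem d1_zero (h : C2 ι t) {y : G} (k : D1 ι t 0 y) : ∃ v ∈ Q0, ∀ x, y * ι x * y⁻¹ = ι (v * x * v⁻¹) := by
  have e := k.2.2
  rw [xe_zero, map_one, mul_one, mul_inv_eq_iff_eq_mul] at e
  obtain ⟨v, hv, u, hk, rfl⟩ := cQb h.em (h.CN y e) k.1 k.2.1
  refine ⟨v, hv, fun x => ?_⟩
  calc u * ι v * ι x * (u * ι v)⁻¹ = u * ι (v * x * v⁻¹) * u⁻¹ := by simp only [map_mul, map_inv]; group
    _ = _ := by rw [← hk _ ⟨_, rfl⟩, mul_inv_cancel_right]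

theorem lin (h : C2 ι t) {τ : F} {y : G} (k : D1 ι t τ y) (r : F → X) (hr : ∀ a, r a ∈ Q0)
    (ra : ∀ a b, r a * r b = r (a + b)) (hl : ∀ v ∈ Q0, ∃ α, ∀ a, v * r a * v⁻¹ = r a * zz (α * a))
    (hp : ∀ a : F, a ≠ 0 → a ^ 3 ≠ 1 → ∃ p ∈ 𝐍(Q0), ∃ μ : F, μ ≠ 1 ∧ (∀ b, p * zz b * p⁻¹ = zz (1 * b)) ∧
      ∀ b, p * r b * p⁻¹ = r (μ * b))
    (hh : ∀ ω : F, ω ≠ 0 → ∃ p ∈ 𝐍(Q0), (∀ b, p * zz b * p⁻¹ = zz (ω ^ 2 * b)) ∧
      ∀ b, p * r b * p⁻¹ = r (ω * b)) :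
    ∃ α, ∀ a, y * ι (r a) * y⁻¹ = ι (r a) * ι (zz (α * a)) := by
  choose η hη using fun a => k.2.1 _ (hr a)
  have add : ∀ a b, η (a + b) = η a + η b := fun a b => by
    have := ev_add (hr b) (hη a) (hη b)
    rw [ra, hη] at this
    exact uniq h.em (mul_left_cancel this)
  have η0 : η 0 = 0 := by simpa using add 0 0
  have zero : ∀ e, D1 ι t 0 e → ∃ α, ∀ a b, e * ι (r a) * e⁻¹ = ι (r a) * ι (zz b) → b = α * a := fun e he => by
    obtain ⟨v, hv, e1⟩ := d1_zero h he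
    obtain ⟨α, e2⟩ := hl v hv
    refine ⟨α, fun a b e3 => ?_⟩
    rw [e1, e2, map_mul] at e3
    exact (uniq h.em (mul_left_cancel e3)).symm
  have h2 : (2 : F) = 0 := CharTwo.two_eq_zero
  suffices H : ∃ α, ∀ a, η a = α * a by
    obtain ⟨α, e⟩ := H
    exact ⟨α, fun a => by rw [hη, e]⟩
  by_cases c1 : ∃ a : F, a ≠ 0 ∧ a ^ 3 ≠ 1
  · obtain ⟨a, a0, a3⟩ := c1
    obtain ⟨p, hn, μ, μ1, e1, e2⟩ := hp a a0 a3
    obtain ⟨α, hα⟩ := zero _ (by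
      have := d1_mul k (d1_cj h.tc k hn one_ne_zero e1)
      rwa [one_mul, CharTwo.add_self_eq_zero] at this)
    have m : μ + 1 ≠ 0 := fun e => μ1 (CharTwo.add_eq_zero.1 e)
    refine ⟨α * μ / (μ + 1), fun b => ?_⟩
    have e3 := ev_cj e1 (hη (b / (μ + 1)))
    rw [e2] at e3
    have e4 := hα _ _ (ev_mul k.1 (hη _) e3)
    rw [one_mul, ← add, show μ * (b / (μ + 1)) + b / (μ + 1) = b by field_simp] at e4
    rw [e4]; field_simp
  push Not at c1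
  by_cases c2 : ∃ ω : F, ω ≠ 0 ∧ ω ≠ 1
  swap
  · push Not at c2
    refine ⟨η 1, fun a => ?_⟩
    by_cases a0 : a = 0
    · rw [a0, η0, mul_zero]
    · rw [c2 a a0, mul_one]
  obtain ⟨ω, ω0, ω1⟩ := c2
  have ω3 := c1 ω ω0
  have hω : ω ^ 2 + ω + 1 = 0 := by
    refine (mul_eq_zero.1 (?_ : (ω - 1) * (ω ^ 2 + ω + 1) = 0)).resolve_left (sub_ne_zero.2 ω1)
    linear_combination ω3
  obtain ⟨p, hn, e1, e2⟩ := hh ω ω0
  obtain ⟨p', hn', e1', e2'⟩ := hh (ω ^ 2) (pow_ne_zero _ ω0)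
  have k1 := d1_cj h.tc k hn (pow_ne_zero _ ω0) e1
  obtain ⟨α, hα⟩ := zero _ (by
    have := d1_mul k (d1_mul k1 (d1_cj h.tc k hn' (pow_ne_zero _ (pow_ne_zero _ ω0)) e1'))
    rwa [show τ + (ω ^ 2 * τ + (ω ^ 2) ^ 2 * τ) = 0 by
      linear_combination τ * (ω ^ 2 - ω + 1) * hω] at this)
  have key : ∀ a, η a + (ω ^ 2 * η (ω ^ 2 * a) + (ω ^ 2) ^ 2 * η (ω * a)) = α * a := fun a => by
    have e3 := ev_cj e1 (hη (ω ^ 2 * a))
    have e4 := ev_cj e1' (hη (ω * a))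
    rw [e2, show ω * (ω ^ 2 * a) = a by linear_combination a * ω3] at e3
    rw [e2', show ω ^ 2 * (ω * a) = a by linear_combination a * ω3] at e4
    exact hα _ _ (ev_mul k.1 (hη a) (ev_mul k1.1 e3 e4))
  have s2 : η (ω ^ 2) = η 1 + η ω := by
    rw [← add, show 1 + ω = ω ^ 2 by linear_combination hω - ω ^ 2 * h2]
  have E1 := key 1
  have E2 := key ω
  rw [mul_one, mul_one, mul_one, s2] at E1
  rw [show ω ^ 2 * ω = 1 by linear_combination ω3, ← sq, s2] at E2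
  have s1 : η ω = ω * η 1 := by
    linear_combination E2 - ω * E1 + (ω ^ 3 * η ω - ω ^ 2 * η 1) * hω + (-ω ^ 4 * η ω + ω ^ 3 * η 1) * h2
  refine ⟨η 1, fun a => ?_⟩
  by_cases a0 : a = 0
  · rw [a0, η0, mul_zero]
  have : (a - 1) * ((a - ω) * (a - ω ^ 2)) = 0 := by
    linear_combination c1 a a0 + (a - 1) * ω3 - (a - 1) * a * hω
  rcases mul_eq_zero.1 this with e | e
  · rw [sub_eq_zero.1 e, mul_one]
  rcases mul_eq_zero.1 e with e | e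
  · rw [sub_eq_zero.1 e, s1, mul_comm]
  · rw [sub_eq_zero.1 e, s2, s1]
    linear_combination η 1 * hω - η 1 * ω ^ 2 * h2

theorem row_mem (l : I) (a : F) : (xe 0 l a : X) ∈ Q0 := subset_closure ⟨l, a, Or.inl rfl⟩
theorem col_mem (l : I) (a : F) : (xe l iL a : X) ∈ Q0 := subset_closure ⟨l, a, Or.inr rfl⟩

theorem bf_row {v : X} (hv : v ∈ Q0) {l : I} (h0 : l ≠ 0) (hL : l ≠ iL) (a : F) :
    v * xe 0 l a * v⁻¹ = xe 0 l a * zz (v.1 l iL * a) := by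
  rw [comm_QQ h0L hv (row_mem l a), mul_assoc, mul_assoc, ← zc (inv_mem hv), mul_inv_cancel_left]
  congr 2
  rw [Finset.sum_eq_single l]
  · simp [xe_val h0.symm, one_apply, single_apply, h0.symm, hL, hL.symm, mul_comm]
  · intro b hb e
    simp only [Finset.mem_erase] at hb
    simp [xe_val h0.symm, one_apply, single_apply, hb.1, hb.2.1.symm, e.symm]
  · intro e; simp [h0, hL] at e

theorem bf_col {v : X} (hv : v ∈ Q0) {l : I} (h0 : l ≠ 0) (hL : l ≠ iL) (a : F) :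
    v * xe l iL a * v⁻¹ = xe l iL a * zz (v.1 0 l * a) := by
  rw [comm_QQ h0L hv (col_mem l a), mul_assoc, mul_assoc, ← zc (inv_mem hv), mul_inv_cancel_left]
  congr 2
  rw [Finset.sum_eq_single l]
  · simp [xe_val hL, one_apply, single_apply, h0.symm, hL, hL.symm, h0]
  · intro b hb e
    simp only [Finset.mem_erase] at hb
    simp [xe_val hL, one_apply, single_apply, hb.1, hb.2.1.symm, e.symm, h0]
  · intro e; simp [h0, hL] at e

theorem dg_n (d : I → F) (h : ∏ a, d a = 1) : H63.St.SL.dg d h ∈ 𝐍(Q0) := by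
  refine mem_normalizer_of_cj_le (map_le_iff_le_comap.2 ((closure_le _).2 ?_))
  rintro _ ⟨l, c, rfl | rfl⟩
  · change H63.St.SL.dg d h * xe 0 l c * (H63.St.SL.dg d h)⁻¹ ∈ Q0
    by_cases e : 0 = l
    · rw [← e, xe_self]; simp
    · rw [H63.St.SL.dg_conj h e]; exact row_mem _ _
  · change H63.St.SL.dg d h * xe l iL c * (H63.St.SL.dg d h)⁻¹ ∈ Q0
    by_cases e : l = iL
    · rw [e, xe_self]; simp
    · rw [H63.St.SL.dg_conj h e]; exact col_mem _ _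

theorem ex_p {l : I} (h0 : l ≠ 0) (hL : l ≠ iL) {a : F} (ha : a ≠ 0) : ∃ p ∈ 𝐍(Q0),
    (∀ b, p * zz b * p⁻¹ = zz (1 * b)) ∧ (∀ b, p * xe 0 l b * p⁻¹ = xe 0 l (a ^ 3 * b)) ∧
    ∀ b, p * xe l iL b * p⁻¹ = xe l iL ((a ^ 3)⁻¹ * b) := by
  have hd : ∏ i, H63.St.SL.d2 0 l a i * H63.St.SL.d2 iL l a i = 1 := by
    rw [Finset.prod_mul_distrib, H63.St.SL.prod_d2 h0.symm ha, H63.St.SL.prod_d2 hL.symm ha, mul_one]
  refine ⟨_, dg_n _ hd, fun b => ?_, fun b => ?_, fun b => ?_⟩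
  · rw [H63.St.SL.dg_conj hd h0L]
    simp [H63.St.SL.d2, h0L, h0L.symm, h0.symm, hL.symm, ha]
  · rw [H63.St.SL.dg_conj hd h0.symm]
    congr 1
    simp [H63.St.SL.d2, h0L, h0, hL, h0.symm]
    left; ring
  · rw [H63.St.SL.dg_conj hd hL]
    congr 1
    simp [H63.St.SL.d2, h0L.symm, h0, hL, hL.symm]
    left; ring

theorem ex_h {l : I} (h0 : l ≠ 0) (hL : l ≠ iL) {a : F} (ha : a ≠ 0) : ∃ p ∈ 𝐍(Q0),
    (∀ b, p * zz b * p⁻¹ = zz (a ^ 2 * b)) ∧ (∀ b, p * xe 0 l b * p⁻¹ = xe 0 l (a * b)) ∧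
    ∀ b, p * xe l iL b * p⁻¹ = xe l iL (a * b) := by
  have hd := H63.St.SL.prod_d2 (h0L (n := n)) ha
  refine ⟨_, dg_n _ hd, fun b => ?_, fun b => ?_, fun b => ?_⟩
  · rw [H63.St.SL.dg_conj hd h0L]
    simp [H63.St.SL.d2, h0L.symm, sq]
  · rw [H63.St.SL.dg_conj hd h0.symm]
    simp [H63.St.SL.d2, h0, hL]
  · rw [H63.St.SL.dg_conj hd hL]
    simp [H63.St.SL.d2, h0L.symm, h0, hL]

theorem ex_v (α β : I → F) : ∃ v ∈ Q0, ∀ l, l ≠ 0 → l ≠ iL → v.1 l iL = α l ∧ v.1 0 l = β l := by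
  let M : Mx := of fun i j => if i = j then 1 else if i = 0 then β j else if j = iL then α i else 0
  have hM : M.BlockTriangular id := fun i j hij => by
    have hij : j < i := hij
    have h1 : i ≠ 0 := (lt_of_le_of_lt (Fin.zero_le _) hij).ne'
    have h2 : j ≠ iL := (lt_of_lt_of_le hij (Fin.le_last _)).ne
    simp [M, hij.ne', h1, h2]
  refine ⟨⟨M, by rw [det_of_upperTriangular hM]; simp [M]⟩, (mem_QQ' h0L).2 fun a b hab => ?_,
    fun l h0 hL => by simp [M, h0, hL, h0.symm]⟩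
  rcases hab with ⟨h1, h2⟩ | rfl
  · simp [M, h1, h2, one_apply]
  · simp [M]

end S6C

open S6C in
theorem s6c (h : C2 ι t) {c : F} (hc : c ≠ 0) {y : G} (k : D1 ι t c y) : ∃ d, D0 ι t 0 iL c d := by
  have r1 : ∀ l : I, ∃ α : F, l ≠ 0 → l ≠ iL → ∀ a,
      y * ι (xe 0 l a) * y⁻¹ = ι (xe 0 l a) * ι (xe 0 iL (α * a)) := fun l => by
    by_cases e : l ≠ 0 ∧ l ≠ iL
    · obtain ⟨α, hα⟩ := lin h k (xe 0 l) (row_mem l) (xe_mul _ _) (fun v hv => ⟨_, bf_row hv e.1 e.2⟩)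
        (fun a a0 a3 => by
          obtain ⟨p, hp, e1, e2, -⟩ := ex_p e.1 e.2 a0
          exact ⟨p, hp, _, a3, e1, e2⟩) fun a a0 => by
          obtain ⟨p, hp, e1, e2, -⟩ := ex_h e.1 e.2 a0
          exact ⟨p, hp, e1, e2⟩
      exact ⟨α, fun _ _ => hα⟩
    · exact ⟨0, fun h1 h2 => absurd ⟨h1, h2⟩ e⟩
  have r2 : ∀ l : I, ∃ α : F, l ≠ 0 → l ≠ iL → ∀ a,
      y * ι (xe l iL a) * y⁻¹ = ι (xe l iL a) * ι (xe 0 iL (α * a)) := fun l => by
    by_cases e : l ≠ 0 ∧ l ≠ iL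
    · obtain ⟨α, hα⟩ := lin h k (xe l iL) (col_mem l) (xe_mul _ _) (fun v hv => ⟨_, bf_col hv e.1 e.2⟩)
        (fun a a0 a3 => by
          obtain ⟨p, hp, e1, -, e2⟩ := ex_p e.1 e.2 a0
          exact ⟨p, hp, _, fun e => a3 (inv_eq_one.1 e), e1, e2⟩) fun a a0 => by
          obtain ⟨p, hp, e1, -, e2⟩ := ex_h e.1 e.2 a0
          exact ⟨p, hp, e1, e2⟩
      exact ⟨α, fun _ _ => hα⟩
    · exact ⟨0, fun h1 h2 => absurd ⟨h1, h2⟩ e⟩
  choose α hα using r1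
  choose β hβ using r2
  obtain ⟨v, hv, e⟩ := ex_v α β
  have key : ∀ x : X, y * ι x * y⁻¹ = ι (v * x * v⁻¹) →
      x ∈ (centralizer {(ι v)⁻¹ * y}).comap ι := fun x hx => by
    rw [mem_comap, mem_centralizer_singleton_iff]
    calc ι x * ((ι v)⁻¹ * y) = (ι v)⁻¹ * ι (v * x * v⁻¹) * y := by simp only [map_mul, map_inv]; group
      _ = _ := by rw [← hx]; group
  have kz : ∀ a : F, (xe 0 iL a : X) ∈ (centralizer {(ι v)⁻¹ * y}).comap ι := fun a =>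
    key _ (by rw [k.1 _ (zR a), zc hv, mul_inv_cancel_right, mul_inv_cancel_right])
  have le : QQ F 0 iL ≤ (centralizer {(ι v)⁻¹ * y}).comap ι := (closure_le _).2 (by
    rintro _ ⟨l, a, rfl | rfl⟩
    · by_cases h0 : l = 0
      · rw [h0, xe_self]; exact one_mem _
      by_cases hL : l = iL
      · rw [hL]; exact kz a
      exact key _ (by rw [hα l h0 hL, bf_row hv h0 hL, (e l h0 hL).1, map_mul])
    · by_cases h0 : l = 0
      · rw [h0]; exact kz a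
      by_cases hL : l = iL
      · rw [hL, xe_self]; exact one_mem _
      exact key _ (by rw [hβ l h0 hL, bf_col hv h0 hL, (e l h0 hL).2, map_mul]))
  refine ⟨(ι v)⁻¹ * y, fun x hx => (mem_centralizer_singleton_iff.1 (mem_comap.1 (le hx))).symm, ?_⟩
  calc (ι v)⁻¹ * y * t * ((ι v)⁻¹ * y)⁻¹ = (ι v)⁻¹ * (y * t * y⁻¹) * ι v := by group
    _ = (ι v)⁻¹ * t * ι (xe 0 iL c * v) := by rw [k.2.2, map_mul]; group
    _ = (ι v)⁻¹ * (t * ι v) * ι (xe 0 iL c) := by rw [← zc hv, map_mul]; group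
    _ = _ := by rw [h.tc]; group

end LMS
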