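import Cfsg.Agent.Lib.LMS.S5
import Cfsg.Agent.Lib.LMS.S6C

set_option autoImplicit false
set_option linter.unusedSimpArgs false
set_option linter.unusedSectionVars false

namespace LMS

open Subgroup H69 Cfsg Matrix U4S
open scoped MatrixGroups commutatorElement

universe u
variable {G : Type*} [Group G] [Finite G] {F : Type u} [Field F] [CharP F 2] [Fintype F] {n : ℕ} [Ok n F]
  {ι ψ χ : XX n F →* G} {t : G} {E : Subgroup G}

local notation "X" => XX n F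
local notation "I" => Fin (n + 3)
local notation "Mx" => Matrix (Fin (n + 3)) (Fin (n + 3)) F

namespace S6B

open S6C

local notation "zz" => xe (0 : I) iL
local notation "Q0" => QQ F (0 : I) iL
local notation "P0" => PP F (0 : I) iL
local notation "Z0" => RR F (0 : I) iL
local notation "A0" => AA F (0 : I)
local notation "B0" => BB F (iL : I)
local notation "e0" => (Pi.single (0 : I) (1 : F) : I → F)

theorem AQ : A0 ≤ Q0 := fun x hx => (mem_QQ h0L).2 ⟨x, hx, 1, one_mem _, (mul_one x).symm⟩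
theorem BQ : B0 ≤ Q0 := fun x hx => (mem_QQ h0L).2 ⟨1, one_mem _, x, hx, (one_mul x).symm⟩
theorem rowA (l : I) (a : F) : (xe 0 l a : X) ∈ A0 := subset_closure ⟨l, a, rfl⟩
theorem colB (l : I) (a : F) : (xe l iL a : X) ∈ B0 := subset_closure ⟨l, a, rfl⟩
theorem p2Q {x : X} (h : x ∈ Q0) : P2 x := by
  obtain ⟨k, e⟩ := isP_QQ h0L ⟨x, h⟩
  exact ⟨k, congrArg Subtype.val e⟩
theorem xe_ne {i j : I} (h : i ≠ j) : (xe i j (1 : F) : X) ≠ 1 := fun e =>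
  one_ne_zero (xe_cen h (e ▸ one_mem _ : (xe i j (1 : F) : X) ∈ center _))
theorem ncm {i j l : I} (h1 : i ≠ j) (h2 : j ≠ l) (h3 : i ≠ l) :
    (xe i j (1 : F) : X) * xe j l 1 ≠ xe j l 1 * xe i j 1 := fun e => by
  have := xe_c1 (F := F) h1 h2 h3 1 1
  rw [e, mul_assoc (xe j l 1), xe_sq, mul_one, xe_sq, mul_one] at this
  exact xe_ne h3 this.symm

theorem A_val {x : X} (h : x ∈ A0) : (x.1 - 1) 0 0 = 0 ∧ x.1 = 1 + vecMulVec e0 ((x.1 - 1) 0) := by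
  refine ⟨by simp [(mem_QQ' h0L).1 (AQ h) 0 0 (Or.inr rfl)], ?_⟩
  ext a b
  by_cases e : a = 0
  · simp [e, vecMulVec_apply]
  · simp [e, vecMulVec_apply, mem_AA.1 h a b e]

theorem A_of {x : X} {v : I → F} (h : x.1 = 1 + vecMulVec e0 v) : x ∈ A0 ∧ (x.1 - 1) 0 = v :=
  ⟨mem_AA.2 fun a b e => by simp [h, e, vecMulVec_apply], by ext j; simp [h, vecMulVec_apply]⟩

theorem A_ex {v : I → F} (h : v 0 = 0) : ∃ x : X, x.1 = 1 + vecMulVec e0 v :=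
  ⟨⟨1 + vecMulVec e0 v, by
    rw [vecMulVec_eq Unit, det_one_add_replicateCol_mul_replicateRow]; simp [h]⟩, rfl⟩

theorem A_mul {x y : X} (hx : x ∈ A0) (hy : y ∈ A0) : ((x * y).1 - 1) 0 = (x.1 - 1) 0 + (y.1 - 1) 0 := by
  refine (A_of ?_).2
  obtain ⟨a, b⟩ := A_val hx
  rw [Matrix.SpecialLinearGroup.coe_mul, vecMulVec_add]
  conv_lhs => rw [b, (A_val hy).2]
  rw [add_mul, mul_add, mul_add, vecMulVec_mul_vecMulVec, dotProduct_single, a]
  simp only [one_mul, mul_one, zero_mul, zero_smul, vecMulVec_zero, add_zero]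
  abel

theorem A_xe {l : I} (h : l ≠ 0) (c : F) : ((xe 0 l c : X).1 - 1) 0 = Pi.single l c := by
  ext j
  simp [xe_val h.symm, single_apply, Pi.single_apply, eq_comm]

theorem A_cj {C x y : X} (hC : C.1 *ᵥ e0 = e0) (hx : x ∈ A0) (hy : y ∈ A0)
    (e : (y.1 - 1) 0 = (x.1 - 1) 0 ᵥ* C.1) : x * C = C * y := by
  refine Subtype.ext ?_
  rw [Matrix.SpecialLinearGroup.coe_mul, Matrix.SpecialLinearGroup.coe_mul]
  conv_lhs => rw [(A_val hx).2]
  conv_rhs => rw [(A_val hy).2]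
  rw [add_mul, mul_add, one_mul, mul_one, vecMulVec_mul, mul_vecMulVec, hC, e]

theorem nA {C : X} (hC : C.1 *ᵥ e0 = e0) : C ∈ 𝐍(A0) := by
  refine inv_mem_iff.1 (mem_normalizer_of_cj_le fun u hu => ?_)
  obtain ⟨x, hx, rfl⟩ := mem_cj'.1 hu
  obtain ⟨y, hy⟩ := A_ex (v := (x.1 - 1) 0 ᵥ* C.1) (by
    have : ((x.1 - 1) 0 ᵥ* C.1) ⬝ᵥ e0 = 0 := by
      rw [← dotProduct_mulVec, hC, dotProduct_single, (A_val hx).1, zero_mul]
    simpa using this)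
  rw [inv_inv, mul_assoc, A_cj hC hx (A_of hy).1 (A_of hy).2, inv_mul_cancel_left]
  exact (A_of hy).1

theorem xe_e0 {j l : I} (hl : l ≠ 0) (h : j ≠ l) : (xe j l (1 : F) : X).1 *ᵥ e0 = e0 := by
  rw [xe_val h, add_mulVec, one_mulVec, single_mulVec_eq]; simp [hl]

theorem pA {a : X} (ha : a ∈ A0) {j l : I} (hj : j ≠ 0) (hl : l ≠ 0) (h : j ≠ l) :
    xe j l 1 * a * xe j l 1 = a * xe 0 l (a.1 0 j) := by
  rw [mul_assoc, A_cj (xe_e0 hl h) ha (mul_mem ha (rowA l (a.1 0 j))), ← mul_assoc, xe_sq, one_mul]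
  rw [A_mul ha (rowA _ _), A_xe hl, xe_val h, vecMul_add, vecMul_one]
  congr 1
  ext k
  simp [vecMul, dotProduct, single_apply, Pi.single_apply, ite_and, one_apply, hj, eq_comm]

theorem r0 : (0 : I).rev = iL := Fin.rev_zero _
theorem rL : (iL : I).rev = 0 := Fin.rev_last _
theorem rne0 {l : I} (h : l ≠ iL) : l.rev ≠ 0 := fun e => h (by rw [← r0, ← e, Fin.rev_rev])
theorem rneL {l : I} (h : l ≠ 0) : l.rev ≠ iL := fun e => h (by rw [← rL, ← e, Fin.rev_rev])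

theorem twA {x : X} (h : x ∈ A0) : tw x ∈ B0 :=
  (show A0 ≤ (B0).comap tw from (closure_le _).2 (by
    rintro _ ⟨l, c, rfl⟩; exact mem_comap.2 (by rw [tw_xe, r0]; exact colB _ _))) h
theorem twB {x : X} (h : x ∈ B0) : tw x ∈ A0 :=
  (show B0 ≤ (A0).comap tw from (closure_le _).2 (by
    rintro _ ⟨l, c, rfl⟩; exact mem_comap.2 (by rw [tw_xe, rL]; exact rowA _ _))) h
theorem twQ {x : X} (h : x ∈ Q0) : tw x ∈ Q0 := by
  obtain ⟨a, ha, b, hb, rfl⟩ := (mem_QQ h0L).1 h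
  rw [map_mul]; exact mul_mem (BQ (twA ha)) (AQ (twB hb))
theorem twP {x : X} (h : x ∈ P0) : tw x ∈ P0 :=
  (show P0 ≤ (P0).comap tw from (closure_le _).2 (by
    rintro _ ⟨a, b, c, h1, h2, rfl⟩
    exact mem_comap.2 (by rw [tw_xe]; exact subset_closure ⟨_, _, _, rneL h2, rne0 h1, rfl⟩))) h

theorem twN {p : X} (h : tw p ∈ 𝐍(A0)) : p ∈ 𝐍(B0) := by
  refine mem_normalizer_of_cj_le fun u hu => ?_
  obtain ⟨x, hx, rfl⟩ := mem_cj'.1 hu
  have := twA ((mem_normalizer_iff.1 h _).1 (twB hx))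
  simpa only [map_mul, map_inv, tw_tw] using this

theorem PA : P0 ≤ 𝐍(A0) := fun p hp => nA (by
  ext a
  simp [((mem_PP h0L).1 hp).1 a, one_apply, Pi.single_apply])

theorem PB : P0 ≤ 𝐍(B0) := fun _ hp => twN (PA (twP hp))

theorem pB {b : X} (hb : b ∈ B0) {j l : I} (hj : j ≠ iL) (hl : l ≠ iL) (h : j ≠ l) :
    ∃ μ : F, xe j l 1 * b * xe j l 1 = b * xe j iL μ := by
  have := congrArg tw (pA (twB hb) (rne0 hl) (rne0 hj) fun e => h (Fin.rev_inj.1 e).symm)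
  simp only [map_mul, tw_tw, tw_xe, Fin.rev_rev, r0] at this
  exact ⟨_, this⟩

theorem extB {b b' : X} (hb : b ∈ B0) (hb' : b' ∈ B0) (h : ∀ l, l ≠ 0 → l ≠ iL → b'.1 l iL = b.1 l iL) :
    ∃ c, b' = b * zz c := by
  refine ⟨b'.1 0 iL - b.1 0 iL, Subtype.ext ?_⟩
  rw [Matrix.SpecialLinearGroup.coe_mul, xe_val h0L, mul_add, mul_one]
  ext i j
  by_cases e : j = iL
  · subst e
    rw [Matrix.add_apply, mul_single_apply_same, mem_BB.1 hb i 0 h0L]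
    by_cases h0 : i = 0
    · subst h0; simp
    by_cases hL : i = iL
    · rw [hL, (mem_QQ' h0L).1 (BQ hb) _ _ (Or.inr rfl), (mem_QQ' h0L).1 (BQ hb') _ _ (Or.inr rfl)]
      simp [one_apply, h0L.symm]
    · simp [h i h0 hL, one_apply, h0]
  · rw [Matrix.add_apply, mul_single_apply_of_ne _ _ _ _ _ e, add_zero, mem_BB.1 hb _ _ e, mem_BB.1 hb' _ _ e]

theorem ex5 (hn : 2 ≤ n) (a b c d : I) : ∃ l : I, l ≠ a ∧ l ≠ b ∧ l ≠ c ∧ l ≠ d := by
  obtain ⟨l, -, hl⟩ := Finset.exists_mem_notMem_of_card_lt_card (s := {a, b, c, d}) (t := Finset.univ)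
    (lt_of_le_of_lt Finset.card_le_four (by simp; omega))
  exact ⟨l, by simpa using hl⟩

theorem ab1 (two : ∀ c : F, c = 0 ∨ c = 1) (hn : 2 ≤ n) {N : Subgroup X} (h1 : N ≤ Q0) (hz : zz 1 ∈ N)
    (inv : ∀ j l : I, j ≠ 0 → j ≠ iL → l ≠ 0 → l ≠ iL → j ≠ l → ∀ w ∈ N, xe j l 1 * w * xe j l 1 ∈ N) :
    A0 ≤ N ∨ N ≤ B0 := by
  by_cases hB : N ≤ B0
  · exact Or.inr hB
  left
  obtain ⟨w, hw, wB⟩ := SetLike.not_le_iff_exists.1 hB
  obtain ⟨a, ha, b, hb, rfl⟩ := (mem_QQ h0L).1 (h1 hw)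
  obtain ⟨j, j0, jL, e⟩ : ∃ j, j ≠ 0 ∧ j ≠ iL ∧ a.1 0 j = 1 := by
    by_contra hc
    push Not at hc
    refine wB (mul_mem (mem_BB.2 fun i j hj => ?_) hb)
    by_cases e : i = 0
    · by_cases e' : j = 0
      · exact (mem_QQ' h0L).1 (AQ ha) _ _ (Or.inr (e.trans e'.symm))
      · rw [e, (two _).resolve_right (hc j e' hj), one_apply_ne (Ne.symm e')]
    · exact mem_AA.1 ha _ _ e
  obtain ⟨l, l0, lL, lj, -⟩ := ex5 hn 0 iL j j
  obtain ⟨m, m0, mL, mj, ml⟩ := ex5 hn 0 iL j l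
  obtain ⟨μ, hμ⟩ := pB hb jL lL lj.symm
  obtain ⟨κ, hκ⟩ : ∃ κ : F, b⁻¹ * xe 0 l 1 * b⁻¹⁻¹ = xe 0 l 1 * zz κ := ⟨_, bf_row (inv_mem (BQ hb)) l0 lL 1⟩
  have u1 : xe 0 l 1 * (zz κ * xe j iL μ) ∈ N := by
    have := mul_mem (inv_mem hw) (inv j l j0 jL l0 lL lj.symm _ hw)
    rwa [show (xe j l 1 : X) * (a * b) * xe j l 1 = (xe j l 1 * a * xe j l 1) * (xe j l 1 * b * xe j l 1) by
      simp only [mul_assoc]; rw [← mul_assoc (xe j l 1) (xe j l 1), xe_sq, one_mul], pA ha j0 l0 lj.symm, hμ, e,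
      show (a * b)⁻¹ * (a * xe 0 l 1 * (b * xe j iL μ)) = b⁻¹ * xe 0 l 1 * b⁻¹⁻¹ * xe j iL μ by group, hκ,
      mul_assoc] at this
  have u2 : (xe 0 m 1 : X) ∈ N := by
    have := mul_mem (inv l m l0 lL m0 mL ml.symm _ u1) (inv_mem u1)
    have c : (zz κ * xe j iL μ : X) * xe l m 1 = xe l m 1 * (zz κ * xe j iL μ) := by
      rw [mul_assoc, ← xe_c0 lL mj, ← mul_assoc, ← xe_c0 lL m0, mul_assoc]
    have c' := xe_c1 (F := F) l0.symm ml.symm m0.symm 1 1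
    rw [mul_assoc (xe l m 1), mul_assoc (xe 0 l 1), c, show (xe l m 1 : X) * (xe 0 l 1 * (xe l m 1 *
      (zz κ * xe j iL μ))) * (xe 0 l 1 * (zz κ * xe j iL μ))⁻¹ = (xe 0 l 1)⁻¹ * (xe 0 l 1 * xe l m 1 *
      xe 0 l 1 * xe l m 1) * (xe 0 l 1)⁻¹ by group, c', xe_inv, mul_one, xe_c0 m0.symm l0, mul_assoc, xe_sq,
      mul_one] at this
    exact this
  refine (closure_le _).2 ?_
  rintro _ ⟨k, c, rfl⟩
  rcases two c with rfl | rfl
  · rw [xe_zero]; exact one_mem _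
  by_cases k0 : k = 0
  · rw [k0, xe_self]; exact one_mem _
  by_cases kL : k = iL
  · rw [kL]; exact hz
  by_cases km : k = m
  · rw [km]; exact u2
  have := mul_mem u2 (inv m k m0 mL k0 kL (Ne.symm km) _ u2)
  rwa [← mul_assoc, ← mul_assoc, xe_c1 m0.symm (Ne.symm km) (Ne.symm k0), mul_one] at this

theorem ab (two : ∀ c : F, c = 0 ∨ c = 1) (hn : 2 ≤ n) {N : Subgroup X} (h1 : N ≤ Q0) (hz : zz 1 ∈ N)
    (inv : ∀ j l : I, j ≠ 0 → j ≠ iL → l ≠ 0 → l ≠ iL → j ≠ l → ∀ w ∈ N, xe j l 1 * w * xe j l 1 ∈ N)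
    (cm : ∀ x ∈ N, ∀ y ∈ N, x * y = y * x) (hZ : ¬ N ≤ Z0) : N = A0 ∨ N = B0 := by
  have k : B0 ≤ N ∨ N ≤ A0 := by
    refine (ab1 two hn (N := N.comap tw) (fun x hx => by simpa only [tw_tw] using twQ (h1 hx))
      (mem_comap.2 (by rwa [tw_xe, r0, rL])) fun j l j0 jL l0 lL h w hw => mem_comap.2 ?_).imp
      (fun h x hx => ?_) fun h x hx => ?_
    · rw [map_mul, map_mul, tw_xe]
      exact inv _ _ (rne0 lL) (rneL l0) (rne0 jL) (rneL j0) (fun e => h (Fin.rev_inj.1 e).symm) _ hw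
    · simpa only [mem_comap, tw_tw] using h (twB hx)
    · simpa only [tw_tw] using twB (h (mem_comap.2 (by rwa [tw_tw] : tw (tw x) ∈ N)))
  obtain ⟨l, l0, lL⟩ := ex_third (0 : I) iL
  rcases ab1 two hn h1 hz inv with a | a <;> rcases k with b | b
  · exact absurd (cm _ (a (rowA l 1)) _ (b (colB l 1))) (ncm l0.symm lL h0L)
  · exact Or.inl (le_antisymm b a)
  · exact Or.inr (le_antisymm a b)
  · refine absurd (fun w hw => ?_) hZ
    obtain ⟨c, e⟩ := extB (one_mem _) (a hw) fun l h0 _ => mem_AA.1 (b hw) _ _ h0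
    rw [e, one_mul]; exact zR c

theorem pb (e : Em ι) (two : ∀ c : F, c = 0 ∨ c = 1) (hn : 2 ≤ n) {g : G} (g1 : g ∈ 𝐍((P0).map ι))
    (g2 : g ∈ 𝐍((Q0).map ι)) (gz : g * ι (zz 1) * g⁻¹ = ι (zz 1)) {W : Subgroup X} (h1 : W ≤ Q0)
    (hz : zz 1 ∈ W) (hP : P0 ≤ 𝐍(W)) (el : El W) (hZ : ¬ W ≤ Z0) :
    W.map ι ^ᶜ g = (A0).map ι ∨ W.map ι ^ᶜ g = (B0).map ι := by
  have le : W.map ι ^ᶜ g ≤ (Q0).map ι := cj_le_of_mem_normalizer (map_mono h1) g2
  have eq : (Q0 ⊓ (W.map ι ^ᶜ g).comap ι).map ι = W.map ι ^ᶜ g := by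
    refine le_antisymm (map_le_iff_le_comap.2 inf_le_right) fun u hu => ?_
    obtain ⟨q, hq, rfl⟩ := le hu
    exact ⟨q, ⟨hq, hu⟩, rfl⟩
  rw [← eq]
  refine (ab two hn inf_le_left ⟨row_mem _ _, mem_comap.2 (gz ▸ cj_mem g (mem_map_of_mem ι hz))⟩
    (fun j l j0 jL l0 lL h w hw => ?_) (fun x hx y hy => ?_) fun hc => hZ fun w hw => ?_).imp
    (congrArg _) (congrArg _)
  · have hp : (xe j l 1 : X) ∈ P0 := subset_closure ⟨_, _, _, jL, l0, rfl⟩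
    have : ι (xe j l 1) ∈ 𝐍((W.map ι ^ᶜ g : Subgroup G)) := by
      rw [← cj_normalizer]
      refine cj_mono g ((map_mono hP).trans (le_normalizer_map _)) ?_
      rw [cj_eq_of_mem_normalizer g1]
      exact mem_map_of_mem ι hp
    nth_rewrite 2 [← xe_inv j l 1]
    exact ⟨(mem_normalizer_iff.1 (PP_nQ h0L hp) _).1 hw.1, mem_comap.2 (by
      rw [map_mul, map_mul, map_inv]; exact (mem_normalizer_iff.1 this _).1 hw.2)⟩
  · refine e.comm2 (p2Q hx.1) ?_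
    obtain ⟨_, ⟨a, ha, rfl⟩, e1⟩ := mem_cj'.1 (mem_comap.1 hx.2)
    obtain ⟨_, ⟨b, hb, rfl⟩, e2⟩ := mem_cj'.1 (mem_comap.1 hy.2)
    have c : a * b = b * a := by
      rw [← inv_eq_of_mul_eq_one_right (el _ (mul_mem ha hb)), _root_.mul_inv_rev,
        inv_eq_of_mul_eq_one_right (el _ ha), inv_eq_of_mul_eq_one_right (el _ hb)]
    rw [e1, e2]
    calc _ = g * ι (a * b) * g⁻¹ := by rw [map_mul]; group
      _ = _ := by rw [c, map_mul]; group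
  · have hu := cj_mem g (mem_map_of_mem ι hw)
    obtain ⟨q, hq, e1⟩ := le hu
    obtain ⟨c, rfl⟩ := mem_RR.1 (hc ⟨hq, mem_comap.2 (e1 ▸ hu)⟩)
    have : ι w = ι (zz c) := by
      rcases two c with rfl | rfl
      · rw [xe_zero, map_one] at e1 ⊢
        simpa using e1.symm
      · rw [← gz] at e1
        simpa using e1.symm
    rw [e.inj2 (p2Q (h1 hw)) (p2Q hq) this]; exact zR c

theorem gl (e : Em ι) (two : ∀ c : F, c = 0 ∨ c = 1) {a : G} (ha : a ∈ 𝐍((A0).map ι)) :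
    ∃ b ∈ 𝐍(A0), ∀ x ∈ A0, a * ι x * a⁻¹ = ι (b * x * b⁻¹) := by
  have : ∀ x ∈ A0, ∃ y ∈ A0, ι y = a * ι x * a⁻¹ := fun x hx =>
    (mem_normalizer_iff.1 ha _).1 (mem_map_of_mem ι hx)
  choose! α h1 h2 using this
  have am : ∀ x ∈ A0, ∀ y ∈ A0, α (x * y) = α x * α y := fun x hx y hy =>
    e.inj2 (p2Q (AQ (h1 _ (mul_mem hx hy)))) (p2Q (AQ (mul_mem (h1 _ hx) (h1 _ hy)))) (by
      rw [h2 _ (mul_mem hx hy), map_mul, map_mul, h2 _ hx, h2 _ hy]; group)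
  have a1 : α 1 = 1 := by simpa using am 1 (one_mem _) 1 (one_mem _)
  let C : Mx := of fun i => if i = 0 then e0 else ((α (xe 0 i 1)).1 - 1) 0
  have key : ∀ x ∈ A0, ((α x).1 - 1) 0 = (x.1 - 1) 0 ᵥ* C := fun x hx => by
    have o : ((α 1).1 - 1) 0 = ((1 : X).1 - 1) 0 ᵥ* C := by
      rw [a1]; ext j; simp [vecMul, dotProduct]
    induction hx using closure_induction with
    | mem x hx =>
      obtain ⟨l, c, rfl⟩ := hx
      by_cases l0 : l = 0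
      · rwa [l0, xe_self]
      rcases two c with rfl | rfl
      · rwa [xe_zero]
      · rw [A_xe l0, single_vecMul, one_smul]; ext j; simp [C, l0]
    | one => exact o
    | mul x y hx hy a b => rw [am x hx y hy, A_mul (h1 _ hx) (h1 _ hy), A_mul hx hy, add_vecMul, a, b]
    | inv x hx a => rwa [inv_eq_of_mul_eq_one_right (el_AA _ x hx)]
  have hC : C *ᵥ e0 = e0 := by
    ext i
    by_cases i0 : i = 0
    · simp [C, i0]
    · simpa [C, i0] using (A_val (h1 _ (rowA i 1))).1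
  have hd : C.det = 1 := by
    refine (two _).resolve_left fun h0 => ?_
    obtain ⟨v, v0, hv⟩ := exists_vecMul_eq_zero_iff.2 h0
    have v1 : v 0 = 0 := by
      have : (v ᵥ* C) ⬝ᵥ e0 = 0 := by rw [hv, zero_dotProduct]
      rwa [← dotProduct_mulVec, hC, dotProduct_single, mul_one] at this
    obtain ⟨x, hx⟩ := A_ex v1
    obtain ⟨xA, e1⟩ := A_of hx
    have e2 : α x = 1 := Subtype.ext (by
      rw [(A_val (h1 _ xA)).2, key x xA, e1, hv, vecMulVec_zero, add_zero]; rfl)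
    have e3 := h2 x xA
    rw [e2, map_one, eq_comm, conj_eq_one_iff] at e3
    rw [← e1, e.inj2 (p2Q (AQ xA)) (p2Q (one_mem _)) (e3.trans (map_one ι).symm)] at v0
    exact v0 (by ext j; simp)
  obtain ⟨D, hD⟩ : ∃ D : X, D.1 = C := ⟨⟨C, hd⟩, rfl⟩
  rw [← hD] at hC key
  refine ⟨D⁻¹, inv_mem (nA hC), fun x hx => ?_⟩
  rw [inv_inv, mul_assoc _ x, A_cj hC hx (h1 _ hx) (key x hx), inv_mul_cancel_left, h2 _ hx]

end S6B

open S6B S6C in
theorem s6b (h : C2 ι t) (h2 : Nat.card F = 2) {g : G} {c : F} (hc : c ≠ 0)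
    (e : g * t * g⁻¹ = t * ι (xe 0 iL c)) (k : g ∈ 𝐍((RR F 0 iL).map ι)) : ∃ c' y, c' ≠ 0 ∧ D1 ι t c' y := by
  have two : ∀ a : F, a = 0 ∨ a = 1 := fun a => by
    obtain ⟨b, -, hb⟩ := (Nat.card_eq_two_iff' (0 : F)).1 h2
    exact or_iff_not_imp_left.2 fun a0 => (hb a a0).trans (hb 1 one_ne_zero).symm
  have hn : 2 ≤ n := by
    by_contra hn
    have := Ok.h (n := n) (F := F) (by omega)
    omega
  obtain rfl := (two c).resolve_left hc
  obtain ⟨l, l0, lL⟩ := ex_third (0 : I) iL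
  have nZ : ∀ {i j : I}, i ≠ j → (i ≠ 0 ∨ j ≠ iL) → (xe i j 1 : X) ∉ RR F 0 iL := fun h1 h3 hx => by
    obtain ⟨c, e⟩ := mem_RR.1 hx
    exact one_ne_zero (xe2_cen h1 h0L h3 (b := c) (by rw [e, xe_sq]; exact one_mem _)).1
  have gz : g * ι (xe 0 iL 1) * g⁻¹ = ι (xe 0 iL 1) := by
    obtain ⟨x, hx, e1⟩ := (mem_normalizer_iff.1 k _).1 (mem_map_of_mem ι (zR 1))
    obtain ⟨c, rfl⟩ := mem_RR.1 hx
    rcases two c with rfl | rfl
    · rw [xe_zero, map_one, eq_comm, conj_eq_one_iff] at e1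
      exact absurd (uniq h.em (e1.trans (by rw [xe_zero, map_one] : _ = ι (xe 0 iL 0)))) one_ne_zero
    · exact e1.symm
  obtain ⟨g1, g2⟩ := nv h.toC1 e k
  obtain ⟨p, hp, pz⟩ : ∃ p : X, ι p ∈ 𝐍(((AA F 0).map ι ^ᶜ g⁻¹ : Subgroup G)) ∧
      p * xe 0 iL 1 ≠ xe 0 iL 1 * p := by
    rcases pb h.em two hn (inv_mem g1) (inv_mem g2) (by nth_rewrite 1 [← gz]; group) AQ (rowA _ _) PA
      (el_AA _) (fun hc => nZ l0.symm (Or.inr lL) (hc (rowA l 1))) with e1 | e1 <;> rw [e1]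
    · exact ⟨xe iL l 1, le_normalizer_map _ (mem_map_of_mem ι (nA (xe_e0 l0 lL.symm))),
        (ncm h0L lL.symm l0.symm).symm⟩
    · exact ⟨xe l 0 1, le_normalizer_map _ (mem_map_of_mem ι (twN (by
        rw [tw_xe, r0]; exact nA (xe_e0 (rne0 lL) (rneL l0).symm)))), ncm l0 h0L lL⟩
  obtain ⟨b, hb, eb⟩ := gl h.em two (a := g * ι p * g⁻¹) (by
    have := cj_mem g hp
    rwa [cj_normalizer, cj_inv_cj] at this)
  have zA : (xe 0 iL 1 : X) ∈ AA F 0 := rowA _ _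
  have a0 : b⁻¹ * xe 0 iL 1 * b * xe 0 iL 1 ∈ AA F 0 :=
    mul_mem (by simpa using (mem_normalizer_iff.1 (inv_mem hb) _).1 zA) zA
  have a1 : b⁻¹ * xe 0 iL 1 * b * xe 0 iL 1 ≠ 1 := fun e1 => pz (Eq.symm (h.em.comm2 (p2Q (AQ zA)) (Eq.symm (by
    have e2 := eb _ zA
    rw [show b * xe 0 iL 1 * b⁻¹ = xe 0 iL 1 by
      rw [mul_eq_one_iff_eq_inv, xe_inv] at e1
      nth_rewrite 1 [← e1]; group] at e2
    nth_rewrite 1 [← gz] at e2
    nth_rewrite 2 [← gz] at e2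
    calc ι p * ι (xe 0 iL 1) = g⁻¹ * (g * ι p * g⁻¹ * (g * ι (xe 0 iL 1) * g⁻¹) * (g * ι p * g⁻¹)⁻¹) * g * ι p := by
          group
      _ = _ := by rw [e2]; group))))
  have c0 : Cn ι (AA F 0) ((ι b)⁻¹ * (g * ι p * g⁻¹)) := fun x hx => by
    have := eb x hx
    rw [mul_inv_eq_iff_eq_mul] at this
    rw [mul_assoc, this]
    simp only [map_mul, map_inv]; group
  have t0 : (ι b)⁻¹ * (g * ι p * g⁻¹) * t * ((ι b)⁻¹ * (g * ι p * g⁻¹))⁻¹ =
      t * ι (b⁻¹ * xe 0 iL 1 * b * xe 0 iL 1) := by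
    have e1 : t = g * t * g⁻¹ * ι (xe 0 iL 1) := by rw [e, mul_assoc, ← map_mul, xe_sq, map_one, mul_one]
    calc _ = (ι b)⁻¹ * (g * (ι p * t) * (ι p)⁻¹ * g⁻¹ *
          (g * ι p * g⁻¹ * ι (xe 0 iL 1) * (g * ι p * g⁻¹)⁻¹)) * ι b := by
          nth_rewrite 1 [e1]; group
      _ = (ι b)⁻¹ * (g * t * g⁻¹) * ι b * ι (xe 0 iL 1) := by
          rw [eb _ zA, ← h.tc]; simp only [map_mul, map_inv]; group
      _ = (ι b⁻¹ * t) * ι (xe 0 iL 1) * ι b * ι (xe 0 iL 1) := by rw [e, map_inv]; group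
      _ = _ := by rw [← h.tc]; simp only [map_mul]; group
  generalize (ι b)⁻¹ * (g * ι p * g⁻¹) = y0 at c0 t0
  generalize b⁻¹ * xe 0 iL 1 * b * xe 0 iL 1 = u at a0 a1 t0
  obtain ⟨y, c1, t1⟩ : ∃ y, Cn ι (AA F 0) y ∧ y * t * y⁻¹ = t * ι (xe 0 iL 1) := by
    by_cases hj : ∃ j, j ≠ 0 ∧ j ≠ iL ∧ u.1 0 j = 1
    · obtain ⟨j, j0, jL, e1⟩ := hj
      have hq := nA (xe_e0 (F := F) h0L.symm jL)
      have e2 := pA a0 j0 h0L.symm jL
      rw [e1] at e2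
      refine ⟨y0 * (ι (xe j iL 1) * y0 * (ι (xe j iL 1))⁻¹), fun x hx => ?_, ?_⟩
      · have := c0 _ ((mem_normalizer_iff.1 (inv_mem hq) _).1 hx)
        simp only [map_mul, map_inv] at this
        calc _ = y0 * ι (xe j iL 1) * (y0 * ((ι (xe j iL 1))⁻¹ * ι x * (ι (xe j iL 1))⁻¹⁻¹)) *
            (ι (xe j iL 1))⁻¹ := by group
          _ = y0 * ι x * (ι (xe j iL 1) * y0 * (ι (xe j iL 1))⁻¹) := by rw [this]; group
          _ = _ := by rw [c0 x hx, mul_assoc]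
      · calc _ = y0 * (ι (xe j iL 1) * (y0 * ((ι (xe j iL 1))⁻¹ * (t * ι (xe j iL 1))) * y0⁻¹) *
            (ι (xe j iL 1))⁻¹) * y0⁻¹ := by group
          _ = y0 * ((ι (xe j iL 1) * t) * ι u * (ι (xe j iL 1))⁻¹) * y0⁻¹ := by
            rw [h.tc, inv_mul_cancel_left, t0]; group
          _ = y0 * t * y0⁻¹ * (y0 * ι (xe j iL 1 * u * xe j iL 1)) * y0⁻¹ := by
            rw [← h.tc, ← map_inv, xe_inv]; simp only [map_mul]; group
          _ = _ := by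
            rw [e2, c0 _ (mul_mem a0 zA), t0, mul_assoc, mul_inv_cancel_right, mul_assoc, ← map_mul,
              ← mul_assoc, el_AA _ u a0, one_mul]
    · push Not at hj
      have uB : u ∈ BB F iL := mem_BB.2 fun i j jL => by
        by_cases i0 : i = 0
        · by_cases j0 : j = 0
          · exact (mem_QQ' h0L).1 (AQ a0) _ _ (Or.inr (i0.trans j0.symm))
          · rw [i0, (two _).resolve_right (hj j j0 jL), one_apply_ne (Ne.symm j0)]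
        · exact mem_AA.1 a0 _ _ i0
      obtain ⟨c, e1⟩ := extB (one_mem _) uB fun l h0 _ => mem_AA.1 a0 _ _ h0
      rw [one_mul] at e1
      rcases two c with rfl | rfl
      · exact absurd (e1.trans (xe_zero _ _)) a1
      · exact ⟨y0, c0, e1 ▸ t0⟩
  have cZ : Cn ι (RR F 0 iL) y := fun x hx => by
    obtain ⟨c, rfl⟩ := mem_RR.1 hx
    exact c1 _ (rowA _ _)
  obtain ⟨y1, y2⟩ := nv h.toC1 t1 (centralizer_le_normalizer _ (by
    rintro _ ⟨x, hx, rfl⟩; exact (cZ x hx).symm))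
  refine ⟨1, y, one_ne_zero, cZ, fun x hx => ?_, t1⟩
  obtain ⟨a, ha, w, hw, rfl⟩ := (mem_QQ h0L).1 hx
  rcases pb h.em two hn y1 y2 (by rw [c1 _ zA, mul_inv_cancel_right]) BQ (colB _ _) PB (el_BB _)
    (fun hc => nZ lL (Or.inl l0) (hc (colB l 1))) with e1 | e1
  · exfalso
    obtain ⟨v, hv, e2⟩ : y * ι (xe l iL 1) * y⁻¹ ∈ (AA F 0).map ι :=
      e1 ▸ cj_mem y (mem_map_of_mem ι (colB l 1))
    have e3 : ι (xe l iL 1) = ι v := by
      calc ι (xe l iL 1) = y⁻¹ * ι v * y := by rw [e2]; group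
        _ = _ := by rw [mul_assoc, ← c1 v hv, inv_mul_cancel_left]
    rw [← h.em.inj2 (p2Q (col_mem _ _)) (p2Q (AQ hv)) e3] at hv
    refine ncm (F := F) l0.symm lL h0L ?_
    rw [← inv_eq_of_mul_eq_one_right (el_AA _ _ (mul_mem (rowA l 1) hv)), _root_.mul_inv_rev, xe_inv, xe_inv]
  · obtain ⟨v, hv, e2⟩ : y * ι w * y⁻¹ ∈ (BB F iL).map ι := e1 ▸ cj_mem y (mem_map_of_mem ι hw)
    obtain ⟨c, rfl⟩ := extB hw hv fun m m0 mL => by
      have e3 := bf_row (BQ hw) m0 mL 1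
      have e4 : ι (v * xe 0 m 1 * v⁻¹) = ι (w * xe 0 m 1 * w⁻¹) := by
        calc _ = y * ι w * (y⁻¹ * (ι (xe 0 m 1) * y)) * (ι w)⁻¹ * y⁻¹ := by
              rw [map_mul, map_mul, map_inv, e2]; group
          _ = y * ι (w * xe 0 m 1 * w⁻¹) * y⁻¹ := by
              rw [← c1 _ (rowA _ _), inv_mul_cancel_left]; simp only [map_mul, map_inv]; group
          _ = _ := by rw [c1 _ (e3 ▸ mul_mem (rowA _ _) (rowA _ _)), mul_inv_cancel_right]
      rw [e3, bf_row (BQ hv) m0 mL, map_mul, map_mul] at e4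
      simpa using uniq h.em (mul_left_cancel e4)
    refine ⟨c, ?_⟩
    calc y * ι (a * w) * y⁻¹ = (y * ι a) * y⁻¹ * (y * ι w * y⁻¹) := by rw [map_mul]; group
      _ = _ := by rw [c1 a ha, ← e2]; simp only [map_mul]; group

end LMS
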