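import Cfsg.Agent.Lib.LMS.SA

set_option autoImplicit false
set_option linter.unusedSectionVars false

namespace LMS

open Subgroup H69 Cfsg Matrix U4S
open scoped MatrixGroups commutatorElement

universe u
variable {G : Type*} [Group G] [Finite G] {F : Type u} [Field F] [CharP F 2] [Fintype F] {n : ℕ} [Ok n F]
  {ι ψ χ : XX n F →* G} {t : G} {E : Subgroup G}

local notation "X" => XX n F
local notation "I" => Fin (n + 3)
local notation "Mx" => Matrix (Fin (n + 3)) (Fin (n + 3)) F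

namespace S6D

theorem AA_le (i j : I) : AA F i ≤ QQ F i j := by
  unfold AA QQ
  refine closure_mono ?_
  rintro y ⟨l, c, rfl⟩
  exact ⟨l, c, Or.inl rfl⟩

theorem xe_AA (i l : I) (c : F) : (xe i l c : X) ∈ AA F i := subset_closure ⟨l, c, rfl⟩

theorem cjA {i j l : I} (h1 : i ≠ l) (h2 : i ≠ j) (h3 : l ≠ j) {a : X} (ha : a ∈ AA F i) :
    (xe l j 1 : X) * a * xe l j 1 ∈ AA F i := by
  unfold AA at ha
  induction ha using closure_induction with
  | mem y hy =>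
    obtain ⟨b, c, rfl⟩ := hy
    by_cases hb : b = l
    · subst hb
      have e := xe_c1 (F := F) h1 h3 h2 c 1
      have e2 : (xe b j 1 : X) * xe i b c * xe b j 1 = xe i b c * xe i j (c * 1) := by
        rw [← e, ← mul_assoc, ← mul_assoc, ← mul_assoc, xe_sq, one_mul]
      rw [e2]
      exact mul_mem (xe_AA _ _ _) (xe_AA _ _ _)
    · rw [xe_c0 (Ne.symm hb) (Ne.symm h2), mul_assoc, xe_sq, mul_one]
      exact xe_AA _ _ _
  | one => rw [mul_one, xe_sq]; exact one_mem _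
  | mul x y _ _ hx hy =>
    have : (xe l j 1 : X) * (x * y) * xe l j 1 = (xe l j 1 * x * xe l j 1) * (xe l j 1 * y * xe l j 1) := by
      have e := xe_sq (F := F) l j 1
      calc (xe l j 1 : X) * (x * y) * xe l j 1 = xe l j 1 * x * (xe l j 1 * xe l j 1) * y * xe l j 1 := by
            rw [e]; group
        _ = _ := by group
    rw [this]; exact mul_mem hx hy
  | inv x _ hx =>
    have : (xe l j 1 : X) * x⁻¹ * xe l j 1 = (xe l j 1 * x * xe l j 1)⁻¹ := by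
      rw [_root_.mul_inv_rev, _root_.mul_inv_rev, xe_inv, mul_assoc]
    rw [this]; exact inv_mem hx

theorem co_mul {a b : G} (ha : CO ι t a) (hb : CO ι t b) : CO ι t (a * b) := fun o ho => by
  rw [mul_assoc, hb o ho, ← mul_assoc, ha o ho, mul_assoc]

theorem co_x (x : X) : CO ι t (ι x) := fun o ho => (mem_centralizer_iff.1 ho.1 _ ⟨x, rfl⟩)

theorem co_t : CO ι t t := fun o ho => ho.2.1.symm

theorem d0_o {i j : I} {o : G} (ho : Oo ι t o) : D0 ι t i j 0 o := by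
  refine ⟨fun x _ => (mem_centralizer_iff.1 ho.1 _ ⟨x, rfl⟩).symm, ?_⟩
  rw [ho.2.1, xe_zero, map_one]; group

theorem key (h : C2 ι t) {c : F} {d : G} (k : D0 ι t 0 iL c d) {j : I} (j0 : j ≠ 0) (jL : j ≠ iL) :
    ∃ w, SV ι t 0 j c w := by
  have L0 : (0 : I) ≠ iL := by
    intro e; have := congrArg Fin.val e; simp at this
  have ki := k.inv L0
  rw [D0] at ki
  obtain ⟨ki1, ki2⟩ := ki
  rw [inv_inv] at ki2
  set p : G := ι (xe iL j 1) with hp
  have p2 : p * p = 1 := by rw [hp, ← map_mul, xe_sq, map_one]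
  have pi : p⁻¹ = p := inv_eq_of_mul_eq_one_right p2
  have pt : p * t = t * p := (h.tc _).symm
  set e : G := d * (p * d⁻¹ * p) with he
  have eCO : CO ι t e := by
    intro o ho
    have ho' := (k.inv L0).nO h L0 ho
    rw [inv_inv] at ho'
    have a1 : p * o = o * p := co_x _ o ho
    have a2 : p * (d⁻¹ * o * d) = (d⁻¹ * o * d) * p := co_x _ _ ho'
    calc e * o = d * p * d⁻¹ * (p * o) := by rw [he]; group
      _ = d * (p * (d⁻¹ * o * d)) * d⁻¹ * p := by rw [a1]; group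
      _ = o * e := by rw [a2, he]; group
  have eA : ∀ x ∈ AA F (0 : I), e * ι x = ι x * e := by
    intro x hx
    have h1 := cjA L0 j0.symm jL.symm hx
    have h2 := ki1 _ (AA_le _ _ h1)
    rw [map_mul, map_mul, ← hp] at h2
    have h3 := k.1 _ (AA_le _ _ hx)
    calc e * ι x = d * p * (d⁻¹ * (p * ι x * p)) * p⁻¹ := by rw [he]; group
      _ = d * (p * p) * ι x * p * d⁻¹ * p⁻¹ := by rw [h2]; group
      _ = (d * ι x) * p * d⁻¹ * p := by rw [p2, pi]; group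
      _ = ι x * e := by rw [h3, he]; group
  have et : e * t * e⁻¹ = t * ι (xe 0 j c) := by
    have e1 := xe_c1 (F := F) L0 jL.symm j0.symm c 1
    have e2 : p * ι (xe 0 iL c) * p = ι (xe 0 iL c) * ι (xe 0 j c) := by
      rw [mul_one] at e1
      rw [hp, ← map_mul, ← map_mul, ← map_mul, ← e1, ← mul_assoc, ← mul_assoc, ← mul_assoc, xe_sq, one_mul]
    have e3 := k.1 _ (AA_le _ _ (xe_AA (F := F) 0 iL c))
    have e4 := k.1 _ (AA_le _ _ (xe_AA (F := F) 0 j c))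
    have e5 : ι (xe 0 iL c : X) * ι (xe 0 iL c) = 1 := by rw [← map_mul, xe_sq, map_one]
    calc e * t * e⁻¹ = d * p * d⁻¹ * (p * t) * p⁻¹ * d * p⁻¹ * d⁻¹ := by rw [he]; group
      _ = d * p * (d⁻¹ * t * d) * p⁻¹ * d⁻¹ := by rw [pt]; group
      _ = d * (p * t) * ι (xe 0 iL c) * p * d⁻¹ := by rw [ki2, pi]; group
      _ = d * t * (p * ι (xe 0 iL c) * p) * d⁻¹ := by rw [pt]; group
      _ = d * t * d⁻¹ * (d * ι (xe 0 iL c)) * d⁻¹ * (d * ι (xe 0 j c)) * d⁻¹ := by rw [e2]; group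
      _ = t * (ι (xe 0 iL c) * ι (xe 0 iL c)) * ι (xe 0 j c) := by rw [k.2, e3, e4]; group
      _ = _ := by rw [e5, mul_one]
  have s0 : Equiv.swap j (iL : I) 0 = 0 := Equiv.swap_apply_of_ne_of_ne j0.symm L0
  have sL : Equiv.swap j (iL : I) iL = j := Equiv.swap_apply_right _ _
  have kj : D0 ι t 0 j c (ι (pmL (Equiv.swap j iL)) * d * (ι (pmL (Equiv.swap j iL)))⁻¹) :=
    k.tr h.toC1 (by rw [QQ_pm, s0, sL]) (by rw [pm_xe, s0, sL])
  generalize ι (pmL (Equiv.swap j iL)) * d * (ι (pmL (Equiv.swap j iL)))⁻¹ = f at kj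
  have kji := kj.inv j0.symm
  have ft : f⁻¹ * e * t = t * (f⁻¹ * e) := by
    have e4 := kji.1 _ (AA_le _ _ (xe_AA (F := F) 0 j c))
    have e5 : ι (xe 0 j c : X) * ι (xe 0 j c) = 1 := by rw [← map_mul, xe_sq, map_one]
    calc f⁻¹ * e * t = f⁻¹ * (e * t * e⁻¹) * e := by group
      _ = (f⁻¹ * t * f⁻¹⁻¹) * (f⁻¹ * ι (xe 0 j c)) * e := by rw [et]; group
      _ = t * (ι (xe 0 j c) * ι (xe 0 j c)) * (f⁻¹ * e) := by rw [kji.2, e4]; group
      _ = _ := by rw [e5, mul_one]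
  have fA : Cn ι (AA F (0 : I)) (f⁻¹ * e) := by
    intro x hx
    rw [mul_assoc, eA x hx, ← mul_assoc, kji.1 _ (AA_le _ _ hx), mul_assoc]
  obtain ⟨x, -, κ, hκ, e0⟩ := cA h.em (h.CN _ ft) fA
  have κt : κ * t = t * κ := by
    have : κ = f⁻¹ * e * (ι x)⁻¹ := by rw [e0]; group
    have e6 : t * (ι x)⁻¹ = (ι x)⁻¹ * t := by rw [← map_inv]; exact h.tc _
    rw [this, mul_assoc, ← e6, ← mul_assoc, ft]; group
  obtain ⟨O, -, -, hO⟩ := h.od
  obtain ⟨o, ho, e7⟩ := hO κ hκ κt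
  have dd : D0 ι t 0 j c (f * o) := by
    have := kj.mul j0.symm (d0_o (i := 0) (j := j) ho)
    rwa [add_zero] at this
  have cc : CO ι t (f * o) := by
    have e8 : f * κ = e * ι x⁻¹ := by
      rw [map_inv]
      calc f * κ = f * (κ * ι x) * (ι x)⁻¹ := by group
        _ = _ := by rw [← e0]; group
    rcases e7 with e7 | e7
    · rw [← e7, e8]; exact co_mul eCO (co_x _)
    · have : f * o = f * κ * t := by
        rw [e7, mul_assoc, mul_assoc, ho.2.1, ← mul_assoc t, h.t2, one_mul]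
      rw [this, e8]; exact co_mul (co_mul eCO (co_x _)) co_t
  obtain ⟨w, -, hw, -⟩ := dd.sv h j0.symm cc
  exact ⟨w, hw⟩

end S6D

theorem s6d (h : C2 ι t) {c : F} (hc : c ≠ 0) {d : G} (k : D0 ι t 0 iL c d) : C3 ι t := by
  obtain ⟨j, j0, jL⟩ := ex_third (0 : I) iL
  obtain ⟨w, hw⟩ := S6D.key h k j0 jL
  refine ⟨h, fun i' j' hij c' => ?_⟩
  by_cases hc' : c' = 0
  · subst hc'
    exact ⟨_, (sv_x h.toC1 hij 0).1⟩
  obtain ⟨a, ha, e⟩ := ex_dg (F := F) j0.symm (μ := c' * c⁻¹) (mul_ne_zero hc' (inv_ne_zero hc))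
  have h1 := hw.dg h.toC1 j0.symm a ha
  rw [e, mul_assoc, inv_mul_cancel₀ hc, mul_one] at h1
  obtain ⟨l, l0, lj⟩ := ex_third (0 : I) j
  obtain ⟨l', l0', lj'⟩ := ex_third i' j'
  obtain ⟨π, p1, p2, -⟩ := ex_perm3 j0.symm lj.symm l0.symm hij lj'.symm l0'.symm
  have h2 := h1.pm h.toC1 π
  rw [p1, p2] at h2
  exact ⟨_, h2⟩

end LMS
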