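import Cfsg.Agent.Lib.LMS.B7
import Cfsg.Agent.Lib.LMS.B3

set_option autoImplicit false
set_option linter.unusedSectionVars false

namespace LMS

open Subgroup H69 Cfsg Matrix U4S
open scoped MatrixGroups commutatorElement

universe u
variable {G : Type*} [Group G] [Finite G] {F : Type u} [Field F] [CharP F 2] [Fintype F] {n : ℕ} [Ok n F]
  {ι ψ χ : XX n F →* G} {t : G} {E : Subgroup G}

local notation "X" => XX n F
local notation "I" => Fin (n + 3)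
local notation "Mx" => Matrix (Fin (n + 3)) (Fin (n + 3)) F

namespace SA0

theorem xQ (i j : I) (a : F) : (xe i j a : X) ∈ QQ F i j := subset_closure ⟨j, a, Or.inl rfl⟩

theorem dgc (a : I → F) (ha : ∏ l, a l = 1) (i j : I) (c : F) :
    H63.St.SL.dg a ha * xe i j c * (H63.St.SL.dg a ha)⁻¹ = (xe i j (a i * (a j)⁻¹ * c) : X) := by
  by_cases h : i = j
  · subst h; rw [xe_self, xe_self, mul_one, mul_inv_cancel]
  · exact H63.St.SL.dg_conj ha h c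

theorem QQ_dg (a : I → F) (ha : ∏ l, a l = 1) (i j : I) : QQ F i j ^ᶜ (H63.St.SL.dg a ha : X) = QQ F i j :=
  cj_eq_of_cj_le (map_le_iff_le_comap.2 ((closure_le _).2 (by
    rintro _ ⟨l, c, rfl | rfl⟩
    exacts [subset_closure ⟨l, _, Or.inl (dgc a ha _ _ c)⟩, subset_closure ⟨l, _, Or.inr (dgc a ha _ _ c)⟩])))

theorem range_it : (ι.comp it).range = ι.range := by
  rw [MonoidHom.range_comp, MonoidHom.range_eq_top.2 (Function.Involutive.surjective it_it), ← MonoidHom.range_eq_map]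

theorem it_x (i j : I) (c : F) : (ι.comp it) (xe i j c) = ι (xe j i c) := by rw [MonoidHom.comp_apply, it_xe]

theorem d0_it {i j : I} {c : F} {d : G} : D0 (ι.comp it) t i j c d ↔ D0 ι t j i c d := by
  rw [D0, D0, it_x, ← QQ_it i j]
  exact and_congr_left' ⟨fun h _ ⟨x, hx, e⟩ => e ▸ h x hx, fun h x hx => h _ ⟨x, hx, rfl⟩⟩

theorem co_it {d : G} : CO (ι.comp it) t d ↔ CO ι t d := by simp only [CO, Oo, range_it]

theorem xs_it {i j : I} {c : F} {d : G} : Xs (ι.comp it) t i j c d ↔ Xs ι t j i c d := by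
  simp only [Xs, d0_it, co_it, it_x]

theorem co_cj {d : G} (k : CO ι t d) (x : X) : CO ι t (ι x * d * (ι x)⁻¹) := fun o ho =>
  have c : Commute (ι x) o := ho.1 _ ⟨x, rfl⟩
  ((c.mul_left (k o ho)).mul_left c.inv_left).eq

end SA0
open SA0

theorem D0.mul {i j : I} (hij : i ≠ j) {c c' : F} {d e : G} (h : D0 ι t i j c d) (k : D0 ι t i j c' e) :
    D0 ι t i j (c + c') (d * e) := by
  refine ⟨fun x hx => by rw [mul_assoc, k.1 x hx, ← mul_assoc, h.1 x hx, mul_assoc], ?_⟩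
  calc _ = d * (e * t * e⁻¹) * d⁻¹ := by group
    _ = d * t * d⁻¹ * (d * ι (xe i j c') * d⁻¹) := by rw [k.2]; group
    _ = _ := by rw [h.2, h.1 _ (xQ i j c'), mul_inv_cancel_right, mul_assoc, ← map_mul, xe_mul]

theorem D0.inv {i j : I} (hij : i ≠ j) {c : F} {d : G} (h : D0 ι t i j c d) : D0 ι t i j c d⁻¹ := by
  refine ⟨fun x hx => (Commute.inv_left (h.1 x hx)).eq, ?_⟩
  calc _ = d⁻¹ * (t * ι (xe i j c)) * (ι (xe i j c) * d) := by
        rw [inv_inv, mul_assoc, mul_assoc, mul_assoc, ← mul_assoc (ι _), ← map_mul, xe_sq, map_one, one_mul]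
    _ = d⁻¹ * (d * t * d⁻¹) * (d * ι (xe i j c)) := by rw [h.2, h.1 _ (xQ i j c)]
    _ = _ := by group

theorem D0.uniq (h : C1 ι t) {i j : I} (hij : i ≠ j) {c c' : F} {d : G} (k : D0 ι t i j c d) (k' : D0 ι t i j c' d) :
    c = c' := by
  have e : ι (xe i j (c + c')) = 1 := by
    rw [← xe_mul, map_mul, mul_left_cancel (k.2.symm.trans k'.2), ← map_mul, xe_sq, map_one]
  exact CharTwo.add_eq_zero.1 (xe_cen hij (h.em e))

theorem SV.inv {i j : I} (hij : i ≠ j) {c : F} {d : G} (k : SV ι t i j c d) : SV ι t i j c d⁻¹ :=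
  ⟨k.1.inv hij, fun o ho => (Commute.inv_left (k.2.1 o ho)).eq, k.2.2.imp fun j e => by rw [inv_pow, e, inv_one]⟩

theorem sv_x (h : C1 ι t) {i j : I} (hij : i ≠ j) (a : F) : SV ι t i j 0 (ι (xe i j a)) ∧ Xs ι t i j 0 (ι (xe i j a)) := by
  have d0 : D0 ι t i j 0 (ι (xe i j a)) := ⟨fun x hx => by
    rw [← map_mul, ← map_mul, PP_cen hij (QQ_le hij hx)], by
    rw [← h.tc, mul_inv_cancel_right, xe_zero, map_one, mul_one]⟩
  have co : CO ι t (ι (xe i j a)) := fun o ho => ho.1 _ ⟨_, rfl⟩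
  have s : ι (xe i j a) * ι (xe i j a) = 1 := by rw [← map_mul, xe_sq, map_one]
  exact ⟨⟨d0, co, P2.of_sq s⟩, d0, co, s, fun b e => h.t_not
    ⟨xe i j a * (xe i j b)⁻¹, by rw [map_mul, map_inv, e, mul_inv_cancel_right]⟩⟩

theorem sv_t (h : C1 ι t) {i j : I} (hij : i ≠ j) : SV ι t i j 0 t :=
  ⟨⟨fun x _ => h.tc x, by rw [mul_inv_cancel_right, xe_zero, map_one, mul_one]⟩, fun o ho => ho.2.1.symm,
    P2.of_sq h.t2⟩

theorem Xs.sv {i j : I} {c : F} {d : G} (k : Xs ι t i j c d) : SV ι t i j c d :=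
  ⟨k.1, k.2.1, P2.of_sq k.2.2.1⟩

theorem D0.tr (h : C1 ι t) {i j i' j' : I} {c c' : F} {d : G} {x : X} (k : D0 ι t i j c d)
    (e : QQ F i j ^ᶜ x = QQ F i' j') (e' : x * xe i j c * x⁻¹ = xe i' j' c') : D0 ι t i' j' c' (ι x * d * (ι x)⁻¹) := by
  refine ⟨fun y hy => ?_, ?_⟩
  · obtain ⟨z, hz, rfl⟩ := mem_cj'.1 (e ▸ hy : y ∈ QQ F i j ^ᶜ x)
    rw [map_mul, map_mul, map_inv, conj_mul, conj_mul, k.1 z hz]
  · have c : (ι x)⁻¹ * t * ι x = t := by rw [mul_assoc, h.tc, inv_mul_cancel_left]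
    calc _ = ι x * (d * ((ι x)⁻¹ * t * ι x) * d⁻¹) * (ι x)⁻¹ := by group
      _ = _ := by rw [c, k.2, ← e', map_mul, map_mul, map_inv, ← mul_assoc, ← h.tc]; group

theorem SV.tr (h : C1 ι t) {i j i' j' : I} {c c' : F} {d : G} {x : X} (k : SV ι t i j c d)
    (e : QQ F i j ^ᶜ x = QQ F i' j') (e' : x * xe i j c * x⁻¹ = xe i' j' c') : SV ι t i' j' c' (ι x * d * (ι x)⁻¹) :=
  ⟨k.1.tr h e e', co_cj k.2.1 x, k.2.2.cjg _⟩

theorem SA0.xs_tr (h : C1 ι t) {i j i' j' : I} {c c' : F} {d : G} {x : X} (k : Xs ι t i j c d)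
    (e : QQ F i j ^ᶜ x = QQ F i' j') (e' : x * xe i j c * x⁻¹ = xe i' j' c')
    (s : ∀ a', ∃ a, x * xe i j a * x⁻¹ = xe i' j' a') : Xs ι t i' j' c' (ι x * d * (ι x)⁻¹) :=
  ⟨k.1.tr h e e', co_cj k.2.1 x, by rw [conj_mul, k.2.2.1, mul_one, mul_inv_cancel], fun a' e1 => by
    obtain ⟨a, ha⟩ := s a'
    rw [← ha, map_mul, map_mul, map_inv, ← mul_assoc, ← mul_assoc, h.tc x, mul_left_inj, mul_assoc,
      mul_right_inj] at e1
    exact k.2.2.2 a e1⟩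

theorem SV.pm (h : C1 ι t) {i j : I} {c : F} {d : G} (k : SV ι t i j c d) (π : Equiv.Perm I) :
    SV ι t (π i) (π j) c (ι (pmL π) * d * (ι (pmL π))⁻¹) :=
  k.tr h (QQ_pm π i j) (pm_xe π i j c)

theorem Xs.pm (h : C1 ι t) {i j : I} {c : F} {d : G} (k : Xs ι t i j c d) (π : Equiv.Perm I) :
    Xs ι t (π i) (π j) c (ι (pmL π) * d * (ι (pmL π))⁻¹) :=
  xs_tr h k (QQ_pm π i j) (pm_xe π i j c) fun a => ⟨a, pm_xe π i j a⟩

theorem SV.dg (h : C1 ι t) {i j : I} (hij : i ≠ j) {c : F} {d : G} (k : SV ι t i j c d) (a : I → F) (ha : ∏ l, a l = 1) :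
    SV ι t i j (a i * (a j)⁻¹ * c) (ι (H63.St.SL.dg a ha) * d * (ι (H63.St.SL.dg a ha))⁻¹) :=
  k.tr h (QQ_dg a ha i j) (dgc a ha i j c)

theorem Xs.dg (h : C1 ι t) {i j : I} (hij : i ≠ j) {c : F} {d : G} (k : Xs ι t i j c d) (a : I → F) (ha : ∏ l, a l = 1) :
    Xs ι t i j (a i * (a j)⁻¹ * c) (ι (H63.St.SL.dg a ha) * d * (ι (H63.St.SL.dg a ha))⁻¹) :=
  xs_tr h k (QQ_dg a ha i j) (dgc a ha i j c) fun b => ⟨(a i * (a j)⁻¹)⁻¹ * b, by
    rw [dgc, mul_inv_cancel_left₀ (mul_ne_zero (H63.St.SL.dg_ne ha i) (inv_ne_zero (H63.St.SL.dg_ne ha j)))]⟩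

theorem C3.it (h : C3 ι t) : C3 (ι.comp it) t :=
  ⟨h.toC2.of_range (h.em.comp (Function.Involutive.bijective it_it)).1 range_it, fun i j hij c =>
    let ⟨w, k⟩ := h.ex j i hij.symm c; ⟨w, d0_it.2 k.1, co_it.2 k.2.1, k.2.2⟩⟩

theorem c4_of (h : C3 ι t) (r : Row ι t) (r' : Row (ι.comp it) t) : C4 ι t :=
  ⟨h, r, fun i j l h1 h2 c c' w w' k k' => r'.cm j i l h1.symm h2.symm c c' w w' (xs_it.2 k) (xs_it.2 k'),
    fun i j l h1 h2 h3 c a w k => by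
      have := xs_it.1 (r'.act l j i h3.symm h2.symm h1.symm c a w (xs_it.2 k))
      rwa [it_x, mul_comm c a] at this⟩

end LMS
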