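import Cfsg.Agent.Lib.LMS.S5
import Cfsg.Agent.Lib.LMS.SA0

set_option autoImplicit false
set_option linter.unusedSectionVars false

namespace LMS

open Subgroup H69 Cfsg Matrix U4S
open scoped MatrixGroups commutatorElement

universe u
variable {G : Type*} [Group G] [Finite G] {F : Type u} [Field F] [CharP F 2] [Fintype F] {n : ℕ} [Ok n F]
  {ι ψ χ : XX n F →* G} {t : G} {E : Subgroup G}

local notation "X" => XX n F
local notation "I" => Fin (n + 3)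
local notation "Mx" => Matrix (Fin (n + 3)) (Fin (n + 3)) F

namespace SA

theorem odd_kill {u o : G} (hu : u * u = 1) (c : Commute u o) (ho : Odd (orderOf o))
    (h : Odd (orderOf (u * o))) : u = 1 := by
  obtain ⟨m, hm⟩ := h.mul ho
  have e : (u * o) ^ (orderOf (u * o) * orderOf o) = 1 := by rw [pow_mul, pow_orderOf_eq_one, one_pow]
  rwa [c.mul_pow, mul_comm (orderOf _) (orderOf o), pow_mul o, pow_orderOf_eq_one, one_pow, mul_one, mul_comm,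
    hm, pow_succ, pow_mul, sq, hu, one_pow, one_mul] at e

theorem oo_d0 {i j : I} {o : G} (ho : Oo ι t o) : D0 ι t i j 0 o :=
  ⟨fun x _ => (ho.1 _ ⟨x, rfl⟩).symm, by rw [ho.2.1, mul_inv_cancel_right, xe_zero, map_one, mul_one]⟩

theorem xsq (i j : I) (a : F) : ι (xe i j a) * ι (xe i j a) = 1 := by rw [← map_mul, xe_sq, map_one]

theorem txsq (h : C1 ι t) (i j : I) (a : F) : t * ι (xe i j a) * (t * ι (xe i j a)) = 1 := by
  rw [mul_assoc, ← mul_assoc (ι _), ← h.tc, mul_assoc, xsq, mul_one, h.t2]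

theorem zero {i j : I} {c : F} {d : G} (k : D0 ι t i j (c + c) d) : D0 ι t i j 0 d :=
  CharTwo.add_self_eq_zero c ▸ k

theorem comm_cen {Γ : Type*} [Group Γ] {z w p q : Γ} (h1 : Commute z p) (h2 : Commute z q) (h3 : Commute w p)
    (h4 : Commute w q) (h5 : Commute z w) : ⁅z * p, w * q⁆ = ⁅p, q⁆ := by
  have k1 : Commute z (p * (w * q) * p⁻¹) := (h1.mul_right (h5.mul_right h2)).mul_right h1.inv_right
  have k2 : Commute w (q * p⁻¹ * q⁻¹) := (h4.mul_right h3.inv_right).mul_right h4.inv_right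
  calc ⁅z * p, w * q⁆ = z * (p * (w * q) * p⁻¹) * z⁻¹ * q⁻¹ * w⁻¹ := by simp only [commutatorElement_def]; group
    _ = p * (w * (q * p⁻¹ * q⁻¹)) * w⁻¹ := by rw [k1.eq]; group
    _ = _ := by rw [k2.eq, commutatorElement_def]; group

end SA
open SA SA0

theorem D0.ker (h : C2 ι t) {i j : I} (hij : i ≠ j) {d : G} (k : D0 ι t i j 0 d) :
    ∃ a o, Oo ι t o ∧ (d = ι (xe i j a) * o ∨ d = t * ι (xe i j a) * o) := by
  have c : d * t = t * d := by
    have := k.2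
    rwa [xe_zero, map_one, mul_one, mul_inv_eq_iff_eq_mul] at this
  obtain ⟨a, z, hz, rfl⟩ := cQ h.em (h.CN d c) hij k.1
  obtain ⟨O, -, -, hO⟩ := h.od
  obtain ⟨o, ho, e⟩ := hO z hz (by
    rw [mul_assoc, ← h.tc, ← mul_assoc, ← mul_assoc] at c
    exact mul_right_cancel c)
  have c1 : ι (xe i j a) * o = o * ι (xe i j a) := ho.1 _ ⟨_, rfl⟩
  exact ⟨a, o, ho, e.imp (fun e => by rw [e, c1]) fun e => by rw [e, mul_assoc, mul_assoc, c1]⟩

theorem SA.ker' (h : C2 ι t) {i j : I} (hij : i ≠ j) {d : G} (k : D0 ι t i j 0 d) :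
    ∃ u o, Oo ι t o ∧ u * u = 1 ∧ Commute u o ∧ d = u * o ∧ ∃ a, u = ι (xe i j a) ∨ u = t * ι (xe i j a) := by
  obtain ⟨a, o, ho, e | e⟩ := k.ker h hij
  · exact ⟨_, o, ho, xsq i j a, ho.1 _ ⟨_, rfl⟩, e, a, Or.inl rfl⟩
  · exact ⟨_, o, ho, txsq h.toC1 i j a, Commute.mul_left ho.2.1.symm (ho.1 _ ⟨_, rfl⟩), e, a, Or.inr rfl⟩

theorem SA.dP0 (h : C2 ι t) {c : F} {d : G} (k : D0 ι t 0 iL c d) : Cn ι (PP F 0 iL) d := by
  have hij : (0 : I) ≠ iL := Fin.last_pos.ne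
  rcases Nat.eq_zero_or_pos n with hn | hn
  · rw [PP_zero hn hij]; exact k.1
  have nP := (nv h.toC1 k.2 (centralizer_le_normalizer _ (by
    rintro _ ⟨x, hx, rfl⟩
    obtain ⟨a, rfl⟩ := mem_RR.1 hx
    exact (k.1 _ (xQ _ _ a)).symm))).1
  have key : ∀ p ∈ PP F (0 : I) iL, ∃ a, d * ι p * d⁻¹ = ι (xe 0 iL a * p) := fun p hp => by
    obtain ⟨q, hq, e⟩ := conj_mem_of_mem_normalizer nP (mem_map_of_mem ι hp)
    obtain ⟨a, z, hz, e1⟩ := cQ h.em (le_normalizer (⟨q * p⁻¹, rfl⟩ : ι (q * p⁻¹) ∈ ι.range)) hij fun x hx => by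
      have m := conj_mem_of_mem_normalizer' (PP_nQ hij hp) hx
      have c1 : Commute d (ι p * ι (p⁻¹ * x * p) * (ι p)⁻¹) := by
        rw [← map_inv, ← map_mul, ← map_mul]
        simpa [mul_assoc, commute_iff_eq] using k.1 x hx
      have c2 : Commute d⁻¹ (ι (p⁻¹ * x * p)) := Commute.inv_left (k.1 _ m)
      have e2 : ι x = ι p * ι (p⁻¹ * x * p) * (ι p)⁻¹ := by simp [mul_assoc]
      rw [map_mul, map_inv, e, e2]
      calc _ = d * ι p * (d⁻¹ * ι (p⁻¹ * x * p)) * (ι p)⁻¹ := by group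
        _ = d * (ι p * ι (p⁻¹ * x * p) * (ι p)⁻¹) * (ι p * d⁻¹ * (ι p)⁻¹) := by rw [c2.eq]; group
        _ = _ := by rw [c1.eq]; group
    have xP : (xe 0 iL a : X) ∈ PP F 0 iL := QQ_le hij (xQ _ _ a)
    have e3 : q * p⁻¹ * (xe 0 iL a)⁻¹ = 1 := PP_cc hij (mul_mem (mul_mem hq (inv_mem hp)) (inv_mem xP))
      (h.em.cen.1 (by rwa [map_mul, map_inv, e1, mul_inv_cancel_right]))
    exact ⟨a, by rw [← e, ← mul_inv_eq_one.1 e3, inv_mul_cancel_right]⟩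
  have le : ⁅PP F (0 : I) iL, PP F 0 iL⁆ ≤ (centralizer {d}).comap ι := commutator_le.2 fun p hp q hq => by
    obtain ⟨a, ea⟩ := key p hp
    obtain ⟨b, eb⟩ := key q hq
    rw [mem_comap, mem_centralizer_singleton_iff, eq_comm, ← mul_inv_eq_iff_eq_mul, map_commutatorElement,
      conjugate_commutatorElement, ea, eb, ← map_commutatorElement, ← map_commutatorElement,
      comm_cen (PP_cen hij hp a).symm (PP_cen hij hq a).symm (PP_cen hij hp b).symm (PP_cen hij hq b).symm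
        (xe_c0 hij hij.symm a b)]
  rw [PP_pf hn hij] at le
  exact fun x hx => (mem_centralizer_singleton_iff.1 (le hx)).symm

theorem D0.dP (h : C2 ι t) {i j : I} (hij : i ≠ j) {c : F} {d : G} (k : D0 ι t i j c d) : Cn ι (PP F i j) d := by
  obtain ⟨l, l1, l2⟩ := ex_third i j
  obtain ⟨m, m1, m2⟩ := ex_third (0 : I) iL
  obtain ⟨π, p1, p2, -⟩ := ex_perm3 hij l2.symm l1.symm (Fin.last_pos.ne : (0 : I) ≠ iL) m2.symm m1.symm
  have k1 := dP0 h (p1 ▸ p2 ▸ k.tr h.toC1 (QQ_pm π i j) (pm_xe π i j c))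
  have le : PP F i j ≤ (PP F 0 iL).comap (cn (pmL π)) := (closure_le _).2 (by
    rintro _ ⟨a, b, e, h1, h2, rfl⟩
    exact Subgroup.subset_closure ⟨π a, π b, e, (π.injective.ne h1).trans_eq p2, (π.injective.ne h2).trans_eq p1,
      pm_xe π a b e⟩)
  intro x hx
  have := k1 _ (le hx)
  rwa [cn_apply, map_mul, map_mul, map_inv, conj_mul, conj_mul, mul_left_inj, mul_right_inj] at this

theorem D0.nO (h : C2 ι t) {i j : I} (hij : i ≠ j) {c : F} {d o : G} (k : D0 ι t i j c d) (ho : Oo ι t o) :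
    Oo ι t (d * o * d⁻¹) := by
  obtain ⟨u, o', ho', u2, c, e, -⟩ := ker' h hij
    (zero ((add_zero c ▸ k.mul hij (oo_d0 ho) : D0 ι t i j c (d * o)).mul hij (k.inv hij)))
  have : Odd (orderOf (u * o')) := by
    rw [← e]
    exact (orderOf_injective (MulAut.conj d).toMonoidHom (MulAut.conj d).injective o).symm ▸ ho.2.2
  rwa [e, odd_kill u2 c ho'.2.2 this, one_mul]

theorem SA.two (h : C2 ι t) {i j : I} (hij : i ≠ j) :
    (∀ {a b : G} {c c' : F}, D0 ι t i j c a → CO ι t a → D0 ι t i j c' b → CO ι t b → P2 a → P2 b → P2 (a * b)) ∧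
    ∀ {d : G} {c : F}, D0 ι t i j c d → CO ι t d → ∃ z, Oo ι t z ∧ CO ι t z ∧ P2 (d * z⁻¹) := by
  obtain ⟨O, hO, oO, -⟩ := h.od
  let D : Subgroup G :=
    { carrier := {d | (∃ c, D0 ι t i j c d) ∧ CO ι t d}
      one_mem' := ⟨⟨0, by simpa [xe_zero] using (sv_x h.toC1 hij 0).1.1⟩, fun o _ => by simp⟩
      mul_mem' := fun ⟨⟨_, a1⟩, a2⟩ ⟨⟨_, b1⟩, b2⟩ =>
        ⟨⟨_, a1.mul hij b1⟩, fun o ho => (Commute.mul_left (a2 o ho) (b2 o ho)).eq⟩
      inv_mem' := fun ⟨⟨_, a1⟩, a2⟩ => ⟨⟨_, a1.inv hij⟩, fun o ho => (Commute.inv_left (a2 o ho)).eq⟩ }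
  obtain ⟨k1, k2⟩ := two_sub (D := D) (Z := O ⊓ D) (fun z hz d hd => hd.2 z ((hO z).1 hz.1))
    (Odd.of_dvd_nat oO (card_dvd_of_le inf_le_left)) fun d hd => ⟨2, by
      obtain ⟨c, hc⟩ := hd.1
      obtain ⟨u, o, ho, u2, cm, e, -⟩ := ker' h hij (zero (hc.mul hij hc))
      rw [show 2 ^ 2 = 2 * 2 from rfl, pow_mul, sq d, e, cm.mul_pow, sq u, u2, one_mul]
      exact pow_mem ((hO o).2 ho) 2, pow_mem hd _⟩
  exact ⟨fun a1 a2 b1 b2 => k1 _ ⟨⟨_, a1⟩, a2⟩ _ ⟨⟨_, b1⟩, b2⟩, fun d1 d2 =>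
    let ⟨z, hz, _, p⟩ := k2 _ ⟨⟨_, d1⟩, d2⟩; ⟨z, (hO z).1 hz.1, hz.2.2, p⟩⟩

theorem D0.sv (h : C2 ι t) {i j : I} (hij : i ≠ j) {c : F} {d : G} (k : D0 ι t i j c d) (k' : CO ι t d) :
    ∃ w o, SV ι t i j c w ∧ Oo ι t o ∧ d = w * o := by
  obtain ⟨z, hz, cz, p⟩ := (two h hij).2 k k'
  exact ⟨d * z⁻¹, z, ⟨add_zero c ▸ k.mul hij ((oo_d0 hz).inv hij),
    fun o ho => (Commute.mul_left (k' o ho) (Commute.inv_left (cz o ho))).eq, p⟩, hz, by simp⟩

theorem SV.mul (h : C2 ι t) {i j : I} (hij : i ≠ j) {c c' : F} {d e : G} (k : SV ι t i j c d) (k' : SV ι t i j c' e) :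
    SV ι t i j (c + c') (d * e) :=
  ⟨k.1.mul hij k'.1, fun o ho => (Commute.mul_left (k.2.1 o ho) (k'.2.1 o ho)).eq,
    (two h hij).1 k.1 k.2.1 k'.1 k'.2.1 k.2.2 k'.2.2⟩

theorem SV.ker (h : C2 ι t) {i j : I} (hij : i ≠ j) {d : G} (k : SV ι t i j 0 d) :
    ∃ a, d = ι (xe i j a) ∨ d = t * ι (xe i j a) := by
  obtain ⟨u, o, ho, u2, c, rfl, e⟩ := ker' h hij k.1
  obtain ⟨m, hm⟩ := k.2.2
  have : P2 o := ⟨m + 1, by
    have := congrArg (· ^ 2) hm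
    simp only [one_pow] at this
    rwa [← pow_mul, mul_comm, pow_mul, c.mul_pow, sq u, u2, one_mul, ← pow_mul, ← pow_succ'] at this⟩
  rwa [this.eq_one ho.2.2, mul_one]

theorem SV.sq (h : C2 ι t) {i j : I} (hij : i ≠ j) {c : F} {d : G} (k : SV ι t i j c d) : ∃ a, d * d = ι (xe i j a) := by
  have k2 := k.mul h hij k
  rw [CharTwo.add_self_eq_zero] at k2
  obtain ⟨a, e | e⟩ := k2.ker h hij
  · exact ⟨a, e⟩
  have c1 : d * t = t * d := by
    have : d * (t * ι (xe i j a)) = t * ι (xe i j a) * d := by rw [← e, mul_assoc]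
    rw [mul_assoc, ← k.1.1 _ (xQ i j a), ← mul_assoc, ← mul_assoc] at this
    exact mul_right_cancel this
  have k3 : SV ι t i j 0 d := ⟨⟨k.1.1, by rw [c1, mul_inv_cancel_right, xe_zero, map_one, mul_one]⟩, k.2⟩
  refine ⟨0, ?_⟩
  rw [xe_zero, map_one]
  obtain ⟨b, rfl | rfl⟩ := k3.ker h hij
  exacts [xsq i j b, txsq h.toC1 i j b]

theorem Xs.ker (h : C2 ι t) {i j : I} (hij : i ≠ j) {d : G} (k : Xs ι t i j 0 d) : ∃ a, d = ι (xe i j a) :=
  let ⟨a, e⟩ := k.sv.ker h hij; ⟨a, e.resolve_right (k.2.2.2 a)⟩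

theorem SV.dg1 (h : C2 ι t) {i j : I} (hij : i ≠ j) {c : F} {d : G} (k : SV ι t i j c d) (a : I → F) (ha : ∏ l, a l = 1)
    (e : a i = a j) : ι (H63.St.SL.dg a ha) * d = d * ι (H63.St.SL.dg a ha) := by
  have e1 : a i * (a j)⁻¹ = 1 := by rw [e, mul_inv_cancel₀ (H63.St.SL.dg_ne ha j)]
  have k1 := (k.dg h.toC1 hij a ha).mul h hij (k.inv hij)
  rw [e1, one_mul, CharTwo.add_self_eq_zero] at k1
  have cx : ∀ b, Commute (ι (H63.St.SL.dg a ha)) (ι (xe i j b)) := fun b => by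
    have := dgc a ha i j b
    rw [e1, one_mul, mul_inv_eq_iff_eq_mul] at this
    exact (show Commute _ _ from this).map ι
  have pw : ι (H63.St.SL.dg a ha) ^ (Fintype.card F - 1) = 1 := by
    rw [← map_pow, show H63.St.SL.dg a ha ^ (Fintype.card F - 1) = 1 from Subtype.ext ?_, map_one]
    rw [Matrix.SpecialLinearGroup.coe_pow, Matrix.SpecialLinearGroup.coe_one, ← diagonal_one]
    exact (diagonal_pow _ _).trans (congrArg diagonal (funext fun l =>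
      FiniteField.pow_card_sub_one_eq_one _ (H63.St.SL.dg_ne ha l)))
  have ct : Commute (ι (H63.St.SL.dg a ha)) t := (h.tc _).symm
  generalize ι (H63.St.SL.dg a ha) = g at *
  obtain ⟨κ, hκ⟩ : ∃ κ, g * d * g⁻¹ * d⁻¹ = κ := ⟨_, rfl⟩
  rw [hκ] at k1
  have ⟨c1, c2⟩ : Commute g κ ∧ κ * κ = 1 := by
    obtain ⟨b, rfl | rfl⟩ := k1.ker h hij
    exacts [⟨cx b, xsq i j b⟩, ⟨ct.mul_right (cx b), txsq h.toC1 i j b⟩]
  have it : ∀ m : ℕ, g ^ m * d = κ ^ m * d * g ^ m := fun m => by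
    induction m with
    | zero => simp
    | succ m ih =>
      rw [pow_succ' g, mul_assoc, ih, ← mul_assoc, ← mul_assoc, (c1.pow_right m).eq, pow_succ κ]
      nth_rw 3 [← hκ]
      group
  obtain ⟨m, hm⟩ : Odd (Fintype.card F - 1) := Nat.Even.sub_odd Fintype.card_pos
    (Nat.even_iff.2 (FiniteField.even_card_of_char_two (ringChar.eq F 2))) odd_one
  have := it (Fintype.card F - 1)
  rw [pw, one_mul, mul_one, hm, pow_succ, pow_mul, pow_two, c2, one_pow, one_mul, right_eq_mul] at this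
  rw [this, mul_inv_eq_one, mul_inv_eq_iff_eq_mul] at hκ
  exact hκ

theorem Row.uniq (h : C2 ι t) (r : Row ι t) {i j : I} (hij : i ≠ j) {c : F} (hc : c ≠ 0) {u : G} (u2 : u * u = 1)
    (k : D0 ι t i j c u) : Xs ι t i j c u := by
  obtain ⟨w, hw⟩ := r.ex i j hij c
  obtain ⟨a, o, ho, e⟩ := (zero (hw.1.mul hij k)).ker h hij
  have hw' := r.mul i j hij _ _ _ _ hw (sv_x h.toC1 hij a).2
  rw [add_zero] at hw'
  have wi : w⁻¹ = w := inv_eq_of_mul_eq_one_right hw.2.2.1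
  rcases e with e | e
  · rw [← eq_inv_mul_iff_mul_eq, wi, ← mul_assoc] at e
    have c1 : Commute (w * ι (xe i j a)) o := hw'.2.1 o ho
    rw [e, ← pow_two, c1.mul_pow, pow_two, hw'.2.2.1, one_mul, pow_two] at u2
    rwa [e, (P2.of_sq u2).eq_one ho.2.2, mul_one]
  · rw [← eq_inv_mul_iff_mul_eq, wi, ← mul_assoc, ← mul_assoc] at e
    have c0 : Commute (w * t) (ι (xe i j a)) := Commute.mul_left (hw.1.1 _ (xQ i j a)) (h.tc _)
    have c1 : Commute (w * t * ι (xe i j a)) o :=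
      (Commute.mul_left (hw.2.1 o ho) ho.2.1.symm).mul_left (ho.1 _ ⟨_, rfl⟩)
    have e2 : (w * t) ^ 2 = ι (xe i j c) := by
      rw [pow_two, ← mul_assoc]
      nth_rw 2 [← wi]
      rw [hw.1.2, h.tc, mul_assoc, h.t2, mul_one]
    rw [e, ← pow_two, c1.mul_pow, c0.mul_pow, pow_two (ι _), xsq, mul_one, e2, mul_eq_one_iff_eq_inv] at u2
    exact absurd (xe_cen hij (h.em.cen.1 (u2 ▸ inv_mem (pow_mem ho.1 2)))) hc

end LMS
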