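import Cfsg.Agent.Lib.LMS.RKM
import Cfsg.Agent.Lib.LMS.GD
import Cfsg.Agent.Lib.LMS.HF
import Cfsg.Agent.Lib.LMS.ZS
import Cfsg.Agent.Lib.LMS.IRR
import Cfsg.Agent.Lib.LMS.SPL

set_option autoImplicit false
set_option linter.unusedSectionVars false

namespace LMS

open Subgroup H69 Cfsg Matrix U4S
open scoped MatrixGroups commutatorElement

universe u
variable {G : Type*} [Group G] [Finite G] {F : Type u} [Field F] [CharP F 2] [Fintype F] {n : ℕ} [Ok n F]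
  {ι ψ χ : XX n F →* G} {t : G} {E : Subgroup G}

local notation "X" => XX n F
local notation "I" => Fin (n + 3)
local notation "Mx" => Matrix (Fin (n + 3)) (Fin (n + 3)) F

namespace W1B

theorem nL (h : C1 ι t) {α : X →* X} (a : Act ψ t α) {x : X} (k : α x = x) : ψ x ∈ 𝐍(ι.range) :=
  h.CN _ (a.fix k).symm

theorem cbp (h : C1 ι t) {α : X →* X} (a : Act ψ t α) (c : Cb α) :
    ∃ y u : X, y * y = 1 ∧ y ≠ 1 ∧ u * u = 1 ∧ (ψ y = ι u ∨ ψ y = t * ι u) := by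
  obtain ⟨P, hP, y, hy, y2, y1, -⟩ := c
  have s : ψ y * ψ y = 1 := by rw [← map_mul, y2, map_one]
  have i : Inn ι.range (ψ y) := h.em.comm_inn (P := P.map ψ) (by
    rintro _ ⟨x, hx, rfl⟩
    exact nL h a (hP x hx)) (by
    rw [← Subgroup.map_commutator]
    exact ⟨y, hy, rfl⟩) (P2.of_sq s)
  obtain ⟨u, u2, e⟩ := h.inn i s (a.fix (hP y (commutator_le_of_le le_rfl le_rfl hy))).symm
  exact ⟨y, u, y2, y1, u2, e⟩

theorem fr_one (x : X) : fr (1 : RingAut F) x = x := Subtype.ext (by ext i j; simp [fr_val])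

theorem caseA (p : Pa ψ χ) (h : C1 ι t) {α β : X →* X} (a : Act ψ t α) (b : Act χ t β) (z : Zs α) (c : Cb α)
    (c' : Cb β) (o' : ¬ Inn χ.range t) : False := by
  obtain ⟨ρ, r, h1, h2, hr⟩ := z
  have ct := a.fix h1
  rcases pra h.em hr (nL h a h1) (by rw [← map_pow, ← h2, pow_orderOf_eq_one, map_one]) with k | ⟨g, hg, k⟩
  · obtain ⟨y, u, y2, y1, -, e⟩ := cbp h a c
    have k1 := mem_centralizer_iff_commute.1 k _ ⟨u, rfl⟩
    refine irr' hr h2 y2 y1 (p.e1.comm2 (P2.of_sq y2) ?_).symm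
    rcases e with e | e <;> rw [e]
    · exact k1
    · rw [mul_assoc, k1, ← mul_assoc, ct, mul_assoc]
  · obtain ⟨y, u, y2, y1, u2, e⟩ := cbp h b c'
    have k1 := p.comm ρ y
    have u1 : u ≠ 1 := by
      rintro rfl
      rw [map_one, mul_one] at e
      rcases e with e | e
      · exact y1 (p.e2.inj2 (P2.of_sq y2) (P2.of_sq (mul_one _)) (by rw [e, map_one]))
      · exact o' ⟨_, ⟨y, rfl⟩, 1, one_mem _, by rw [e, one_mul]⟩
    have k2 : ψ ρ * ι u = ι u * ψ ρ := by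
      rcases e with e | e <;> rw [e] at k1
      · exact k1
      · rw [← mul_assoc, ← ct, mul_assoc, mul_assoc] at k1
        exact mul_left_cancel k1
    have := k.fix' h.em (P2.of_sq u2) k2
    rw [au_false, fr_one] at this
    exact irr hr hg u2 u1 this

theorem mem0 (h : C1 ι t) {J : Subgroup X} {y : G} (hy : y ∈ zpowers t ⊔ J.map ι) :
    ∃ k ∈ zpowers t, ∃ x ∈ J, y = k * ι x := by
  obtain ⟨k, hk, _, ⟨x, hx, rfl⟩, e⟩ := (mem_sup_of_le_normalizer_right (le_normalizer_of_le_centralizer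
    ((zpowers_le.2 h.tC).trans (H69.centralizer_anti (map_le_range ι J))))).1 hy
  exact ⟨k, hk, x, hx, e⟩

theorem czp {c k : G} (ct : t * c = c * t) (hk : k ∈ zpowers t) : c * k = k * c := by
  obtain ⟨j, rfl⟩ := hk
  exact (Commute.zpow_right ct.symm j).eq

theorem part (h : C1 ι t) {J : Subgroup X} (hJ : IsJ J) {c y : G} {β : X →* X} (a : Act ι c β)
    (ct : t * c = c * t) (hy : y ∈ zpowers t ⊔ J.map ι) (cy : c * y = y * c) :
    ∃ k ∈ zpowers t, ∃ x ∈ J ⊓ J.map β, y = k * ι x := by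
  obtain ⟨k, hk, x, hx, rfl⟩ := mem0 h hy
  refine ⟨k, hk, x, ⟨hx, x, hx, a.fix' h.em (P2.of_sq (hJ.el x hx)) ?_⟩, rfl⟩
  rw [← mul_assoc, czp ct hk, mul_assoc, mul_assoc] at cy
  exact mul_left_cancel cy

theorem last (e : Em ψ) (h : C1 ι t) {J : Subgroup X} (hJ : IsJ J) {c b : X} {β : X →* X} (a : Act ι (ψ c) β)
    (ct : t * ψ c = ψ c * t) (k : J.map β = J) (b2 : b * b = 1) (hb : ψ b ∈ zpowers t ⊔ J.map ι) :
    c * b * c⁻¹ * b = b * (c * b * c⁻¹) := by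
  refine (e.comm2 (P2.of_sq b2) ((h.cardJ hJ).1.comm hb ?_)).symm
  obtain ⟨k', hk, x, hx, e'⟩ := mem0 h hb
  have : ψ (c * b * c⁻¹) = k' * ι (β x) := by
    rw [map_mul, map_mul, map_inv, e', ← a x, ← mul_assoc, czp ct hk]
    group
  rw [this]
  exact mul_mem_sup hk ⟨_, k ▸ ⟨x, hx, rfl⟩, rfl⟩

theorem dg (h : C1 ι t) {α : X →* X} (a : Act ψ t α) {x y : X} (hx : α x = x) (hy : α y = y) :
    t * ψ ⁅x, y⁆ = ψ ⁅x, y⁆ * t ∧ ∃ g, Act ι (ψ ⁅x, y⁆) (au g 1 false) := by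
  refine ⟨a.fix (by rw [map_commutatorElement, hx, hy]), ?_⟩
  rw [map_commutatorElement]
  exact h.em.dg_comm (nL h a hx) (nL h a hy)

theorem caseB (p : Pa ψ χ) (h : C1 ι t) {α β : X →* X} (a : Act ψ t α) (b : Act χ t β)
    (f : Hf α (Nat.card F ^ MM n)) (f' : Hf β (Nat.card F ^ MM n)) (o : ¬ Inn ψ.range t) : False := by
  obtain ⟨B, hB, fB, cB, x, y, hx, hy, b1, hb1, n1⟩ := f
  obtain ⟨B', hB', fB', cB', x', y', hx', hy', b2, hb2, n2⟩ := f'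
  obtain ⟨t1, g, a1⟩ := dg h a hx hy
  obtain ⟨t2, g', a2⟩ := dg h b hx' hy'
  have cm : B.map ψ ≤ 𝐂(B'.map χ) := by
    rintro _ ⟨u, -, rfl⟩ _ ⟨v, -, rfl⟩
    exact (p.comm u v).symm
  have dec : ∀ w ∈ B.map ψ ⊔ B'.map χ, ∃ u ∈ B, ∃ v ∈ B', w = ψ u * χ v := fun w hw => by
    obtain ⟨_, ⟨u, hu, rfl⟩, _, ⟨v, hv, rfl⟩, e⟩ :=
      (mem_sup_of_le_normalizer_right (le_normalizer_of_le_centralizer cm)).1 hw
    exact ⟨u, hu, v, hv, e⟩
  have el : El (B.map ψ ⊔ B'.map χ) := (hB.map ψ).sup (hB'.map χ) fun u hu v hv => (cm hu v hv).symm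
  have ct : ∀ w ∈ B.map ψ ⊔ B'.map χ, t * w = w * t := fun w hw => by
    obtain ⟨u, hu, v, hv, rfl⟩ := dec w hw
    rw [← mul_assoc, a.fix (fB u hu), mul_assoc, b.fix (fB' v hv), mul_assoc]
  have nt : t ∉ B.map ψ ⊔ B'.map χ := fun k => by
    obtain ⟨u, -, v, -, e⟩ := dec t k
    exact o (inn_act.2 ⟨u, e ▸ (p.act1 u v).1⟩)
  have el0 : El (zpowers t ⊔ (B.map ψ ⊔ B'.map χ)) := (el_zpowers h.t2).sup el fun k hk w hw =>
    (czp (ct w hw) hk).symm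
  have cd : Nat.card F ^ MM n ≤ Nat.card B * Nat.card B' := by
    rw [← Nat.pow_le_pow_iff_left two_ne_zero, mul_pow, sq]
    exact Nat.mul_le_mul cB cB'
  obtain ⟨J, hJ, e0⟩ := (h.rk el0 fun w hw => el0.comm hw (mem_sup_left (mem_zpowers t))).2 (by
    rw [card_zp_sup h.t2 ct nt, (p.isP hB.isP hB'.isP).2]
    omega)
  have m1 : ∀ u ∈ B, ψ u ∈ zpowers t ⊔ J.map ι := fun u hu => e0 ▸ mem_sup_right (mem_sup_left ⟨u, hu, rfl⟩)
  have m2 : ∀ v ∈ B', χ v ∈ zpowers t ⊔ J.map ι := fun v hv => e0 ▸ mem_sup_right (mem_sup_right ⟨v, hv, rfl⟩)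
  have zc : zpowers t ≤ 𝐂(ι.range) := zpowers_le.2 h.tC
  have key : J ≤ (J ⊓ J.map (au g' 1 false)) ⊔ (J ⊓ J.map (au g 1 false)) := fun w hw => by
    have hw' : ι w ∈ zpowers t ⊔ (B.map ψ ⊔ B'.map χ) := e0 ▸ mem_sup_right ⟨w, hw, rfl⟩
    obtain ⟨k, hk, w', hw'', e⟩ := (mem_sup_of_le_normalizer_right (le_normalizer_of_le_centralizer
      (zpowers_le.2 fun y hy => (ct y hy).symm))).1 hw'
    obtain ⟨u, hu, v, hv, rfl⟩ := dec w' hw''
    obtain ⟨k1, hk1, x1, hx1, e1⟩ := part h hJ a2 t2 (m1 u hu) (p.comm _ _).symm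
    obtain ⟨k2, hk2, x2, hx2, e2⟩ := part h hJ a1 t1 (m2 v hv) (p.comm _ _)
    have : w = x1 * x2 := RKG.uniq h.em (hJ.el w hw) (hJ.el _ (mul_mem hx1.1 hx2.1)) (one_mem _)
      (zc (mul_mem (mul_mem hk hk1) hk2)) (by
        rw [one_mul, e, e1, e2, map_mul, mul_assoc k1, ← mul_assoc (ι x1),
          mem_centralizer_iff_commute.1 (zc hk2) _ ⟨x1, rfl⟩]
        group)
    rw [this]
    exact mul_mem_sup hx1 hx2
  rcases spl hJ g' g key with k | k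
  · exact n2 (last p.e2 h hJ a2 t2 k (hB' _ hb2) (m2 _ hb2))
  · exact n1 (last p.e1 h hJ a1 t1 k (hB _ hb1) (m1 _ hb1))

theorem split (hn : 1 ≤ n) {g : GX n F} {φ : RingAut F} {ε : Bool} (o : Ou g φ ε) :
    Zs (au g φ ε) ∨ Hf (au g φ ε) (Nat.card F ^ MM n) := by
  by_cases k : φ = 1 ∨ ε = false ∨ Odd n
  · exact Or.inr (hf hn o k)
  · simp only [not_or, Bool.not_eq_false] at k
    obtain ⟨k1, rfl, k3⟩ := k
    refine Or.inl (zsB o k1 fun c => k3 ?_)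
    obtain rfl : n = 1 := le_antisymm c.1 hn
    exact odd_one

end W1B

theorem w1b (hn : 1 ≤ n) (p : Pa ψ χ) (h : C2 ι t) (hm : t ∈ Mo ψ χ) (o : ¬ Inn ψ.range t) (o' : ¬ Inn χ.range t) : False := by
  obtain ⟨g, φ, ε, a, u⟩ := p.e1.ou hm.1 h.t2 o
  obtain ⟨g', φ', ε', a', u'⟩ := p.e2.ou hm.2 h.t2 o'
  rcases W1B.split hn u with k | k
  · exact W1B.caseA p h.toC1 a a' k (cb_out u) (cb_out u') o'
  rcases W1B.split hn u' with k' | k'
  · exact W1B.caseA p.symm h.toC1 a' a k' (cb_out u') (cb_out u) o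
  exact W1B.caseB p h.toC1 a a' k k' o

end LMS
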