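import Cfsg.Agent.Lib.LMS.SA

set_option autoImplicit false
set_option linter.unusedSectionVars false

namespace LMS

open Subgroup H69 Cfsg Matrix U4S
open scoped MatrixGroups commutatorElement

universe u
variable {G : Type*} [Group G] [Finite G] {F : Type u} [Field F] [CharP F 2] [Fintype F] {n : ℕ} [Ok n F]
  {ι ψ χ : XX n F →* G} {t : G} {E : Subgroup G}

local notation "X" => XX n F
local notation "I" => Fin (n + 3)
local notation "Mx" => Matrix (Fin (n + 3)) (Fin (n + 3)) F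

namespace WRE

theorem mem_gen {f : X →* G} {H : Subgroup G} (h : ∀ i j : I, i ≠ j → ∀ c, f (xe i j c) ∈ H) (x : X) :
    f x ∈ H := by
  have : (⊤ : Subgroup X) ≤ H.comap f := by
    rw [← top_xe, closure_le]
    rintro _ ⟨i, j, c, rfl⟩
    by_cases e : i = j
    · rw [e, xe_self]; exact one_mem _
    · exact h i j e c
  exact this (mem_top x)

variable {α r : F}

theorem two : (2 : F) = 0 := CharTwo.two_eq_zero

theorem p_add (s a b : F) : (⟨a * s, a⟩ : KK α) + ⟨b * s, b⟩ = ⟨(a + b) * s, a + b⟩ := by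
  ext <;> simp [add_mul]

theorem p_mul (hr : r ^ 2 = α + 1 * r) (a b : F) :
    (⟨a * r, a⟩ : KK α) * ⟨b * r, b⟩ = ⟨a * b * r, a * b⟩ := by
  ext
  · simp only [QuadraticAlgebra.re_mul]; linear_combination a * b * hr + a * b * α * two (F := F)
  · simp only [QuadraticAlgebra.im_mul]; linear_combination a * b * r * two (F := F)

theorem p_orth (hr : r ^ 2 = α + 1 * r) (a b : F) :
    (⟨a * r, a⟩ : KK α) * ⟨b * (r + 1), b⟩ = 0 := by
  ext
  · simp only [QuadraticAlgebra.re_mul, QuadraticAlgebra.re_zero]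
    linear_combination a * b * hr + a * b * (α + r) * two (F := F)
  · simp only [QuadraticAlgebra.im_mul, QuadraticAlgebra.im_zero]
    linear_combination a * b * (r + 1) * two (F := F)

theorem p_star (a : F) : star (⟨a * r, a⟩ : KK α) = ⟨a * (r + 1), a⟩ := by
  ext
  · simp only [QuadraticAlgebra.re_star]; ring
  · simp only [QuadraticAlgebra.im_star]; exact CharTwo.neg_eq a

theorem p_sum (a : F) : (⟨a * r, a⟩ : KK α) + ⟨a * (r + 1), a⟩ = algebraMap F (KK α) a := by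
  ext
  · simp only [QuadraticAlgebra.re_add, QuadraticAlgebra.algebraMap_re]
    linear_combination a * r * two (F := F)
  · simp only [QuadraticAlgebra.im_add, QuadraticAlgebra.algebraMap_im]
    linear_combination a * two (F := F)

theorem p_dec (k : KK α) : ∃ a b : F, k = ⟨a * r, a⟩ + ⟨b * (r + 1), b⟩ := by
  refine ⟨k.im + k.re + k.im * r, k.re + k.im * r, ?_⟩
  ext
  · simp only [QuadraticAlgebra.re_add]
    linear_combination -(k.re * r + k.im * r + k.im * r * r) * two (F := F)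
  · simp only [QuadraticAlgebra.im_add]
    linear_combination -(k.re + k.im * r) * two (F := F)

variable {Y : Fin (n + 3) → Fin (n + 3) → KK α → G}

theorem y0 (k : Stb ι t α Y) {i j : I} (h : i ≠ j) : Y i j 0 = 1 := by simpa using k.add i j h 0 0

theorem cm1 (k : Stb ι t α Y) {i j l : I} (h1 : i ≠ j) (h2 : j ≠ l) (h3 : i ≠ l) {a b : KK α}
    (e : a * b = 0) : Commute (Y i j a) (Y j l b) := by
  rw [← commutatorElement_eq_one_iff_commute, k.c1 i j l h1 h2 h3, e, y0 k h3]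

theorem cm (k : Stb ι t α Y) (hr : r ^ 2 = α + 1 * r) {i j i' j' : I} (h : i ≠ j) (h' : i' ≠ j') (a b : F) :
    Commute (Y i j ⟨a * r, a⟩) (Y i' j' ⟨b * (r + 1), b⟩) := by
  have o : ∀ a : F, (⟨b * (r + 1), b⟩ : KK α) * ⟨a * r, a⟩ = 0 := fun a => by rw [mul_comm, p_orth hr]
  by_cases e1 : i = j' <;> by_cases e2 : j = i'
  · subst e1 e2
    obtain ⟨m, m1, m2⟩ := ex_third i j
    have := k.c1 i m j m1.symm m2 h ⟨a * r, a⟩ ⟨1 * r, 1⟩
    rw [p_mul hr, mul_one] at this
    rw [← this, commutatorElement_def]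
    have c1 := (cm1 k h' m1.symm m2.symm (o a)).symm
    have c2 := cm1 k m2 h' m1 (p_orth hr 1 b)
    exact ((c1.mul_left c2).mul_left c1.inv_left).mul_left c2.inv_left
  · subst e1
    exact (cm1 k h' h (Ne.symm e2) (o a)).symm
  · subst e2
    exact cm1 k h h' e1 (p_orth hr a b)
  · exact k.c0 i j i' j' h h' e1 e2 _ _

end WRE

open WRE

theorem wre (h : C4 ι t) {α : F} {Y : I → I → KK α → G} (k : Stb ι t α Y) (a : Am ι.range E t)
    {r : F} (hr : r ^ 2 = α + 1 * r) : ∃ ψ, Wc ι ψ t E := by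
  obtain ⟨ψ, hψ⟩ := H63.St.SL.exists_hom (n := n + 3) (by omega)
    { x := fun i j a => Y i j ⟨a * r, a⟩
      add := fun e a b => by rw [k.add _ _ e, p_add]
      c0 := fun e1 e2 e3 e4 a b => k.c0 _ _ _ _ e1 e2 e3 e4 _ _
      c1 := fun e1 e2 e3 a b => by rw [k.c1 _ _ _ e1 e2 e3, p_mul hr] }
  have ti : t⁻¹ = t := inv_eq_of_mul_eq_one_right h.t2
  have hχ : ∀ i j : I, i ≠ j → ∀ b, cι ψ t (xe i j b) = Y i j ⟨b * (r + 1), b⟩ := fun i j e b => by
    rw [cι_apply, hψ i j e, ti, k.tw i j e, p_star]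
  have comm : ∀ x y, ψ x * cι ψ t y = cι ψ t y * ψ x := fun x y => by
    refine mem_centralizer_singleton_iff.1 (mem_gen (fun i j e c => mem_centralizer_singleton_iff.2 ?_) x)
    refine (mem_centralizer_singleton_iff.1
      (mem_gen (fun i' j' e' c' => mem_centralizer_singleton_iff.2 ?_) y)).symm
    rw [hψ i j e, hχ i' j' e']
    exact (cm k hr e e' c c').symm
  have res : ∀ x, ψ x * cι ψ t x = ι x := fun x => by
    let f : X →* G := MonoidHom.mk' (fun x => ψ x * cι ψ t x) fun x y => by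
      rw [map_mul, map_mul, mul_assoc, mul_assoc, ← mul_assoc (ψ y), comm y x, mul_assoc]
    have : f = ι := ext_xe fun i j c => by
      by_cases e : i = j
      · rw [e, xe_self, map_one, map_one]
      · change ψ _ * cι ψ t _ = _
        rw [hψ i j e, hχ i j e, k.add i j e, p_sum, k.res i j e]
    exact DFunLike.congr_fun this x
  have z0 : (0 : I) ≠ iL := by simp [Fin.ext_iff]
  have yE : ∀ i j : I, i ≠ j → ∀ c, Y i j c ∈ E := fun i j e c => by
    obtain ⟨m, m1, m2⟩ := ex_third i j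
    have := k.c1 i m j m1.symm m2 e c (algebraMap F _ 1)
    rw [k.res m j m2, map_one, mul_one] at this
    rw [← this, commutatorElement_def]
    exact mul_mem (a.nE.conj_mem _ (a.le ⟨_, rfl⟩) _) (inv_mem (a.le ⟨_, rfl⟩))
  have yY : ∀ i j : I, i ≠ j → ∀ c, Y i j c ∈ YY ι t := fun i j e c => by
    obtain ⟨m, m1, m2⟩ := ex_third i j
    obtain ⟨m', m3, m4⟩ := ex_third (0 : I) iL
    obtain ⟨π, p1, p2, -⟩ := ex_perm3 e m2.symm m1.symm z0 m4.symm m3.symm
    obtain ⟨d, hd⟩ := (k.xs i j e _).2 ⟨c, rfl⟩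
    have := hd.pm h.toC1 π
    rw [p1, p2] at this
    exact subset_closure ⟨(pmL π)⁻¹, d, _, this, by rw [map_inv]; group⟩
  refine ⟨ψ, h, ?_, comm, res, le_antisymm ((closure_le _).2 ?_) (sup_le ?_ ?_),
    a.nE, a.simple, sup_le ?_ ?_, a.idx⟩
  · refine (normal_X ψ.ker).resolve_right fun e => ?_
    have e' : ∀ x, ψ x = 1 := fun x => (e ▸ mem_top x : x ∈ ψ.ker)
    have := res (xe 0 iL 1)
    rw [cι_apply, e', mul_one, mul_inv_cancel, mul_one] at this
    exact one_ne_zero (xe_cen z0 (h.em this.symm))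
  · rintro _ ⟨x, c, w, hw, rfl⟩
    obtain ⟨s, rfl⟩ := (k.xs 0 iL z0 w).1 ⟨c, hw⟩
    obtain ⟨b, b', rfl⟩ := p_dec (r := r) s
    have q : ι x ∈ ψ.range ⊔ (cι ψ t).range := res x ▸ mul_mem_sup ⟨x, rfl⟩ ⟨x, rfl⟩
    refine mul_mem (mul_mem q ?_) (inv_mem q)
    rw [← k.add 0 iL z0]
    exact mul_mem_sup ⟨_, hψ 0 iL z0 b⟩ ⟨_, hχ 0 iL z0 b'⟩
  · rintro _ ⟨x, rfl⟩
    exact mem_gen (fun i j e c => hψ i j e c ▸ yY i j e _) x
  · rintro _ ⟨x, rfl⟩
    exact mem_gen (fun i j e c => hχ i j e c ▸ yY i j e _) x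
  · rintro _ ⟨x, rfl⟩
    exact mem_gen (fun i j e c => hψ i j e c ▸ yE i j e _) x
  · rintro _ ⟨x, rfl⟩
    exact mem_gen (fun i j e c => hχ i j e c ▸ yE i j e _) x

end LMS
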