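import Cfsg.Agent.Lib.LMS.RKG

set_option autoImplicit false
set_option linter.unusedSectionVars false

namespace LMS

open Subgroup H69 Cfsg Matrix U4S
open scoped MatrixGroups commutatorElement

universe u
variable {G : Type*} [Group G] [Finite G] {F : Type u} [Field F] [CharP F 2] [Fintype F] {n : ℕ} [Ok n F]
  {ι ψ χ : XX n F →* G} {t : G} {E : Subgroup G}

local notation "X" => XX n F
local notation "I" => Fin (n + 3)
local notation "Mx" => Matrix (Fin (n + 3)) (Fin (n + 3)) F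

namespace W0

theorem c21 (c : ∀ x y, ψ x * χ y = χ y * ψ x) : χ.range ≤ 𝐂(ψ.range) := by
  rintro _ ⟨y, rfl⟩ _ ⟨x, rfl⟩
  exact c x y

theorem c12 (c : ∀ x y, ψ x * χ y = χ y * ψ x) : ψ.range ≤ 𝐂(χ.range) := le_centralizer_iff.1 (c21 c)

theorem le_mo (c : ∀ x y, ψ x * χ y = χ y * ψ x) : ψ.range ⊔ χ.range ≤ Mo ψ χ :=
  le_inf (sup_le le_normalizer (le_normalizer_of_le_centralizer (c21 c)))
    (sup_le (le_normalizer_of_le_centralizer (c12 c)) le_normalizer)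

theorem nc (e : Em ι) : ¬ ι.range ≤ 𝐂(ι.range) := fun h =>
  one_ne_zero (xe_cen (i := 0) (j := iL) (Fin.last_pos.ne) (e.cen.1 (h ⟨xe 0 iL 1, rfl⟩)))

theorem ne (e : Em ψ) (c : ∀ x y, ψ x * χ y = χ y * ψ x) : ψ.range ≠ χ.range := fun k =>
  nc e (by have := c21 c; rwa [← k] at this)

theorem sim {K : Subgroup G} (h : ι.range ≤ 𝐍(K)) (k : K ≤ 𝐍(ι.range)) :
    K ≤ 𝐂(ι.range) ∨ ι.range ≤ K := by
  have nn : (K.comap ι).Normal := ⟨fun x hx g => by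
    simpa [mem_comap] using conj_mem_of_mem_normalizer (h ⟨g, rfl⟩) (mem_comap.1 hx)⟩
  rcases normal_X (K.comap ι) with e | e
  · have a : ⁅⁅K, ι.range⁆, ι.range⁆ = ⊥ := by
      rw [commutator_eq_bot_iff_le_centralizer]
      intro y hy
      obtain ⟨x, rfl⟩ := commutator_le_right_of_le_normalizer k hy
      have := e (mem_comap.2 (commutator_le_left_of_le_normalizer h hy))
      rintro _ ⟨z, rfl⟩
      rw [← map_mul, ← map_mul, mem_center_iff.1 this z]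
    have b := commutator_commutator_eq_bot_of_rotate (H₁ := ι.range) (H₂ := ι.range) (H₃ := K)
      (by rwa [commutator_comm ι.range K]) a
    rw [range_pf pf_X, commutator_comm] at b
    exact Or.inl (commutator_eq_bot_iff_le_centralizer.1 b)
  · refine Or.inr ?_
    rintro _ ⟨x, rfl⟩
    exact mem_comap.1 (e.ge (mem_top x))

theorem alt (e1 : Em ψ) (e2 : Em χ) (c : ∀ x y, ψ x * χ y = χ y * ψ x) {m : G}
    (hm : m ∈ 𝐍(ψ.range ⊔ χ.range)) (e : Em ι) (k1 : ι.range ≤ ψ.range ⊔ χ.range)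
    (k2 : ψ.range ⊔ χ.range ≤ 𝐍(ι.range)) : ι.range ^ᶜ m = ψ.range ∨ ι.range ^ᶜ m = χ.range := by
  have a1 : ι.range ^ᶜ m ≤ ψ.range ⊔ χ.range := cj_le_of_mem_normalizer k1 hm
  have a2 : ψ.range ⊔ χ.range ≤ 𝐍(ι.range ^ᶜ m) := by
    rw [← cj_normalizer, ← cj_eq_of_mem_normalizer hm]; exact cj_mono m k2
  have e' := e.cj m
  rw [← range_cι] at a1 a2 ⊢
  rcases sim (le_sup_left.trans a2) (a1.trans ((le_mo c).trans inf_le_left)) with f | f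
  · rcases sim (le_sup_right.trans a2) (a1.trans ((le_mo c).trans inf_le_right)) with f' | f'
    · exact absurd (a1.trans (sup_le (le_centralizer_iff.1 f) (le_centralizer_iff.1 f'))) (nc e')
    · exact Or.inr (e'.range_eq e2 f').symm
  · exact Or.inl (e'.range_eq e1 f).symm

theorem perm (e1 : Em ψ) (e2 : Em χ) (c : ∀ x y, ψ x * χ y = χ y * ψ x) {m : G}
    (hm : m ∈ 𝐍(ψ.range ⊔ χ.range)) : (m ∈ 𝐍(ψ.range) ∧ m ∈ 𝐍(χ.range)) ∨
      (ψ.range ^ᶜ m = χ.range ∧ χ.range ^ᶜ m = ψ.range) := by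
  have a := alt e1 e2 c hm e1 le_sup_left ((le_mo c).trans inf_le_left)
  have b := alt e1 e2 c hm e2 le_sup_right ((le_mo c).trans inf_le_right)
  rcases a with a | a <;> rcases b with b | b
  · exact absurd (cj_inj.1 (a.trans b.symm)) (ne e1 c)
  · exact Or.inl ⟨cj_eq_self_iff.1 a, cj_eq_self_iff.1 b⟩
  · exact Or.inr ⟨a, b⟩
  · exact absurd (cj_inj.1 (a.trans b.symm)) (ne e1 c)

theorem p2_pow {Γ : Type*} [Group Γ] {a : Γ} (h : P2 a) (k : ℕ) : P2 (a ^ k) :=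
  h.imp fun j e => by rw [← pow_mul, mul_comm, pow_mul, e, one_pow]

theorem eq_of_cen {a a' : X} (ha : P2 a) (ha' : P2 a') (h : a'⁻¹ * a ∈ center X) : a = a' := by
  obtain ⟨i, hi⟩ := ha
  obtain ⟨j, hj⟩ := ha'
  have c : Commute a'⁻¹ a := by
    have := mem_center_iff.1 h a
    rw [← mul_assoc] at this
    exact (mul_right_cancel this).symm
  refine (inv_mul_eq_one.1 (cen_two h ⟨i + j, ?_⟩)).symm
  rw [c.mul_pow, inv_pow, pow_add, pow_mul a, hi, one_pow, mul_one, mul_comm, pow_mul, hj, one_pow, inv_one]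

end W0

theorem Wc.pa (h : Wc ι ψ t E) : Pa ψ (cι ψ t) := by
  have e2 := h.em'.cj t
  have r1 : ψ.range ^ᶜ t = (cι ψ t).range := (range_cι t).symm
  have r2 : (cι ψ t).range ^ᶜ t = ψ.range := by rw [← r1, H69.cj_cj, h.t2, cj_one]
  refine ⟨h.em', e2, h.comm, fun c h1 h2 p => ?_, fun m hm => W0.perm h.em' e2 h.comm hm⟩
  have o : Odd (Nat.card ↥(𝐂(ψ.range) ⊓ 𝐂((cι ψ t).range))) := by
    refine odd_of_inv h.t2 ?_ fun c hc c2 ct => ?_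
    · rw [← cj_eq_self_iff, cj_inf, cj_centralizer, cj_centralizer, r1, r2, inf_comm]
    · refine (h.uq c ?_ c2 ct).resolve_right fun e => W0.ne h.em' h.comm ?_
      · rintro _ ⟨x, rfl⟩
        rw [← h.res, mul_assoc, hc.2 _ ⟨x, rfl⟩, ← mul_assoc, hc.1 _ ⟨x, rfl⟩, mul_assoc]
      · rw [← r1, cj_eq_of_mem_normalizer (centralizer_le_normalizer _ (e ▸ hc.1))]
  exact p.eq_one (o.of_dvd_nat (Subgroup.orderOf_dvd_natCard _ (mem_inf.2 ⟨h1, h2⟩)))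

theorem Pa.symm (h : Pa ψ χ) : Pa χ ψ := by
  refine ⟨h.e2, h.e1, fun x y => (h.comm y x).symm, fun c h1 h2 => h.odd c h2 h1, fun m hm => ?_⟩
  rw [sup_comm] at hm
  exact (h.perm m hm).imp And.symm And.symm

theorem Wk.symm (h : Wk ι ψ χ t) : Wk ι χ ψ t := by
  refine ⟨h.toC2, h.pa.symm, fun x => ?_, fun x => (h.pa.comm x x).symm.trans (h.res x), ?_⟩
  · rw [← h.sw, ← mul_assoc, ← mul_assoc, h.t2, one_mul, mul_assoc, h.t2, mul_one]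
  · rw [sup_comm]; exact h.ct

theorem Pa.dec (h : Pa ψ χ) {y : G} : y ∈ ψ.range ⊔ χ.range ↔ ∃ a b, y = ψ a * χ b := by
  rw [mem_sup_of_le_normalizer_right (le_normalizer_of_le_centralizer (W0.c12 h.comm))]
  exact ⟨fun ⟨_, ⟨a, rfl⟩, _, ⟨b, rfl⟩, e⟩ => ⟨a, b, e⟩,
    fun ⟨a, b, e⟩ => ⟨_, ⟨a, rfl⟩, _, ⟨b, rfl⟩, e⟩⟩

theorem Pa.deci (h : Pa ψ χ) {y : G} (hy : y ∈ ψ.range ⊔ χ.range) (p : y * y = 1) :
    ∃ a b, a * a = 1 ∧ b * b = 1 ∧ y = ψ a * χ b := by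
  obtain ⟨a, b, e⟩ := h.dec.1 hy
  obtain ⟨k, hk, pa⟩ := exists_P2_pow a
  obtain ⟨l, hl, pb⟩ := exists_P2_pow (b ^ k)
  have e1 : y = ψ ((a ^ k) ^ l) * χ ((b ^ k) ^ l) := by
    obtain ⟨i, hi⟩ := hk.mul hl
    rw [← pow_mul, ← pow_mul, map_pow, map_pow, ← Commute.mul_pow (h.comm a b), ← e, hi, pow_succ,
      pow_mul, sq, p, one_pow, one_mul]
  have pa' := W0.p2_pow pa l
  generalize (a ^ k) ^ l = a' at e1 pa'
  generalize (b ^ k) ^ l = b' at e1 pb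
  have e2 : ψ (a' * a') * χ (b' * b') = 1 := by
    rw [← p, e1, map_mul, map_mul, mul_assoc, mul_assoc, ← mul_assoc (χ b') (ψ a'), ← h.comm, mul_assoc]
  refine ⟨a', b', cen_two (h.e1.cen.1 ?_) (sq a' ▸ W0.p2_pow pa' 2),
    cen_two (h.e2.cen.1 ?_) (sq b' ▸ W0.p2_pow pb 2), e1⟩
  · rw [eq_inv_of_mul_eq_one_left e2]
    exact inv_mem (W0.c21 h.comm ⟨_, rfl⟩)
  · rw [eq_inv_of_mul_eq_one_right e2]
    exact inv_mem (W0.c12 h.comm ⟨_, rfl⟩)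

theorem Pa.uniq (h : Pa ψ χ) {a b a' b' : X} (ha : P2 a) (hb : P2 b) (ha' : P2 a') (hb' : P2 b')
    (e : ψ a * χ b = ψ a' * χ b') : a = a' ∧ b = b' := by
  have e1 : ψ (a'⁻¹ * a) = χ (b' * b⁻¹) := by
    rw [map_mul, map_mul, map_inv, map_inv, inv_mul_eq_iff_eq_mul, ← mul_assoc, ← e, mul_inv_cancel_right]
  obtain rfl := W0.eq_of_cen ha ha' (h.e1.cen.1 (e1 ▸ W0.c21 h.comm ⟨_, rfl⟩))
  exact ⟨rfl, h.e2.inj2 hb hb' (mul_left_cancel e)⟩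

theorem Pa.pu (h : Pa ψ χ) {a b : X} (ha : P2 a) (hb : P2 b) : Pu ψ χ (ψ a * χ b) ↔ a = 1 ∨ b = 1 := by
  refine ⟨fun k => k.symm.imp (fun k => cen_two (h.e1.cen.1 (W0.c21 h.comm ?_)) ha)
    fun k => cen_two (h.e2.cen.1 (W0.c12 h.comm ?_)) hb, ?_⟩
  · exact (χ.range.mul_mem_cancel_right ⟨b, rfl⟩).1 k
  · exact (ψ.range.mul_mem_cancel_left ⟨a, rfl⟩).1 k
  · rintro (rfl | rfl)
    · exact Or.inr ⟨b, by simp⟩
    · exact Or.inl ⟨a, by simp⟩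

theorem Pa.inn2 (h : Pa ψ χ) {m : G} (h1 : Inn ψ.range m) (h2 : Inn χ.range m) (p : P2 m) : m ∈ ψ.range ⊔ χ.range := by
  obtain ⟨u, k, -, pk, hk, e⟩ := h.e1.dec2 h1 p
  have i : Inn χ.range k := by
    rw [show k = m * (ψ u)⁻¹ by rw [e, mul_inv_cancel_right]]
    exact h2.mul (inn_iff.2 (mem_sup_right (inv_mem (W0.c12 h.comm ⟨u, rfl⟩))))
  obtain ⟨v, k', -, pk', hk', e'⟩ := h.e2.dec2 i pk
  have c : k' ∈ 𝐂(ψ.range) := by
    rw [show k' = k * (χ v)⁻¹ by rw [e', mul_inv_cancel_right]]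
    exact mul_mem hk (inv_mem (W0.c21 h.comm ⟨v, rfl⟩))
  rw [e, e', h.odd k' c hk' pk', one_mul]
  exact mul_mem (mem_sup_right ⟨v, rfl⟩) (mem_sup_left ⟨u, rfl⟩)

theorem Pa.comm_mem (h : Pa ψ χ) {P : Subgroup G} (k : P ≤ Mo ψ χ) {y : G} (hy : y ∈ ⁅P, P⁆) (p : P2 y) :
    y ∈ ψ.range ⊔ χ.range := by
  exact h.inn2 (h.e1.comm_inn (k.trans inf_le_left) hy p) (h.e2.comm_inn (k.trans inf_le_right) hy p) p

theorem Pa.Mo_le (h : Pa ψ χ) : Mo ψ χ ≤ 𝐍(ψ.range ⊔ χ.range) ∧ ψ.range ⊔ χ.range ≤ Mo ψ χ := by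
  exact ⟨le_normalizer_sup inf_le_left inf_le_right, W0.le_mo h.comm⟩

theorem Pa.sw_mul (h : Pa ψ χ) {a b : G} (ha : a ∈ 𝐍(ψ.range ⊔ χ.range)) (hb : b ∈ 𝐍(ψ.range ⊔ χ.range))
    (h1 : a ∉ Mo ψ χ) (h2 : b ∉ Mo ψ χ) : a * b ∈ Mo ψ χ := by
  obtain ⟨a1, a2⟩ := (h.perm a ha).resolve_left h1
  obtain ⟨b1, b2⟩ := (h.perm b hb).resolve_left h2
  refine ⟨cj_eq_self_iff.1 ?_, cj_eq_self_iff.1 ?_⟩
  · rw [← H69.cj_cj, b1, a2]
  · rw [← H69.cj_cj, b2, a1]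

theorem Pa.act1 (h : Pa ψ χ) (a b : X) : Act ψ (ψ a * χ b) (cn a) ∧ Act χ (ψ a * χ b) (cn b) := by
  refine ⟨fun x => ?_, fun x => ?_⟩
  · rw [cn_apply, map_mul, map_mul, map_inv, mul_assoc (ψ a), ← h.comm]; group
  · rw [cn_apply, map_mul, map_mul, map_inv, h.comm, mul_assoc (χ b), h.comm]; group

end LMS
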