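import Cfsg.Agent.Lib.LMS.RKM
import Cfsg.Agent.Lib.LMS.GD
import Cfsg.Agent.Lib.LMS.B4

set_option autoImplicit false
set_option linter.unusedSectionVars false

namespace LMS

open Subgroup H69 Cfsg Matrix U4S
open scoped MatrixGroups commutatorElement

universe u
variable {G : Type*} [Group G] [Finite G] {F : Type u} [Field F] [CharP F 2] [Fintype F] {n : ℕ} [Ok n F]
  {ι ψ χ : XX n F →* G} {t : G} {E : Subgroup G}

local notation "X" => XX n F
local notation "I" => Fin (n + 3)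
local notation "Mx" => Matrix (Fin (n + 3)) (Fin (n + 3)) F

namespace W1A

theorem cJ (e : Em ψ) (t2 : t * t = 1) (i : Inn ψ.range t) :
    ∃ J : Subgroup X, IsJ J ∧ J.map ψ ≤ centralizer {t} := by
  obtain ⟨u, k, u2, -, hk, e'⟩ := e.deci i t2
  obtain ⟨z, hz⟩ := inv_J u2
  refine ⟨JJ n F (kk n) ^ᶜ z⁻¹, isJ_kk.cj _, ?_⟩
  rintro _ ⟨x, hx, rfl⟩
  have hu : u ∈ JJ n F (kk n) ^ᶜ z⁻¹ := by
    have := cj_mem z⁻¹ hz
    simpa [mul_assoc] using this
  have c := (isJ_kk.cj z⁻¹).el.comm hx hu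
  have c2 := hk (ψ x) ⟨x, rfl⟩
  rw [mem_centralizer_singleton_iff, e', ← mul_assoc, c2, mul_assoc, ← map_mul, c, map_mul, mul_assoc]

theorem fx {α : X →* X} {P : Subgroup X} (hP : ∀ p ∈ P, α p = p) {y : X} (hy : y ∈ ⁅P, P⁆) : α y = y :=
  hP y (commutator_le.2 (fun a ha b hb => by
    rw [commutatorElement_def]
    exact P.mul_mem (P.mul_mem (P.mul_mem ha hb) (P.inv_mem ha)) (P.inv_mem hb)) hy)

theorem into (h : C1 ι t) {α : X →* X} (ha : Act ψ t α) {P : Subgroup X} (hP : ∀ p ∈ P, α p = p) {y : X}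
    (hy : y ∈ ⁅P, P⁆) (y2 : y * y = 1) : ∃ u s, u * u = 1 ∧ (s = 1 ∨ s = t) ∧ ψ y = s * ι u := by
  have q : ψ y * ψ y = 1 := by rw [← map_mul, y2, map_one]
  have le : P.map ψ ≤ 𝐍(ι.range) := by
    rintro _ ⟨x, hx, rfl⟩
    exact h.CN _ (ha.fix (hP x hx)).symm
  have hm : ψ y ∈ ⁅P.map ψ, P.map ψ⁆ := by
    rw [← map_commutator]; exact mem_map_of_mem ψ hy
  obtain ⟨u, u2, e | e⟩ := h.inn (h.em.comm_inn le hm (P2.of_sq q)) q (ha.fix (fx hP hy)).symm
  · exact ⟨u, 1, u2, Or.inl rfl, by rw [e, one_mul]⟩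
  · exact ⟨u, t, u2, Or.inr rfl, e⟩

theorem strip (h : C1 ι t) {s s' : G} (hs : s = 1 ∨ s = t) (hs' : s' = 1 ∨ s' = t) {u w : X}
    (c : s * ι u * (s' * ι w) = s' * ι w * (s * ι u)) : ι u * ι w = ι w * ι u := by
  have k : ∀ r : G, r = 1 ∨ r = t → ∀ x, Commute r (ι x) := by
    rintro r (rfl | rfl) x
    exacts [Commute.one_left _, h.tc x]
  have k' : Commute s s' := by
    rcases hs with rfl | rfl
    · exact Commute.one_left _
    · rcases hs' with rfl | rfl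
      exacts [Commute.one_right _, Commute.refl _]
  have c0 : Commute (s * ι u) (s' * ι w) := c
  have c1 : Commute (ι u) (s' * ι w) := by
    have := ((k'.mul_right (k s hs w)).inv_left).mul_left c0
    rwa [inv_mul_cancel_left] at this
  have := ((k s' hs' u).symm.inv_right).mul_right c1
  rwa [inv_mul_cancel_left] at this

end W1A

theorem w1a (p : Pa ψ χ) (h : C2 ι t) (hm : t ∈ Mo ψ χ) (i : Inn ψ.range t) : False := by
  obtain ⟨J, hJ, cJ⟩ := W1A.cJ p.e1 h.t2 i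
  have q4 : 4 ≤ Nat.card F ^ MM n := four_le_MM
  by_cases i' : Inn χ.range t
  · obtain ⟨J', hJ', cJ'⟩ := W1A.cJ p.e2 h.t2 i'
    obtain ⟨el, cd, -⟩ := p.elJ hJ hJ'
    have := (h.toC1.rk el fun b hb => mem_centralizer_singleton_iff.1 (sup_le cJ cJ' hb)).1
    rw [cd] at this
    nlinarith
  · obtain ⟨g, φ, ε, ha, o⟩ := p.e2.ou hm.2 h.t2 i'
    obtain ⟨P, hP, y, hy, y2, y1, -⟩ := cb_out o
    have cy := ha.fix (W1A.fx hP hy)
    have cz : (zpowers y).map χ ≤ centralizer {t} := by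
      rw [MonoidHom.map_zpowers, zpowers_le, mem_centralizer_singleton_iff, cy]
    have el : El (J.map ψ ⊔ (zpowers y).map χ) := (hJ.el.map ψ).sup ((el_zpowers y2).map χ) (by
      rintro _ ⟨a, -, rfl⟩ _ ⟨b, -, rfl⟩; exact p.comm a b)
    have cd := (p.isP hJ.el.isP (el_zpowers y2).isP).2
    rw [hJ.card, Nat.card_zpowers, orderOf_eq_prime (p := 2) (by rw [sq, y2]) y1] at cd
    have ct : ∀ b ∈ J.map ψ ⊔ (zpowers y).map χ, t * b = b * t := fun b hb =>
      (mem_centralizer_singleton_iff.1 (sup_le cJ cz hb)).symm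
    have nt : t ∉ J.map ψ ⊔ (zpowers y).map χ := fun k => by
      obtain ⟨a, b, e⟩ := p.dec.1 (sup_le_sup (map_le_range ψ J) (map_le_range χ _) k)
      exact i' (inn_act.2 ⟨b, e ▸ (p.act1 a b).2⟩)
    have el' : El (zpowers t ⊔ (J.map ψ ⊔ (zpowers y).map χ)) := (el_zpowers h.t2).sup el (by
      intro a ha b hb
      rcases (mem_zp h.t2).1 ha with rfl | rfl
      · rw [one_mul, mul_one]
      · exact ct b hb)
    have := (h.toC1.rk el' fun b hb => mem_centralizer_singleton_iff.1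
      (sup_le (zpowers_le.2 (mem_centralizer_singleton_iff.2 rfl)) (sup_le cJ cz) hb)).1
    rw [card_zp_sup h.t2 ct nt, cd] at this
    omega

theorem w1d (hn : n = 0) (p : Pa ψ χ) (h : C2 ι t) (hm : t ∈ Mo ψ χ) (o : ¬ Inn ψ.range t) (o' : ¬ Inn χ.range t) : False := by
  obtain ⟨g, φ, ε, ha, ou⟩ := p.e1.ou hm.1 h.t2 o
  obtain ⟨g', φ', ε', ha', ou'⟩ := p.e2.ou hm.2 h.t2 o'
  obtain ⟨P, hP, a, ha1, b, hb1, a2, b2, o3⟩ := s3_out hn ou
  obtain ⟨P', hP', y, hy, y2, y1, -⟩ := cb_out ou'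
  obtain ⟨u, s, u2, hs, eu⟩ := W1A.into h.toC1 ha hP ha1 a2
  obtain ⟨v, s', v2, hs', ev⟩ := W1A.into h.toC1 ha hP hb1 b2
  obtain ⟨w, r, w2, hr, ew⟩ := W1A.into h.toC1 ha' hP' hy y2
  have w1 : w ≠ 1 := by
    rintro rfl
    rw [map_one, mul_one] at ew
    rcases hr with rfl | rfl
    · exact y1 (p.e2.inj2 (P2.of_sq y2) (P2.of_sq (mul_one 1)) (by rw [ew, map_one]))
    · exact o' ⟨χ y, ⟨y, rfl⟩, 1, one_mem _, by rw [one_mul, ew]⟩
  have c1 : u * w = w * u := h.em.comm2 (P2.of_sq u2) (W1A.strip h.toC1 hs hr (by rw [← eu, ← ew, p.comm]))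
  have c2 : v * w = w * v := h.em.comm2 (P2.of_sq v2) (W1A.strip h.toC1 hs' hr (by rw [← ev, ← ew, p.comm]))
  have k4 := cc3 hn u2 v2 w2 w1 c1 c2
  have k : ∀ r : G, r = 1 ∨ r = t → (∀ x, Commute r (ι x)) ∧ r ^ 4 = 1 := by
    rintro r (rfl | rfl)
    · exact ⟨fun x => Commute.one_left _, one_pow _⟩
    · exact ⟨h.tc, by rw [show 4 = 2 * 2 from rfl, pow_mul, sq, sq, h.t2, mul_one]⟩
  have k' : Commute s s' := by
    rcases hs with rfl | rfl
    · exact Commute.one_left _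
    · rcases hs' with rfl | rfl
      exacts [Commute.one_right _, Commute.refl _]
  have e1 : ψ (a * b) = s * s' * ι (u * v) := by
    rw [map_mul, map_mul, eu, ev, mul_assoc, ← mul_assoc (ι u), ← ((k s' hs').1 u).eq]
    simp only [mul_assoc]
  have e4 : ψ (a * b) ^ 4 = 1 := by
    rw [e1, (((k s hs).1 _).mul_left ((k s' hs').1 _)).mul_pow, k'.mul_pow, (k s hs).2, (k s' hs').2,
      ← map_pow, k4, map_one, mul_one, mul_one]
  have e3 := pow_orderOf_eq_one (a * b)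
  rw [o3] at e3
  rw [← map_pow, pow_succ, e3, one_mul, map_mul] at e4
  have : a = b := p.e1.inj2 (P2.of_sq a2) (P2.of_sq b2) (by
    rw [eq_inv_of_mul_eq_one_left e4, ← map_inv, inv_eq_of_mul_eq_one_right b2])
  rw [this, b2, orderOf_one] at o3
  omega

end LMS
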