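import Cfsg.Agent.Lib.LMS.WE1

set_option autoImplicit false
set_option linter.unusedSectionVars false

namespace LMS

open Subgroup H69 Cfsg Matrix U4S
open scoped MatrixGroups commutatorElement

universe u
variable {G : Type*} [Group G] [Finite G] {F : Type u} [Field F] [CharP F 2] [Fintype F] {n : ℕ} [Ok n F]
  {ι ψ χ : XX n F →* G} {t : G} {E : Subgroup G}

local notation "X" => XX n F
local notation "I" => Fin (n + 3)
local notation "Mx" => Matrix (Fin (n + 3)) (Fin (n + 3)) F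

namespace WE3

theorem cl_sq {v : G} (c : Cl ψ v) : v * v = 1 := by
  obtain ⟨g, rfl⟩ := isConj_iff.1 c
  rw [conj_mul, ← map_mul, xe_sq, map_one, mul_one, mul_inv_cancel]

theorem cl_cj {v : G} (c : Cl ψ v) (g : G) : Cl ψ (g * v * g⁻¹) := c.trans (isConj_iff.2 ⟨g, rfl⟩)

theorem lg_mem {a : G} (l : LG ψ a) : a ∈ 𝐍(ψ.range) := let ⟨_, h⟩ := l; h.mem

theorem lg_not (e : Em ψ) {a : G} (l : LG ψ a) : ¬ Inn ψ.range a := fun i => by
  obtain ⟨g, h⟩ := l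
  obtain ⟨u, k⟩ := inn_act.1 i
  obtain ⟨g', e'⟩ := cn_au u
  exact absurd (au_uniq ((h.uniq e k).trans e')).2 (by decide)

theorem lg_cj (e : Em ψ) {a b : G} (l : LG ψ a) (hb : b ∈ 𝐍(ψ.range)) : LG ψ (b * a * b⁻¹) := by
  obtain ⟨g1, φ1, ε1, h1⟩ := e.act hb
  obtain ⟨g2, φ2, ε2, h2⟩ := e.act (mul_mem (mul_mem hb (lg_mem l)) (inv_mem hb))
  obtain ⟨g, h⟩ := l
  have k := h2.mul h1
  rw [inv_mul_cancel_right] at k
  obtain ⟨g3, e3⟩ := au_comp g2 g1 φ2 φ1 ε2 ε1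
  obtain ⟨g4, e4⟩ := au_comp g1 g φ1 1 ε1 true
  obtain ⟨k1, k2⟩ := au_uniq (e3.symm.trans ((k.uniq e (h1.mul h)).trans e4))
  obtain rfl : φ2 = 1 := by simpa using k1
  obtain rfl : ε2 = true := by revert k2; cases ε1 <;> cases ε2 <;> decide
  exact ⟨g2, h2⟩

theorem sw' (h : Wk ι ψ χ t) (x : X) : t * ψ x * t⁻¹ = χ x := by
  rw [inv_eq_of_mul_eq_one_right h.t2, h.sw]

theorem lg_sw (h : Wk ι ψ χ t) {a : G} (l : LG ψ a) : LG χ (t * a * t⁻¹) :=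
  l.imp fun g k x => by
    rw [← sw' h, ← sw' h, ← k x]; group

theorem p2_pow {Γ : Type*} [Group Γ] {x : Γ} (p : P2 x) (m : ℕ) : P2 (x ^ m) :=
  p.imp fun j e => by rw [← pow_mul, mul_comm, pow_mul, e, one_pow]

theorem p2_inv {Γ : Type*} [Group Γ] {x : Γ} (p : P2 x) : P2 x⁻¹ :=
  p.imp fun j e => by rw [inv_pow, e, inv_one]

theorem p2_map {Γ Γ' : Type*} [Group Γ] [Group Γ'] (f : Γ →* Γ') {x : Γ} (p : P2 x) : P2 (f x) :=
  p.imp fun j e => by rw [← map_pow, e, map_one]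

theorem dec2 (h : Pa ψ χ) {y : G} (hy : y ∈ ψ.range ⊔ χ.range) (p : P2 y) :
    ∃ a b, P2 a ∧ P2 b ∧ y = ψ a * χ b := by
  obtain ⟨a, b, e⟩ := h.dec.1 hy
  obtain ⟨k, hk, pa⟩ := exists_P2_pow a
  obtain ⟨l, hl, pb⟩ := exists_P2_pow b
  obtain ⟨j, hj⟩ := p
  obtain ⟨m, hm⟩ := exists_pow_eq_self_of_coprime (x := y) (n := k * l)
    ((Nat.Coprime.pow_right j (Nat.coprime_two_right.2 (hk.mul hl))).coprime_dvd_right
      (orderOf_dvd_of_pow_eq_one hj))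
  refine ⟨(a ^ k) ^ (l * m), (b ^ l) ^ (k * m), p2_pow pa _, p2_pow pb _, ?_⟩
  rw [← pow_mul] at hm
  rw [← pow_mul, ← pow_mul, ← mul_assoc k, ← mul_assoc l, mul_comm l k, map_pow, map_pow,
    ← Commute.mul_pow (h.comm a b), ← e, hm]

theorem inn_of_cen {L : Subgroup G} {a : G} (h : a ∈ 𝐂(L)) : Inn L a := ⟨1, one_mem _, a, h, (mul_one a).symm⟩

theorem psi_cen (h : Pa ψ χ) (x : X) : ψ x ∈ 𝐂(χ.range) := by
  rintro _ ⟨y, rfl⟩; exact (h.comm x y).symm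

theorem z_ne : (xe 0 iL 1 : X) ≠ 1 := fun e =>
  one_ne_zero (xe_cen (n := n) (F := F) (i := 0) (j := iL) (Fin.last_pos (n := n + 1)).ne (by
    rw [e]; exact one_mem _))

end WE3

open WE3

theorem Wk.gg (hn : n = 0) (h : Wk ι ψ χ t) {v : G} (c : Cl ψ v) (l1 : LG ψ v) (l2 : LG χ v) : False := by
  obtain ⟨k, hk, -, hp⟩ := dih h.t2 (cl_sq c)
  have e1 := h.pa.e1
  have e2 := h.pa.e2
  have key : ∀ m : ℕ, LG ψ ((t * v) ^ m * v * ((t * v) ^ m)⁻¹) ∧ LG χ ((t * v) ^ m * v * ((t * v) ^ m)⁻¹) := by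
    intro m
    induction m with
    | zero => simpa using ⟨l1, l2⟩
    | succ m ih =>
      rw [show (t * v) ^ (m + 1) * v * ((t * v) ^ (m + 1))⁻¹ =
        t * (v * ((t * v) ^ m * v * ((t * v) ^ m)⁻¹) * v⁻¹) * t⁻¹ by
          rw [pow_succ']; simp only [_root_.mul_inv_rev, mul_assoc]]
      exact ⟨lg_sw h.symm (lg_cj e2 ih.2 (lg_mem l2)), lg_sw h (lg_cj e1 ih.1 (lg_mem l1))⟩
  obtain ⟨m, rfl⟩ := (mem_powers_iff_mem_zpowers.2 hk :)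
  obtain ⟨m1, m2⟩ := key m
  have c' := cl_cj c ((t * v) ^ m)
  simp only at hp
  generalize (t * v) ^ m * v * ((t * v) ^ m)⁻¹ = w at m1 m2 c' hp
  have w2 := cl_sq c'
  have wi : w⁻¹ = w := inv_eq_of_mul_eq_one_right w2
  have ti : t⁻¹ = t := inv_eq_of_mul_eq_one_right h.t2
  have ht : t ∈ closure ({t, w} : Set G) := subset_closure (by simp)
  have hw : w ∈ closure ({t, w} : Set G) := subset_closure (by simp)
  have py : P2 (t * w * t⁻¹ * w) := P2.of_mem hp (mul_mem (mul_mem (mul_mem ht hw) (inv_mem ht)) hw)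
  obtain ⟨a, b, pa, pb, e⟩ := dec2 h.pa (h.pa.inn2 ((e1.lg_mul (lg_sw h.symm m2) m1).inn e1 py)
    ((e2.lg_mul (lg_sw h m1) m2).inn e2 py) py) py
  have yi : (t * w * t⁻¹ * w)⁻¹ = ψ a⁻¹ * χ b⁻¹ := by
    rw [e, _root_.mul_inv_rev, h.pa.comm, map_inv, map_inv]
  have k1 : ψ b * χ a = ψ a⁻¹ * χ b⁻¹ := by
    rw [← yi, h.pa.comm, ← sw' h a, ← sw' h.symm b, conj_mul, ← e]
    calc t * (t * w * t⁻¹ * w) * t⁻¹ = (t * t) * (w * t⁻¹ * w * t⁻¹) := by group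
      _ = w⁻¹ * t⁻¹⁻¹ * w⁻¹ * t⁻¹ := by rw [h.t2, one_mul, wi, ti, ti]
      _ = _ := by group
  obtain ⟨α, hα⟩ := m1
  obtain ⟨β, hβ⟩ := m2
  have k2 : ψ (au α 1 true a) * χ (au β 1 true b) = ψ a⁻¹ * χ b⁻¹ := by
    rw [← yi, ← hα, ← hβ, conj_mul, ← e]
    calc w * (t * w * t⁻¹ * w) * w⁻¹ = w * t * w * t⁻¹ := by group
      _ = w⁻¹ * t⁻¹⁻¹ * w⁻¹ * t⁻¹ := by rw [wi, inv_inv]
      _ = _ := by group
  have k3 := (h.pa.uniq pb pa (p2_inv pa) (p2_inv pb) k1).1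
  have k4 := (h.pa.uniq (p2_map _ pa) (p2_map _ pb) (p2_inv pa) (p2_inv pb) k2).1
  obtain ⟨x, hx⟩ := al3 hn e1 hα.mem w2 (lg_not e1 ⟨α, hα⟩) pa (by
    calc ψ a * w * (ψ a * w) = ψ a * (w * ψ a * w⁻¹) := by rw [wi]; group
      _ = 1 := by rw [hα, k4, map_inv, mul_inv_cancel])
  refine h.n0 (hx ▸ cl_cj c' (ψ x)) ?_
  have k5 : t * w * t⁻¹ = ψ a * χ b * w := by rw [← e, mul_assoc _ w w, w2, mul_one]
  have k6 : t * (ψ a * w) * t⁻¹ = ψ a * w := by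
    rw [← conj_mul, k5, sw' h, k3, ← mul_assoc, ← mul_assoc, ← h.pa.comm, mul_assoc (ψ a), ← map_mul,
      mul_inv_cancel, map_one, mul_one]
  exact (mul_inv_eq_iff_eq_mul.1 k6).symm

theorem Wk.e3a (hn : n = 0) (h : Wk ι ψ χ t) {v : G} (c : Cl ψ v) (l : LG ψ v) :
    ∃ B : Subgroup X, IsPGroup 2 B ∧ (∀ b ∈ B, v * ψ b = ψ b * v) ∧ ∀ (g : G) (y : X), y * y = 1 → y ≠ 1 →
      g * v * g⁻¹ = ψ (xe 0 iL 1) → B.map ψ ^ᶜ g ≤ Mo ψ χ → g * χ y * g⁻¹ ∉ ψ.range := by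
  have e1 := h.pa.e1
  have e2 := h.pa.e2
  have v2 := cl_sq c
  obtain ⟨g0, φ, ε, a0, o⟩ := e1.ou (lg_mem l) v2 (lg_not e1 l)
  obtain ⟨rfl, rfl⟩ : φ = 1 ∧ ε = true := let ⟨_, k⟩ := l; au_uniq (a0.uniq e1 k)
  obtain ⟨B, hB, c4, fx⟩ := lg3 hn o
  have cv : ∀ b ∈ B, v * ψ b = ψ b * v := fun b hb => a0.fix (fx b hb)
  refine ⟨B, hB.isP, cv, fun g y y2 y1 e hM hy => ?_⟩
  obtain ⟨y0, y02, e0⟩ := e1.lifti hy (by rw [conj_mul, ← map_mul, y2, map_one, mul_one, mul_inv_cancel])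
  have key : ∀ w ∈ B, w ≠ 1 → LG χ (g * ψ w * g⁻¹) := fun w hw w1 => by
    have w2 := hB w hw
    have m := hM (cj_mem g (mem_map_of_mem ψ hw))
    have s2 : ψ w * ψ w = 1 := by rw [← map_mul, w2, map_one]
    have r1 : rk w = 1 := by
      have a1 := rk_le w2
      have a2 := mt rk_zero.1 w1
      have a3 : kk n = 1 := by rw [hn]; rfl
      omega
    have c1 := cl_cj (h.cl r1).1 g
    have c2 : Cl ψ (ψ w * v) := by
      obtain ⟨x, hx⟩ := al3 hn e1 (lg_mem l) v2 (lg_not e1 l) (P2.of_sq w2) (by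
        rw [mul_assoc, ← mul_assoc v, cv w hw, mul_assoc, v2, mul_one, s2])
      exact hx ▸ cl_cj c (ψ x)
    have c3 : Cl ψ (g * ψ w * g⁻¹ * ψ (xe 0 iL 1)) := by
      rw [← e, conj_mul]; exact cl_cj c2 g
    have mx : IsConj (ψ w * χ y) (ψ y0 * (g * ψ w * g⁻¹)) :=
      isConj_iff.2 ⟨g, by rw [e0, conj_mul, h.pa.comm]⟩
    have w'2 := cl_sq c1
    have nY : g * ψ w * g⁻¹ ∉ ψ.range ⊔ χ.range := fun k =>
      h.n5 w2 y2 w1 y1 (Or.inl (mul_mem ⟨y0, rfl⟩ (h.tr e (Or.inl ⟨w, rfl⟩) s2 c2 k))) mx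
    have i1 : Inn ψ.range (g * ψ w * g⁻¹) := by
      by_contra i
      obtain ⟨x, hx⟩ := al3 hn e1 m.1 w'2 i (P2.of_sq y02) (by
        rw [e0, conj_mul, conj_mul, ← h.pa.comm, mul_assoc (ψ w), ← mul_assoc (χ y), ← h.pa.comm,
          mul_assoc (ψ w), ← map_mul, y2, map_one, mul_one, s2, mul_one, mul_inv_cancel])
      refine h.n5 w2 y2 w1 y1 (Or.inl ⟨w, rfl⟩) (mx.trans (IsConj.symm ?_))
      exact isConj_iff.2 ⟨ψ x * g, by rw [← hx]; group⟩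
    have i2 : ¬ Inn χ.range (g * ψ w * g⁻¹) := fun i => nY (h.pa.inn2 i1 i (P2.of_sq w'2))
    rcases good_or e1 m.1 w'2 with k | k | k
    · have zc := psi_cen h.pa (xe 0 iL 1)
      have g1 : Good ψ (g * ψ w * g⁻¹ * ψ (xe 0 iL 1)) := by
        refine ⟨cn (xe 0 iL 1), fun x => ?_, gd_inn (xe_sq _ _ _) z_ne⟩
        rw [_root_.mul_inv_rev, mul_assoc, mul_assoc, ← mul_assoc (ψ x), ← mul_assoc (ψ (xe 0 iL 1)),
          ← mul_assoc (ψ (xe 0 iL 1)), Act.self, ← mul_assoc]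
        exact conj_eq_of_mem_centralizer k ⟨_, rfl⟩
      rcases good_or e2 (mul_mem m.2 (centralizer_le_normalizer _ zc)) (cl_sq c3) with k' | k' | ⟨-, g', k'⟩
      · exact (i2 (inn_of_cen ((mul_mem_cancel_right zc).1 k'))).elim
      · exact (h.e1 c3 g1 k').elim
      · refine ⟨g', fun x => ?_⟩
        rw [← k' x]
        nth_rewrite 1 [← conj_eq_of_mem_centralizer zc ⟨x, rfl⟩]
        group
    · rcases good_or e2 m.2 w'2 with k' | k' | k'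
      · exact (i2 (inn_of_cen k')).elim
      · exact (h.e1 c1 k k').elim
      · exact k'.2
    · exact (lg_not e1 k.2 i1).elim
  obtain ⟨w1, h1, n1⟩ : ∃ w ∈ B, w ≠ 1 := by
    by_contra! k
    rw [(Subgroup.eq_bot_iff_forall B).2 k, card_bot] at c4
    omega
  obtain ⟨w2, h2, n2⟩ : ∃ w ∈ B, w ∉ zpowers w1 := by
    by_contra! k
    have := card_le_of_le (show B ≤ zpowers w1 from k)
    rw [Nat.card_zpowers] at this
    have := orderOf_le_of_pow_eq_one two_pos (show w1 ^ 2 = 1 by rw [sq, hB w1 h1])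
    omega
  have n3 : w1 * w2 ≠ 1 := fun k => n2 (eq_inv_of_mul_eq_one_right k ▸ inv_mem (mem_zpowers w1))
  have k1 := e2.lg_mul (key w1 h1 n1) (key w2 h2 fun k => n2 (k ▸ one_mem _))
  rw [conj_mul, ← map_mul] at k1
  exact lg_not e2 (key _ (mul_mem h1 h2) n3)
    (k1.inn e2 ((p2_map ψ (P2.of_sq (hB _ (mul_mem h1 h2)))).cjg g))

theorem Wk.e3 (hn : n = 0) (h : Wk ι ψ χ t) {v : G} (c : Cl ψ v) (l : LG ψ v) (m : v ∈ 𝐍(χ.range)) : v ∈ 𝐂(χ.range) := by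
  rcases good_or h.pa.e2 m (cl_sq c) with k | ⟨α, a, P, hP, fx, y, hy, y2, y1, tw⟩ | k
  · exact k
  · obtain ⟨B, hB, cv, hb⟩ := h.e3a hn c l
    obtain ⟨g, e, hM⟩ := h.ext c (h.pa.isP hB hP).1 (fun p hp => mem_centralizer_singleton_iff.1
      ((sup_le (by rintro _ ⟨b, hb, rfl⟩; exact mem_centralizer_singleton_iff.2 (cv b hb).symm)
        (by rintro _ ⟨b, hb, rfl⟩; exact mem_centralizer_singleton_iff.2 (a.fix (fx b hb)).symm) :
        B.map ψ ⊔ P.map χ ≤ centralizer {v}) hp))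
    have s2 : χ y * χ y = 1 := by rw [← map_mul, y2, map_one]
    obtain ⟨x, hx⟩ := a.tw tw
    refine (hb g y y2 y1 e ((cj_mono g le_sup_left).trans hM) (h.tr e (Or.inr ⟨y, rfl⟩) s2
      (hx ▸ cl_cj c (χ x)) (h.pa.comm_mem ((cj_mono g le_sup_right).trans hM) ?_ ((P2.of_sq s2).cjg g)))).elim
    rw [← cj_commutator, ← map_commutator]
    exact cj_mem g (mem_map_of_mem χ hy)
  · exact (h.gg hn c l k.2).elim

end LMS
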