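import Cfsg.Agent.Lib.LMS.WE2

set_option autoImplicit false
set_option linter.unusedSectionVars false

namespace LMS

open Subgroup H69 Cfsg Matrix U4S
open scoped MatrixGroups commutatorElement

universe u
variable {G : Type*} [Group G] [Finite G] {F : Type u} [Field F] [CharP F 2] [Fintype F] {n : ℕ} [Ok n F]
  {ι ψ χ : XX n F →* G} {t : G} {E : Subgroup G}

local notation "X" => XX n F
local notation "I" => Fin (n + 3)
local notation "Mx" => Matrix (Fin (n + 3)) (Fin (n + 3)) F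

namespace WE4

theorem cl_sq {v : G} (c : Cl ψ v) : v * v = 1 := by
  obtain ⟨g, rfl⟩ := isConj_iff.1 c
  rw [conj_mul, ← map_mul, xe_sq, map_one, mul_one, mul_inv_cancel]

theorem cl_cj {v : G} (c : Cl ψ v) (g : G) : Cl ψ (g * v * g⁻¹) := IsConj.trans c (isConj_iff.2 ⟨g, rfl⟩)

theorem ne0 : (0 : I) ≠ iL := (Fin.last_pos (n := n + 1)).ne

theorem rkz : rk (xe 0 iL 1 : X) = 1 := rk_xe ne0 one_ne_zero

theorem out (hn : 1 ≤ n) (e : Em χ) {v : G} (m : v ∈ 𝐍(χ.range)) (v2 : v * v = 1) (o : ¬ Inn χ.range v) (l : X)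
    (c : ∀ y ∈ ⁅UU n F ^ᶜ l, UU n F ^ᶜ l⁆, y * y = 1 → v * χ y = χ y * v) : False := by
  have r : (cι χ (χ l)).range = χ.range := by rw [range_cι, cj_eq_of_mem (MonoidHom.mem_range.2 ⟨l, rfl⟩)]
  obtain ⟨g, φ, ε, a, k⟩ := (e.cj (χ l)).ou (r ▸ m) v2 (r ▸ o)
  have f : ∀ (j : I) (s : F), 2 ≤ j.1 → au g φ ε (xe 0 j s) = xe 0 j s := fun j s hj =>
    a.fix' (e.cj _) (P2.of_sq (xe_sq _ _ _)) (by
      rw [cι_apply, ← map_inv, ← map_mul, ← map_mul]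
      refine c _ (cj_commutator _ _ l ▸ cj_mem l (xe_comm_U (by simpa using hj) s)) ?_
      rw [conj_mul, xe_sq, mul_one, mul_inv_cancel])
  have f1 := fun s => f iL s (by simp)
  rcases k.out with h | rfl
  · exact h (nc1 f1)
  · exact nc2 (f1 1) (f _ 1 (by simp [Fin.val_rev]; omega))

theorem key (h : Wk ι ψ χ t) {v : G} (c : Cl ψ v) (m : v ∈ Mo ψ χ) (o : ¬ Inn ψ.range v)
    (p : IsPGroup 2 (closure {t, v})) : False := by
  have t2 := h.t2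
  have ti : t⁻¹ = t := inv_eq_of_mul_eq_one_right t2
  have c2 := h.st1 c m o
  have r : ψ.range ^ᶜ t = χ.range := by
    ext y
    rw [mem_cj']
    exact ⟨fun ⟨_, ⟨x, rfl⟩, e⟩ => ⟨x, by rw [e, ti, h.sw]⟩, fun ⟨x, e⟩ => ⟨_, ⟨x, rfl⟩, by rw [ti, h.sw, e]⟩⟩
  have r' : χ.range ^ᶜ t = ψ.range := by rw [← r, cj_cj, t2, cj_one]
  obtain ⟨s, hs⟩ : ∃ s, s = t * v * t⁻¹ := ⟨_, rfl⟩
  have s1 : s ∈ 𝐂(ψ.range) := by rw [hs, ← r', ← cj_centralizer]; exact cj_mem t c2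
  have s2 : s ∈ 𝐍(χ.range) := by rw [hs, ← r, ← cj_normalizer]; exact cj_mem t m.1
  have s3 : ¬ Inn χ.range s := by rwa [hs, ← r, inn_cj_iff]
  have s4 : Cl ψ s := hs ▸ cl_cj c t
  have vs : Commute v s := by
    have hv : v ∈ closure {t, v} := subset_closure (by simp)
    have ht : t ∈ closure {t, v} := subset_closure (by simp)
    have hs' : s ∈ closure {t, v} := hs ▸ mul_mem (mul_mem ht hv) (inv_mem ht)
    refine commutatorElement_eq_one_iff_commute.1 (h.pa.odd _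
      (mul_mem (conj_mem_of_mem_normalizer (normalizer_le_normalizer_centralizer _ m.1) s1) (inv_mem s1)) ?_
      (P2.of_mem p (mul_mem (mul_mem (mul_mem hv hs') (inv_mem hv)) (inv_mem hs'))))
    rw [show ⁅v, s⁆ = v * (s * v⁻¹ * s⁻¹) by simp only [commutatorElement_def, mul_assoc]]
    exact mul_mem c2 (conj_mem_of_mem_normalizer (normalizer_le_normalizer_centralizer _ s2) (inv_mem c2))
  have ut : v * s * t = t * (v * s) := by
    conv_rhs => rw [vs.eq]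
    rw [hs, ti]
    calc _ = v * t * v * (t * t) := by group
      _ = t * t * v * t * v := by rw [t2]; group
      _ = _ := by group
  have cψ : χ.range ≤ 𝐂(ψ.range) := by
    rintro _ ⟨y, rfl⟩ _ ⟨x, rfl⟩
    exact h.pa.comm x y
  have uY : ∀ {a b : X}, rk a ≤ 1 → b * b = 1 →
      ¬ (IsConj (ψ a * χ b) (v * s) ∨ IsConj (ψ b * χ a) (v * s)) := fun ha hb k => by
    obtain ⟨x, -, e⟩ := h.n2 ha hb k ut
    refine o ⟨ψ x, ⟨x, rfl⟩, χ x * s⁻¹, mul_mem (cψ ⟨x, rfl⟩) (inv_mem s1), ?_⟩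
    rw [← (mul_mem (cψ ⟨x, rfl⟩) (inv_mem s1) : χ x * s⁻¹ ∈ _) _ ⟨x, rfl⟩, ← mul_assoc, ← e,
      mul_inv_cancel_right]
  obtain ⟨T, hT, hs'⟩ := exists_isSylowIn_le (P2.of_sq (cl_sq s4)).isP
    (le_sup_right : zpowers s ≤ χ.range ⊔ zpowers s)
  obtain ⟨_, ⟨l, rfl⟩, hl⟩ := h.pa.e2.sylU.conj
    (hT.inf_normal le_sup_left (sup_le le_normalizer (zpowers_le.2 s2)))
  obtain ⟨B, hB, b1, b2⟩ := h.st2 c m o
  have T1 : T ≤ 𝐂(ψ.range) := hT.le.trans (sup_le cψ (zpowers_le.2 s1))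
  have T2 : T ⊔ B.map ψ ≤ centralizer {v} := sup_le (hT.le.trans (sup_le
    (fun y hy => mem_centralizer_singleton_iff.2 (c2 y hy))
    (zpowers_le.2 (mem_centralizer_singleton_iff.2 vs.symm)))) (by
      rintro _ ⟨b, hb, rfl⟩
      exact mem_centralizer_singleton_iff.2 (b1 b hb).symm)
  obtain ⟨g, e, hg⟩ := h.ext c (P := T ⊔ B.map ψ) (IsPGroup.to_sup_of_normal_right' hT.isP (hB.map ψ)
    (le_normalizer_of_le_centralizer (T1.trans (centralizer_anti (map_le_range _ _)))))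
    fun y hy => mem_centralizer_singleton_iff.1 (T2 hy)
  obtain ⟨w, hw⟩ : ∃ w, w = g * s * g⁻¹ := ⟨_, rfl⟩
  have w1 : w ∈ Mo ψ χ := hw ▸ hg (cj_mem g (mem_sup_left (hs' (mem_zpowers s))))
  have w2 : Cl ψ w := hw ▸ cl_cj s4 g
  have w3 : IsConj (ψ (xe 0 iL 1) * w) (v * s) := (isConj_iff.2 ⟨g, by rw [← e, hw]; group⟩).symm
  have w4 : Commute (ψ (xe 0 iL 1)) w := by rw [← e, hw]; exact cj_comm_iff.2 vs
  by_cases i2 : Inn χ.range w
  swap
  · have := h.symm.st3 (h.cl_symm.2 w2) ⟨w1.2, w1.1⟩ i2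
    rw [← h.res, ← w4.eq] at this
    exact uY rkz.le (xe_sq _ _ _) (.inl (this.trans w3))
  by_cases i1 : Inn ψ.range w
  · obtain ⟨x, hx, rfl | rfl⟩ := h.rank1 w2 (h.pa.inn2 i1 i2 (P2.of_sq (cl_sq w2)))
    · have k : Commute (xe 0 iL 1 : X) x := h.pa.e1.comm2 (P2.of_sq (xe_sq _ _ _)) w4
      refine uY (a := 1) (b := xe 0 iL 1 * x) ((rk_zero.2 rfl).le.trans zero_le_one) ?_
        (.inr (by rwa [map_one, mul_one, map_mul]))
      rw [← sq, k.mul_pow, sq, sq, xe_sq, rk_sq hx.le, one_mul]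
    · exact uY rkz.le (rk_sq hx.le) (.inl w3)
  rcases Nat.eq_zero_or_pos n with hn | hn
  · obtain ⟨x, hx⟩ := al3 hn h.pa.e1 w1.1 (cl_sq w2) i1 (P2.of_sq (xe_sq 0 iL 1)) (by
      rw [← sq, w4.mul_pow, sq, sq, ← map_mul, xe_sq, map_one, cl_sq w2, one_mul])
    exact h.n0 (IsConj.trans (hx ▸ cl_cj w2 (ψ x)) w3) ut
  refine out hn h.pa.e2 s2 (cl_sq s4) s3 l fun y hy y2 => ?_
  have := h.st1 w2 w1 i1 _ (b2 g _ y e ((cj_mono g le_sup_right).trans hg)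
    ((cj_mono g (by rw [map_cj, hl]; exact inf_le_left.trans le_sup_left)).trans hg) hy y2)
  rw [hw] at this
  exact (cj_comm_iff.1 this).symm

end WE4

theorem Wk.inY (h : Wk ι ψ χ t) {v : G} (c : Cl ψ v) (m : v ∈ 𝐍(ψ.range ⊔ χ.range)) : v ∈ ψ.range ⊔ χ.range := by
  obtain ⟨k, hk, -, p⟩ := dih h.t2 (WE4.cl_sq c)
  have kM : k ∈ 𝐍(ψ.range ⊔ χ.range) := zpowers_le.2 (mul_mem h.ct.tM m) hk
  have c' := WE4.cl_cj c k
  have m' := h.nsw c' (mul_mem (mul_mem kM m) (inv_mem kM))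
  have i1 : Inn ψ.range (k * v * k⁻¹) := by_contra fun o => WE4.key h c' m' o p
  have i2 : Inn χ.range (k * v * k⁻¹) := by_contra fun o => WE4.key h.symm (h.cl_symm.2 c') ⟨m'.2, m'.1⟩ o p
  exact (mem_normalizer_iff.1 kM v).2 (h.pa.inn2 i1 i2 (P2.of_sq (WE4.cl_sq c')))

end LMS
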