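import Cfsg.Agent.Lib.LMS.RKM
import Cfsg.Agent.Lib.LMS.CM

set_option autoImplicit false
set_option linter.unusedSectionVars false

namespace LMS

open Subgroup H69 Cfsg Matrix U4S
open scoped MatrixGroups commutatorElement

universe u
variable {G : Type*} [Group G] [Finite G] {F : Type u} [Field F] [CharP F 2] [Fintype F] {n : ℕ} [Ok n F]
  {ι ψ χ : XX n F →* G} {t : G} {E : Subgroup G}

local notation "X" => XX n F
local notation "I" => Fin (n + 3)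
local notation "Mx" => Matrix (Fin (n + 3)) (Fin (n + 3)) F

namespace WL

theorem mem2 (p : Pa ψ χ) {A B : Subgroup X} {y : G} :
    y ∈ A.map ψ ⊔ B.map χ ↔ ∃ a ∈ A, ∃ b ∈ B, y = ψ a * χ b := by
  rw [mem_sup_of_le_normalizer_left (le_normalizer_of_le_centralizer (by
    rintro _ ⟨b, -, rfl⟩ _ ⟨a, -, rfl⟩; exact p.comm a b))]
  constructor
  · rintro ⟨_, ⟨a, ha, rfl⟩, _, ⟨b, hb, rfl⟩, rfl⟩; exact ⟨a, ha, b, hb, rfl⟩
  · rintro ⟨a, ha, b, hb, rfl⟩; exact ⟨_, ⟨a, ha, rfl⟩, _, ⟨b, hb, rfl⟩, rfl⟩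

theorem exC {J : Subgroup X} (hJ : El J) {α : X →* X} (h : ∀ x ∈ J, α x ∈ J) :
    ∃ C ≤ J, ∀ y, y ∈ C ↔ ∃ x ∈ J, y = x * α x := by
  let f : J →* X := MonoidHom.mk' (fun x => x.1 * α x.1) fun a b => by
    have := hJ.comm b.2 (h a a.2)
    rw [coe_mul, map_mul]
    calc (a : X) * b * (α a * α b) = a * (b * α a) * α b := by group
      _ = _ := by rw [this]; group
  refine ⟨f.range, ?_, fun y => ⟨?_, ?_⟩⟩
  · rintro _ ⟨x, rfl⟩; exact mul_mem x.2 (h _ x.2)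
  · rintro ⟨x, rfl⟩; exact ⟨x, x.2, rfl⟩
  · rintro ⟨x, hx, rfl⟩; exact ⟨⟨x, hx⟩, rfl⟩

/-- the conjugated line -/
structure Dt (ψ χ : XX n F →* G) (J J' : Subgroup (XX n F)) (R C : Subgroup G) : Prop where
  p : Pa ψ χ
  j : IsJ J
  j' : IsJ J'
  el : El R
  m : R ≤ 𝐍(ψ.range ⊔ χ.range)
  nj : R ≤ 𝐍(J.map ψ ⊔ J'.map χ)
  card : Nat.card C = Nat.card F ^ kk n
  cm : ∀ r ∈ R, r ≠ 1 → IsCm (J.map ψ ⊔ J'.map χ) r C

variable {J J' : Subgroup (XX n F)} {R C : Subgroup G} {r : G}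

theorem Dt.symm (h : Dt ψ χ J J' R C) : Dt χ ψ J' J R C :=
  ⟨h.p.symm, h.j', h.j, h.el, sup_comm ψ.range _ ▸ h.m, sup_comm (J.map ψ) _ ▸ h.nj, h.card,
    sup_comm (J.map ψ) _ ▸ h.cm⟩

theorem one_lt : 1 < Nat.card F := Finite.one_lt_card

theorem kk_pos : 1 ≤ kk n := by unfold kk; omega

theorem Dt.mo (h : Dt ψ χ J J' R C) (hr : r ∈ R) : r ∈ Mo ψ χ := by
  by_cases r1 : r = 1
  · rw [r1]; exact one_mem _
  refine (h.p.perm r (h.m hr)).elim id fun k => ?_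
  exfalso
  have P : ∀ x : J, P2 x.1 := fun x => P2.of_sq (h.j.el _ x.2)
  have e : ∀ x : J, ∃ y, P2 y ∧ χ y = r * ψ x * r⁻¹ := fun x =>
    h.p.e2.lift2 (k.1 ▸ cj_mem r ⟨x.1, rfl⟩) (((P x).elim fun j e => ⟨j, by rw [← map_pow, e, map_one]⟩ : P2 (ψ x)).cjg r)
  choose y y2 ey using e
  let f : J → C := fun x => ⟨ψ x * (r * ψ x * r⁻¹), ((h.cm r hr r1) _).2 ⟨_, mem_sup_left ⟨x.1, x.2, rfl⟩, rfl⟩⟩
  have i : Function.Injective f := fun x x' q => by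
    have q' : ψ x * χ (y x) = ψ x' * χ (y x') := by rw [ey, ey]; exact congrArg Subtype.val q
    exact Subtype.ext (h.p.uniq (P x) (y2 x) (P x') (y2 x') q').1
  have c := Nat.card_le_card_of_injective f i
  rw [h.j.card, h.card, Nat.pow_le_pow_iff_right one_lt] at c
  have := kk_le_MM (n := n)
  have := kk_pos (n := n)
  omega

theorem Dt.nJ (h : Dt ψ χ J J' R C) (hr : r ∈ R) {α : X →* X} (a : Act ψ r α) : ∀ x ∈ J, α x ∈ J := fun x hx => by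
  have := conj_mem_of_mem_normalizer (h.nj hr) (mem_sup_left (mem_map_of_mem ψ hx) : ψ x ∈ J.map ψ ⊔ J'.map χ)
  obtain ⟨u, hu, v, hv, e⟩ := (mem2 h.p).1 this
  rw [a x, ← mul_one (ψ _), ← χ.map_one] at e
  have x2 : α x * α x = 1 := by rw [← map_mul, h.j.el x hx, map_one]
  rw [(h.p.uniq (P2.of_sq x2) (P2.of_sq (mul_one 1)) (P2.of_sq (h.j.el u hu)) (P2.of_sq (h.j'.el v hv)) e).1]
  exact hu

theorem Dt.sq (h : Dt ψ χ J J' R C) (hr : r ∈ R) {α : X →* X} (a : Act ψ r α) (x : X) : α (α x) = x := by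
  have k : Act ψ (r * r) (MonoidHom.id _) := fun x => by rw [h.el r hr]; simp
  exact DFunLike.congr_fun ((a.mul a).uniq h.p.e1 k) x

theorem Dt.split (h : Dt ψ χ J J' R C) (hr : r ∈ R) (r1 : r ≠ 1) {α β : X →* X} (a : Act ψ r α) (b : Act χ r β) :
    ∃ D D' : Subgroup X, (∀ y, y ∈ D ↔ ∃ x ∈ J, y = x * α x) ∧ (∀ y, y ∈ D' ↔ ∃ x ∈ J', y = x * β x) ∧
      C = D.map ψ ⊔ D'.map χ ∧ Nat.card D * Nat.card D' = Nat.card F ^ kk n := by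
  obtain ⟨D, dl, hD⟩ := exC h.j.el (h.nJ hr a)
  obtain ⟨D', dl', hD'⟩ := exC h.j'.el (h.symm.nJ hr b)
  have f : ∀ u v, ψ u * χ v * (r * (ψ u * χ v) * r⁻¹) = ψ (u * α u) * χ (v * β v) := fun u v => by
    rw [map_mul, map_mul]
    calc ψ u * χ v * (r * (ψ u * χ v) * r⁻¹) = ψ u * (χ v * (r * ψ u * r⁻¹)) * (r * χ v * r⁻¹) := by group
      _ = _ := by rw [a, b, ← h.p.comm]; group
  have e : C = D.map ψ ⊔ D'.map χ := by
    ext y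
    rw [h.cm r hr r1 y, mem2 h.p]
    constructor
    · rintro ⟨w, hw, rfl⟩
      obtain ⟨u, hu, v, hv, rfl⟩ := (mem2 h.p).1 hw
      exact ⟨_, (hD _).2 ⟨u, hu, rfl⟩, _, (hD' _).2 ⟨v, hv, rfl⟩, f u v⟩
    · rintro ⟨u', hu', v', hv', rfl⟩
      obtain ⟨u, hu, rfl⟩ := (hD _).1 hu'
      obtain ⟨v, hv, rfl⟩ := (hD' _).1 hv'
      exact ⟨_, (mem2 h.p).2 ⟨u, hu, v, hv, rfl⟩, (f u v).symm⟩
  exact ⟨D, D', hD, hD', e, by
    rw [← h.card, e, (h.p.isP (h.j.el.mono dl).isP (h.j'.el.mono dl').isP).2]⟩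

theorem Dt.ng (h : Dt ψ χ J J' R C) (hr : r ∈ R) (r1 : r ≠ 1) (k : NG ψ r) : C ≤ χ.range ∨
    (C ≤ ψ.range ∧ (n ≠ 1 → ∀ y ∈ C, ∃ x, rk x ≤ 1 ∧ y = ψ x)) := by
  obtain ⟨g, φ, a⟩ := k
  obtain ⟨g', φ', ε', b⟩ := h.p.e2.act (h.mo hr).2
  obtain ⟨D, D', hD, -, e, c⟩ := h.split hr r1 a b
  obtain ⟨k1, k2⟩ := cm_ng h.j (h.nJ hr a) (fun x _ => h.sq hr a x) hD
  rcases k1 with k1 | k1
  · left; rw [e, k1, Subgroup.map_bot, bot_sup_eq]; exact map_le_range _ _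
  · right
    have p1 : 0 < Nat.card D' := Nat.card_pos
    have p2 : 0 < Nat.card D := Nat.card_pos
    have c1 : Nat.card D' = 1 := by nlinarith
    rw [c1, mul_one] at c
    rw [e, card_eq_one.1 c1, Subgroup.map_bot, sup_bot_eq]
    refine ⟨map_le_range _ _, fun n1 => ?_⟩
    rintro _ ⟨x, hx, rfl⟩
    exact ⟨x, k2 n1 c x hx, rfl⟩

theorem Dt.exNG (h : Dt ψ χ J J' R C) (c : 4 ≤ Nat.card R) : ∃ r ∈ R, r ≠ 1 ∧ NG ψ r := by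
  classical
  have : Fintype R := Fintype.ofFinite _
  rw [Nat.card_eq_fintype_card, ← Finset.card_univ] at c
  obtain ⟨a, -, a1⟩ := Finset.exists_mem_notMem_of_card_lt_card (s := ({1} : Finset R)) (t := Finset.univ) (by
    rw [Finset.card_singleton]; omega)
  obtain ⟨b, -, b1⟩ := Finset.exists_mem_notMem_of_card_lt_card (s := ({1, a} : Finset R)) (t := Finset.univ) (by
    have := Finset.card_le_two (a := (1 : R)) (b := a)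
    omega)
  simp only [Finset.mem_insert, Finset.mem_singleton, not_or] at a1 b1
  by_cases k : NG ψ a
  · exact ⟨a, a.2, fun e => a1 (Subtype.ext e), k⟩
  by_cases k' : NG ψ b
  · exact ⟨b, b.2, fun e => b1.1 (Subtype.ext e), k'⟩
  refine ⟨a * b, mul_mem a.2 b.2, fun e => b1.2 (Subtype.ext ?_), h.p.e1.ng_mul (h.mo a.2).1 (h.mo b.2).1 k k'⟩
  rw [← inv_eq_of_mul_eq_one_right e, h.el.inv a.2]

theorem Dt.side (h : Dt ψ χ J J' R C) (ne : R ≠ ⊥) (four : n = 1 → 4 ≤ Nat.card R) : C ≤ ψ.range ∨ C ≤ χ.range := by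
  have A : (∃ r ∈ R, r ≠ 1 ∧ NG ψ r) → C ≤ ψ.range ∨ C ≤ χ.range := fun ⟨r, hr, r1, k⟩ =>
    (h.ng hr r1 k).elim Or.inr fun k => Or.inl k.1
  obtain ⟨⟨r, hr⟩, r1⟩ := ne_bot_iff_exists_ne_one.1 ne
  have r1 : r ≠ 1 := fun e => r1 (Subtype.ext e)
  obtain ⟨g, φ, ε, a⟩ := h.p.e1.act (h.mo hr).1
  obtain ⟨g', φ', ε', b⟩ := h.p.e2.act (h.mo hr).2
  cases ε
  · exact A ⟨r, hr, r1, g, φ, a⟩
  cases ε'
  · exact (h.symm.ng hr r1 ⟨g', φ', b⟩).imp_right fun k => k.1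
  obtain ⟨D, D', hD, hD', -, c⟩ := h.split hr r1 a b
  obtain ⟨o, c1⟩ := cm_g h.j (h.nJ hr a) hD
  have c2 := (cm_g h.j' (h.symm.nJ hr b) hD').2
  have c3 := Nat.mul_le_mul c1 c2
  rw [c, ← pow_add, Nat.pow_le_pow_iff_right one_lt] at c3
  refine A (h.exNG (four ?_))
  obtain ⟨m, rfl⟩ := o
  unfold kk at c3
  omega

theorem Dt.rank (h : Dt ψ χ J J' R C) (k : C ≤ ψ.range) (n1 : n ≠ 1) (c : 4 ≤ Nat.card R) :
    ∀ y ∈ C, ∃ x, rk x ≤ 1 ∧ y = ψ x := by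
  obtain ⟨r, hr, r1, g⟩ := h.exNG c
  refine (h.ng hr r1 g).elim (fun k' y hy => ⟨1, by rw [rk_zero.2 rfl]; omega, ?_⟩) fun k => k.2 n1
  obtain ⟨v, hv, e⟩ := (h.cm r hr r1 y).1 hy
  have el := (h.p.elJ h.j h.j').1
  have y2 : y * y = 1 := el y (e ▸ mul_mem hv (conj_mem_of_mem_normalizer (h.nj hr) hv))
  obtain ⟨x, -, rfl⟩ := h.p.e2.lifti (k' hy) y2
  rw [map_one]
  refine (P2.of_sq y2).eq_one (h.p.e1.cc (k hy) ?_)
  rintro _ ⟨u, rfl⟩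
  exact h.p.comm u x

end WL

open WL in
theorem wl (p : Pa ψ χ) {J J' R C : Subgroup X} (hJ : IsJ J) (hJ' : IsJ J') (l : Ln J R C) {g : G}
    (h1 : (J.map ψ ⊔ J'.map χ) ^ᶜ g ≤ 𝐍(ψ.range ⊔ χ.range)) (h2 : R.map ψ ^ᶜ g ≤ 𝐍(ψ.range ⊔ χ.range)) :
    (C.map ψ ^ᶜ g ≤ ψ.range ∧ (n ≠ 1 → 4 ≤ Nat.card R → ∀ c ∈ C, ∃ x, rk x ≤ 1 ∧ g * ψ c * g⁻¹ = ψ x)) ∨
    (C.map ψ ^ᶜ g ≤ χ.range ∧ (n ≠ 1 → 4 ≤ Nat.card R → ∀ c ∈ C, ∃ x, rk x ≤ 1 ∧ g * ψ c * g⁻¹ = χ x)) := by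
  obtain ⟨el, cd, -⟩ := p.elJ hJ hJ'
  obtain ⟨K, K', hK, hK', e⟩ := p.rkm (el.cjg g) h1 (by rw [card_cj, cd])
  have cR : Nat.card ↥(R.map ψ ^ᶜ g) = Nat.card R := by rw [card_cj, p.e1.card2 l.el.isP]
  have f : ∀ r u v, ψ r * (ψ u * χ v) * (ψ r)⁻¹ = ψ (r * u * r⁻¹) * χ v := fun r u v => by
    rw [map_mul, map_mul, mul_assoc, mul_assoc, ← map_inv, ← p.comm]; group
  have nj : R.map ψ ≤ 𝐍(J.map ψ ⊔ J'.map χ) := by
    rintro _ ⟨r, hr, rfl⟩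
    refine mem_normalizer_fintype fun y hy => ?_
    obtain ⟨u, hu, v, hv, rfl⟩ := (mem2 p).1 hy
    exact (mem2 p).2 ⟨_, conj_mem_of_mem_normalizer (l.nJ hr) hu, v, hv, f r u v⟩
  have f2 : ∀ r u, ∀ v ∈ J', ψ u * χ v * (ψ r * (ψ u * χ v) * (ψ r)⁻¹) = ψ (u * (r * u * r⁻¹)) :=
    fun r u v hv => by
      rw [f, mul_assoc, ← mul_assoc (χ v), ← p.comm, mul_assoc, ← map_mul χ, hJ'.el v hv, map_one, mul_one,
        ← map_mul]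
  have d : Dt ψ χ K K' (R.map ψ ^ᶜ g) (C.map ψ ^ᶜ g) := by
    refine ⟨p, hK, hK', (l.el.map ψ).cjg g, h2, ?_, ?_, ?_⟩
    · rw [← e, ← cj_normalizer]; exact map_mono nj
    · rw [card_cj, p.e1.card2 (hJ.el.mono l.le).isP, l.card]
    · rintro _ ⟨_, ⟨r, hr, rfl⟩, rfl⟩ r1 y
      have r1' : r ≠ 1 := by rintro rfl; simp at r1
      rw [← e]
      constructor
      · rintro ⟨_, ⟨c, hc, rfl⟩, rfl⟩
        obtain ⟨u, hu, rfl⟩ := (l.cm r hr r1' c).1 hc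
        refine ⟨g * ψ u * g⁻¹, cj_mem g (mem_sup_left (mem_map_of_mem ψ hu)), ?_⟩
        simp only [MulEquiv.coe_toMonoidHom, MulAut.conj_apply, map_mul ψ, map_inv ψ]; group
      · rintro ⟨_, ⟨w, hw, rfl⟩, rfl⟩
        obtain ⟨u, hu, v, hv, rfl⟩ := (mem2 p).1 hw
        refine ⟨_, ⟨_, (l.cm r hr r1' _).2 ⟨u, hu, rfl⟩, rfl⟩, ?_⟩
        rw [← f2 r u v hv]
        simp only [MulEquiv.coe_toMonoidHom, MulAut.conj_apply]; group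
  have ne : R.map ψ ^ᶜ g ≠ ⊥ := fun q => l.ne (card_eq_one.1 (by rw [← cR, q, card_bot]))
  rcases d.side ne (fun q => cR ▸ l.four q) with k | k
  · exact Or.inl ⟨k, fun n1 c x hx => d.rank k n1 (cR ▸ c) _ (cj_mem g ⟨x, hx, rfl⟩)⟩
  · exact Or.inr ⟨k, fun n1 c x hx => d.symm.rank k n1 (cR ▸ c) _ (cj_mem g ⟨x, hx, rfl⟩)⟩

end LMS
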