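import Cfsg.Agent.Lib.LMS.RKM
import Cfsg.Agent.Lib.G2S.Gen

/-! Standard subgroups of type `L_m(2^n)`: a transvection of one factor is extremal in the base group. -/

set_option autoImplicit false
set_option linter.unusedSectionVars false

namespace LMS

open Subgroup H69 Cfsg Matrix U4S
open scoped MatrixGroups commutatorElement

universe u
variable {G : Type*} [Group G] [Finite G] {F : Type u} [Field F] [CharP F 2] [Fintype F] {n : ℕ} [Ok n F]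
  {ι ψ χ : XX n F →* G} {t : G} {E : Subgroup G}

local notation "X" => XX n F
local notation "I" => Fin (n + 3)

theorem WNe.h0L : (0 : I) ≠ iL := by
  intro h
  have := congrArg Fin.val h
  simp at this

theorem WNe.sw (h : Wk ι ψ χ t) (W : Subgroup X) : W.map ψ ^ᶜ t = W.map χ := by
  have ti : t⁻¹ = t := inv_eq_of_mul_eq_one_right h.t2
  ext y
  rw [mem_cj']
  constructor
  · rintro ⟨_, ⟨x, hx, rfl⟩, rfl⟩
    exact ⟨x, hx, by rw [ti, h.sw]⟩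
  · rintro ⟨x, hx, rfl⟩
    exact ⟨_, ⟨x, hx, rfl⟩, by rw [ti, h.sw]⟩

theorem WNe.tn (h : Wk ι ψ χ t) (W : Subgroup X) : t ∈ 𝐍(W.map ψ ⊔ W.map χ) := by
  have ti : t⁻¹ = t := inv_eq_of_mul_eq_one_right h.t2
  have e := WNe.sw h W
  have e' : W.map χ ^ᶜ t = W.map ψ := by
    have := cj_eq_iff.1 e
    rw [ti] at this
    exact this.symm
  rw [← cj_eq_self_iff, cj_sup, e, e', sup_comm]

theorem WNe.cl {c : F} (hc : c ≠ 0) : ∃ x : X, x * xe 0 iL c * x⁻¹ = xe 0 iL 1 := by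
  obtain ⟨d, hd, e⟩ := ex_dg (n := n) WNe.h0L (inv_ne_zero hc)
  exact ⟨H63.St.SL.dg d hd, by rw [H63.St.SL.dg_conj hd WNe.h0L, e, inv_mul_cancel₀ hc]⟩

theorem WNe.syl (h : Wk ι ψ χ t) (n0 : ∀ v, Cl ψ v → v * t ≠ t * v) :
    ∃ c : F, c ≠ 0 ∧ ∃ S, IsSylowIn 2 S (centralizer {ψ (xe 0 iL c)}) ∧ S ≤ Mo ψ χ := by
  have pU := (sylU (n := n) (F := F)).isP
  have p0 := isPGroup_sup_of_le_normalizer_right (el_zpowers h.t2).isP (h.pa.isP pU pU).1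
    (zpowers_le.2 (WNe.tn h _))
  obtain ⟨S, hS, hle⟩ := exists_isSylowIn_le p0 le_top
  have tS : t ∈ S := hle (mem_sup_left (mem_zpowers t))
  have SM := h.ct.two_le hS.isP tS
  have US : (UU n F).map ψ ≤ S ⊓ Mo ψ χ :=
    le_inf ((le_sup_left.trans le_sup_right).trans hle)
      (((map_le_range _ _).trans le_sup_left).trans h.pa.Mo_le.2)
  have p1 : IsPGroup 2 (S ⊓ Mo ψ χ : Subgroup G) := hS.isP.to_inf_left
  have eU : (S ⊓ Mo ψ χ) ⊓ ψ.range = (UU n F).map ψ :=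
    h.pa.e1.sylU.max _ (le_inf US (map_le_range _ _)) inf_le_right p1.to_inf_left
  have nU : S ⊓ Mo ψ χ ≤ 𝐍((UU n F).map ψ) := by
    rw [← eU]
    exact le_normalizer_inf le_normalizer (inf_le_right.trans inf_le_left)
  have ne : (UU n F).map ψ ≠ ⊥ := by
    intro e
    have m : (xe 0 iL 1 : X) ∈ UU n F := subset_closure ⟨0, iL, 1, Fin.last_pos, rfl⟩
    have : ψ (xe 0 iL 1) ∈ (⊥ : Subgroup G) := e ▸ mem_map_of_mem ψ m
    exact one_ne_zero (xe_cen WNe.h0L (h.pa.e1 (mem_bot.1 this)))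
  obtain ⟨⟨_, ⟨u, hu, rfl⟩, zc⟩, z1⟩ := ne_bot_iff_exists_ne_one.1
    (inf_centralizer_ne_bot (pU.map ψ) p1 nU ne)
  have P2u : P2 u := isPGroup_iff_mem.1 pU u hu
  obtain ⟨c, rfl⟩ := mem_RR.1 (cen_U hu fun w hw =>
    (h.pa.e1.comm2 P2u (zc _ (US (mem_map_of_mem ψ hw))).symm).symm)
  have hc : c ≠ 0 := by
    rintro rfl
    exact z1 (Subtype.ext (by simp [xe_zero]))
  obtain ⟨x, hx⟩ := WNe.cl (n := n) hc
  have cl : ∀ g, Cl ψ (g * ψ (xe 0 iL c) * g⁻¹) := fun g =>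
    IsConj.trans (isConj_iff.2 ⟨ψ x, by rw [← map_inv, ← map_mul, ← map_mul, hx]⟩).symm
      (isConj_iff.2 ⟨g, rfl⟩)
  have le : S ⊓ Mo ψ χ ≤ centralizer {ψ (xe 0 iL c)} := fun s hs =>
    mem_centralizer_singleton_iff.2 (zc s hs)
  have tM : t ∉ Mo ψ χ := fun k => n0 _ (by simpa using cl 1) (zc t ⟨tS, k⟩).symm
  have idx : (S ⊓ Mo ψ χ).relIndex S = 2 := relIndex_eq_two_iff_exists_notMem_and.2
    ⟨t, tS, fun k => tM k.2, fun b hb => by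
      by_cases k : b ∈ Mo ψ χ
      · exact Or.inr ⟨hb, k⟩
      · exact Or.inl ⟨mul_mem hb tS, h.pa.sw_mul (SM hb) (SM tS) k tM⟩⟩
  have cS := H89.G2S.Gen.card_rel (inf_le_left : S ⊓ Mo ψ χ ≤ S)
  rw [idx] at cS
  refine ⟨c, hc, S ⊓ Mo ψ χ, ⟨le, p1, fun T h1 h2 h3 => ?_⟩, inf_le_right⟩
  obtain ⟨m, hm⟩ := card_dvd_of_le h1
  have hd := hS.card_dvd h3 le_top
  rw [← cS, hm] at hd
  rcases (Nat.dvd_prime Nat.prime_two).1 (Nat.dvd_of_mul_dvd_mul_left Nat.card_pos hd) with rfl | rfl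
  · exact (eq_of_le_of_card_ge h1 (by rw [hm, mul_one])).symm
  · obtain ⟨g, -, e⟩ := hS.exists_cj_le h3 le_top
    have e' : T ^ᶜ g = S := eq_of_le_of_card_ge e (by rw [card_cj, hm, cS])
    obtain ⟨a, ha, e2⟩ := mem_cj'.1 (e' ▸ tS : t ∈ T ^ᶜ g)
    refine absurd ?_ (n0 _ (cl g))
    rw [e2]
    exact H89.G2S.Gen.cjc (mem_centralizer_singleton_iff.1 (h2 ha)).symm

theorem Wk.ext_of (h : Wk ι ψ χ t) (n0 : ∀ v, Cl ψ v → v * t ≠ t * v) {v : G} (c : Cl ψ v) {P : Subgroup G}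
    (hP : IsPGroup 2 P) (k : ∀ p ∈ P, p * v = v * p) : ∃ g, g * v * g⁻¹ = ψ (xe 0 iL 1) ∧ P ^ᶜ g ≤ Mo ψ χ := by
  obtain ⟨a, ha, S, hS, hM⟩ := WNe.syl h n0
  obtain ⟨x, hx⟩ := WNe.cl (n := n) ha
  have e : ψ x * ψ (xe 0 iL a) * (ψ x)⁻¹ = ψ (xe 0 iL 1) := by rw [← map_inv, ← map_mul, ← map_mul, hx]
  obtain ⟨g, hg⟩ := isConj_iff.1 (IsConj.trans c.symm (isConj_iff.2 ⟨_, e⟩).symm)
  obtain ⟨j, h1, h2⟩ := H89.G2S.ext_cent hS hg hP k
  have xM : ψ x ∈ Mo ψ χ := h.pa.Mo_le.2 (mem_sup_left ⟨x, rfl⟩)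
  refine ⟨ψ x * j, by rw [← e, ← h1]; group, fun y hy => ?_⟩
  obtain ⟨p, hp, rfl⟩ := mem_cj'.1 hy
  have := mul_mem (mul_mem xM (hM (h2 p hp))) (inv_mem xM)
  convert this using 1
  group

end LMS
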