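import Cfsg.Agent.Lib.LMS.WL
import Cfsg.Agent.Lib.LMS.LN
import Cfsg.Agent.Lib.LMS.M4

set_option autoImplicit false
set_option linter.unusedSectionVars false

namespace LMS

open Subgroup H69 Cfsg Matrix U4S
open scoped MatrixGroups commutatorElement

universe u
variable {G : Type*} [Group G] [Finite G] {F : Type u} [Field F] [CharP F 2] [Fintype F] {n : ℕ} [Ok n F]
  {ι ψ χ : XX n F →* G} {t : G} {E : Subgroup G}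

local notation "X" => XX n F
local notation "I" => Fin (n + 3)
local notation "Mx" => Matrix (Fin (n + 3)) (Fin (n + 3)) F

namespace WS

theorem cj_map (W : Subgroup X) (g : G) : W.map ψ ^ᶜ g = W.map (cι ψ g) := by
  ext y
  rw [mem_cj']
  exact ⟨fun ⟨_, ⟨x, hx, e⟩, e'⟩ => ⟨x, hx, by rw [e', ← e, cι_apply]⟩,
    fun ⟨x, hx, e⟩ => ⟨_, mem_map_of_mem ψ hx, e.symm⟩⟩

theorem dis (p : Pa ψ χ) {y : G} (h1 : y ∈ ψ.range) (h2 : y ∈ χ.range) (y2 : y * y = 1) : y = 1 := by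
  refine p.odd y ?_ ?_ (P2.of_sq y2)
  · obtain ⟨b, rfl⟩ := h2
    rintro _ ⟨a, rfl⟩
    exact p.comm a b
  · obtain ⟨a, rfl⟩ := h1
    rintro _ ⟨b, rfl⟩
    exact (p.comm a b).symm

theorem mem_sup2 (c : ∀ x y, ψ x * χ y = χ y * ψ x) {A B : Subgroup X} {y : G} (h : y ∈ A.map ψ ⊔ B.map χ) :
    ∃ a ∈ A, ∃ b ∈ B, y = ψ a * χ b := by
  obtain ⟨_, ⟨a, ha, rfl⟩, _, ⟨b, hb, rfl⟩, e⟩ := (mem_sup_of_le_normalizer_right
    (le_normalizer_of_le_centralizer (by rintro _ ⟨a, -, rfl⟩ _ ⟨b, -, rfl⟩; exact (c a b).symm))).1 h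
  exact ⟨a, ha, b, hb, e⟩

theorem core {ψ₀ χ₀ : X →* G} (p : Pa ψ χ) (e0 : Em ψ₀) (c0 : ∀ x y, ψ₀ x * χ₀ y = χ₀ y * ψ₀ x)
    {J' J1 J2 : Subgroup X} (hJ' : IsJ J') (h1 : IsJ J1) (h2 : IsJ J2)
    (e : (JJ n F (kk n)).map ψ₀ ⊔ J'.map χ₀ = J1.map ψ ⊔ J2.map χ)
    (hU : (UU n F).map ψ₀ ≤ 𝐍(ψ.range ⊔ χ.range)) (hz : ∀ c, ψ₀ (xe 0 iL c) ∈ ψ.range) :
    (n = 1 → ∀ c, ∃ x, rk x ≤ 1 ∧ ψ₀ (xe 0 iL c) = ψ x) ∧
      ∀ y ∈ J', ∃ c, ψ₀ (xe 0 iL c) * χ₀ y ∈ χ.range := by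
  have L0 : (0 : I) ≠ iL := Fin.last_pos.ne
  have hJ : IsJ (JJ n F (kk n)) := isJ_kk
  have z2 : ∀ c, ψ₀ (xe 0 iL c) * ψ₀ (xe 0 iL c) = 1 := fun c => by rw [← map_mul, xe_sq, map_one]
  have zc : ∀ c, ∀ u ∈ UU n F, ψ₀ u * ψ₀ (xe 0 iL c) = ψ₀ (xe 0 iL c) * ψ₀ u := fun c u hu => by
    rw [← map_mul, ← map_mul, RR_cen (mem_RR.2 ⟨c, rfl⟩) hu]
  have mo : (UU n F).map ψ₀ ≤ Mo ψ χ := by
    rintro _ ⟨u, hu, rfl⟩
    refine (p.perm _ (hU (mem_map_of_mem _ hu))).resolve_right fun d => ?_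
    have m := cj_mem (ψ₀ u) (hz 1)
    rw [d.1, zc 1 u hu, mul_inv_cancel_right] at m
    have := e0.inj2 (P2.of_sq (xe_sq 0 iL 1)) (P2.of_sq (mul_one 1))
      ((dis p (hz 1) m (z2 1)).trans (map_one ψ₀).symm)
    exact one_ne_zero (xe_cen L0 (this ▸ one_mem _))
  have nJ : (UU n F).map ψ₀ ≤ 𝐍((JJ n F (kk n)).map ψ₀) := (map_mono (UU_nJ _)).trans (le_normalizer_map ψ₀)
  have nE : (UU n F).map ψ₀ ≤ 𝐍(J1.map ψ ⊔ J2.map χ) := e ▸ le_normalizer_sup nJ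
    (le_normalizer_of_le_centralizer (by rintro _ ⟨a, -, rfl⟩ _ ⟨b, -, rfl⟩; exact (c0 a b).symm))
  have eE := (p.elJ h1 h2).1
  have n2 : (UU n F).map ψ₀ ≤ 𝐍((J1.map ψ ⊔ J2.map χ) ⊓ χ.range) :=
    le_normalizer_inf nE (mo.trans inf_le_right)
  have K : ∀ y ∈ (J1.map ψ ⊔ J2.map χ) ⊓ χ.range, y ∈ (JJ n F (kk n)).map ψ₀ → y = 1 := by
    intro y hy hy'
    by_contra y1
    refine inf_centralizer_ne_bot (p := 2) (R := ((J1.map ψ ⊔ J2.map χ) ⊓ χ.range) ⊓ (JJ n F (kk n)).map ψ₀)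
      (T := (UU n F).map ψ₀) (hJ.el.map ψ₀).isP.to_inf_right (sylU.isP.map _) (le_normalizer_inf n2 nJ)
      (fun d => y1 (mem_bot.1 (d ▸ ⟨hy, hy'⟩))) (eq_bot_iff.2 ?_)
    rintro _ ⟨⟨m, w, hw, rfl⟩, c⟩
    obtain ⟨a, rfl⟩ := mem_RR.1 (cen_U (JJ_le _ hw) fun u hu =>
      (e0.comm2 (P2.of_sq (hJ.el w hw)) (c _ (mem_map_of_mem _ hu)).symm).symm)
    exact dis p (hz a) m.2 (z2 a)
  have cU : ∀ u ∈ UU n F, ∀ y ∈ (J1.map ψ ⊔ J2.map χ) ⊓ χ.range, ψ₀ u * y = y * ψ₀ u := by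
    intro u hu y hy
    have m := mul_mem (conj_mem_of_mem_normalizer (n2 (mem_map_of_mem _ hu)) hy) (inv_mem hy)
    obtain ⟨a, ha, b, -, rfl⟩ := mem_sup2 c0 (e ▸ hy.1 : y ∈ (JJ n F (kk n)).map ψ₀ ⊔ J'.map χ₀)
    have e1 : ψ₀ u * (ψ₀ a * χ₀ b) * (ψ₀ u)⁻¹ * (ψ₀ a * χ₀ b)⁻¹ = ψ₀ (u * a * u⁻¹ * a⁻¹) := by
      rw [← map_inv, mul_assoc (ψ₀ u), mul_assoc (ψ₀ a), ← c0]
      simp only [map_mul, map_inv]
      group
    have := K _ m (e1 ▸ mem_map_of_mem _ (mul_mem (conj_mem_of_mem_normalizer (UU_nJ _ hu) ha) (inv_mem ha)))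
    rwa [mul_inv_eq_one, mul_inv_eq_iff_eq_mul] at this
  have le2 : J2.map χ ≤ (J1.map ψ ⊔ J2.map χ) ⊓ χ.range := le_inf le_sup_right (map_le_range _ _)
  refine ⟨fun hn c => ?_, ?_⟩
  · have e1 : (J1.map ψ ⊔ J2.map χ) ⊓ ψ.range = J1.map ψ := by
      refine le_antisymm (fun y hy => ?_) (le_inf le_sup_left (map_le_range _ _))
      obtain ⟨a, ha, b, hb, rfl⟩ := mem_sup2 p.comm hy.1
      have : χ b = 1 := dis p ((mul_mem_cancel_left (MonoidHom.mem_range.2 ⟨a, rfl⟩)).1 hy.2) ⟨b, rfl⟩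
        (by rw [← map_mul, h2.el b hb, map_one])
      rw [this, mul_one]
      exact mem_map_of_mem _ ha
    obtain ⟨T, eT, TU, cT, fT⟩ := ln4 (F := F) hn
    have m : ψ₀ (xe 0 iL c) ∈ J1.map ψ := by
      rw [← e1, ← e]
      exact ⟨mem_sup_left (mem_map_of_mem _
        (RR_le_JJ (by unfold kk; omega) (by unfold kk; omega) (mem_RR.2 ⟨c, rfl⟩))), hz c⟩
    obtain ⟨y, hy, ey⟩ := m
    refine ⟨y, m4 hn p.e1 h1 (eT.map ψ₀) ((map_mono TU).trans (mo.trans inf_le_left))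
      ((map_mono TU).trans (e1 ▸ le_normalizer_inf nE (mo.trans inf_le_left))) ?_
      (by rw [e0.card2 eT.isP, cT]) hy ?_, ey.symm⟩
    · rintro _ ⟨u, hu, rfl⟩ k
      rw [fT u hu fun x hx => e0.comm2 (P2.of_sq (eT u hu)) ?_, map_one]
      obtain ⟨a, ha, b, hb, d⟩ := mem_sup2 p.comm (e ▸ mem_sup_left (mem_map_of_mem ψ₀ hx))
      rw [d, ← mul_assoc, k a ha, mul_assoc, cU u (TU hu) _ (le2 (mem_map_of_mem _ hb)), mul_assoc]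
    · rintro _ ⟨u, hu, rfl⟩
      rw [ey, zc c u (TU hu)]
  · have ex : ∀ y : ↥((J1.map ψ ⊔ J2.map χ) ⊓ χ.range), ∃ b : J', ∃ c, (y : G) = ψ₀ (xe 0 iL c) * χ₀ b := by
      rintro ⟨y, hy⟩
      have k := fun u hu => cU u hu y hy
      obtain ⟨a, ha, b, hb, rfl⟩ := mem_sup2 c0 (e ▸ hy.1 : y ∈ (JJ n F (kk n)).map ψ₀ ⊔ J'.map χ₀)
      obtain ⟨c, rfl⟩ := mem_RR.1 (cen_U (JJ_le _ ha) fun u hu => (e0.comm2 (P2.of_sq (hJ.el a ha)) (by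
        have := k u hu
        rw [mul_assoc, ← c0, ← mul_assoc, ← mul_assoc, mul_left_inj] at this
        exact this.symm)).symm)
      exact ⟨⟨b, hb⟩, c, rfl⟩
    choose f c hf using ex
    have inj : Function.Injective f := fun y y' d => by
      have m := mul_mem y.2 (inv_mem y'.2)
      have e1 : (y : G) * (y' : G)⁻¹ = ψ₀ (xe 0 iL (c y) * (xe 0 iL (c y'))⁻¹) := by
        rw [hf y, hf y', d, map_mul, map_inv]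
        group
      have := K _ m (e1 ▸ mem_map_of_mem _ (RR_le_JJ (by unfold kk; omega) (by unfold kk; omega)
        (mul_mem (mem_RR.2 ⟨_, rfl⟩) (inv_mem (mem_RR.2 ⟨_, rfl⟩)))))
      exact Subtype.ext (mul_inv_eq_one.1 this)
    have bij := inj.bijective_of_nat_card_le (by
      rw [hJ'.card, ← h2.card, ← p.e2.card2 h2.el.isP]
      exact card_le_of_le le2)
    intro y hy
    obtain ⟨x, hx⟩ := bij.2 ⟨y, hy⟩
    refine ⟨c x, ?_⟩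
    have := x.2.2
    rwa [hf x, hx] at this

end WS

open WS

theorem ws (p : Pa ψ χ) {J' : Subgroup X} (hJ' : IsJ J') {g : G}
    (h : ((UU n F).map ψ ⊔ J'.map χ) ^ᶜ g ≤ 𝐍(ψ.range ⊔ χ.range)) :
    ((∀ c, ∃ x, rk x ≤ 1 ∧ g * ψ (xe 0 iL c) * g⁻¹ = ψ x) ∧
      ∀ y ∈ J', ∃ c, g * (ψ (xe 0 iL c) * χ y) * g⁻¹ ∈ χ.range) ∨
    ((∀ c, ∃ x, rk x ≤ 1 ∧ g * ψ (xe 0 iL c) * g⁻¹ = χ x) ∧
      ∀ y ∈ J', ∃ c, g * (ψ (xe 0 iL c) * χ y) * g⁻¹ ∈ ψ.range) := by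
  have hJ : IsJ (JJ n F (kk n)) := isJ_kk
  have h1 : ((JJ n F (kk n)).map ψ ⊔ J'.map χ) ^ᶜ g ≤ 𝐍(ψ.range ⊔ χ.range) :=
    (cj_mono g (sup_le_sup_right (map_mono (JJ_le _)) _)).trans h
  have hU : (UU n F).map ψ ^ᶜ g ≤ 𝐍(ψ.range ⊔ χ.range) := (cj_mono g le_sup_left).trans h
  obtain ⟨R, C, l, R4, RU, ZC, -⟩ := ln1 (n := n) (F := F)
  obtain ⟨J1, J2, j1, j2, e⟩ := p.rkm ((p.elJ hJ hJ').1.cjg g) h1 (by rw [card_cj, (p.elJ hJ hJ').2.1])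
  rw [cj_sup, cj_map, cj_map] at e
  have c0 : ∀ x y, cι ψ g x * cι χ g y = cι χ g y * cι ψ g x := fun x y => cj_comm_iff.2 (p.comm x y)
  have zC : ∀ c, xe 0 iL c ∈ C := fun c => ZC (mem_RR.2 ⟨c, rfl⟩)
  have ee : ∀ c y, g * (ψ (xe 0 iL c) * χ y) * g⁻¹ = cι ψ g (xe 0 iL c) * cι χ g y := fun c y =>
    conj_mul.symm
  simp only [ee]
  rcases wl p hJ hJ' l h1 ((cj_mono g (map_mono RU)).trans hU) with ⟨k1, k2⟩ | ⟨k1, k2⟩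
  · obtain ⟨a, b⟩ := core p (p.e1.cj g) c0 hJ' j1 j2 e (cj_map (ψ := ψ) _ g ▸ hU)
      fun c => k1 (cj_mem g (mem_map_of_mem ψ (zC c)))
    refine Or.inl ⟨fun c => ?_, b⟩
    by_cases hn : n = 1
    · exact a hn c
    · exact k2 hn R4 _ (zC c)
  · obtain ⟨a, b⟩ := core p.symm (p.e1.cj g) c0 hJ' j2 j1 (e.trans (sup_comm _ _))
      (sup_comm ψ.range χ.range ▸ cj_map (ψ := ψ) _ g ▸ hU) fun c => k1 (cj_mem g (mem_map_of_mem ψ (zC c)))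
    refine Or.inr ⟨fun c => ?_, b⟩
    by_cases hn : n = 1
    · exact a hn c
    · exact k2 hn R4 _ (zC c)

end LMS
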